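import Groth.Agent.HTopHyper.Hyper.TrivFibHypercovering
import Groth.Agent.SiteCohomology.CechFamily
import Groth.Prelude.Def_Hyper2

/-!
Čech cohomology of acyclic sheaves with respect to hypercoverings.
-/

set_option autoImplicit false
set_option backward.isDefEq.respectTransparency false
set_option synthInstance.maxHeartbeats 400000

universe u

open CategoryTheory CategoryTheory.Limits Opposite Simplicial AlgebraicTopology

namespace Groth.HyperLib

open Groth.SiteCohomology

variable {C : Type u} [SmallCategory C] (J : GrothendieckTopology C)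

/-- an augmented simplicial presheaf from a map to a constant -/
abbrev augOf {P : SimplicialObject (Cᵒᵖ ⥤ Type u)} {Q : Cᵒᵖ ⥤ Type u}
    (v : P ⟶ (SimplicialObject.const _).obj Q) : SimplicialObject.Augmented (Cᵒᵖ ⥤ Type u) :=
  ⟨P, Q, v⟩

variable {J}

theorem isAugResolution_of_isTrivFib {P : SimplicialObject (Cᵒᵖ ⥤ Type u)} {Q : Cᵒᵖ ⥤ Type u}
    {v : P ⟶ (SimplicialObject.const _).obj Q} (hv : IsTrivFib J v) :
    IsAugResolution (((SimplicialObject.Augmented.whiskering _ _).obj (freeSh J)).obj (augOf v)) := by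
  rw [isAugResolution_iff_quasiIso]
  let ed := (SimplicialObject.Augmented.ExtraDegeneracy.const Q).map (freeSh J)
  let m : ((SimplicialObject.Augmented.whiskering _ _).obj (freeSh J)).obj (augOf v) ⟶
      ((SimplicialObject.Augmented.whiskering _ _).obj (freeSh J)).obj
        (SimplicialObject.Augmented.const.obj Q) :=
    ((SimplicialObject.Augmented.whiskering _ _).obj (freeSh J)).map
      { left := v, right := 𝟙 Q, w := rfl }
  have h := AlternatingFaceMapComplex.ε.naturality m
  have hf : QuasiIso ((SimplicialObject.Augmented.drop ⋙ alternatingFaceMapComplex _).map m) :=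
    hv.quasiIso
  have hg : QuasiIso (AlternatingFaceMapComplex.ε.app (((SimplicialObject.Augmented.whiskering _ _).obj
      (freeSh J)).obj (SimplicialObject.Augmented.const.obj Q))) :=
    inferInstanceAs (QuasiIso ed.homotopyEquiv.hom)
  have : IsIso m.right := inferInstanceAs (IsIso ((freeSh J).map (𝟙 Q)))
  have : IsIso ((SimplicialObject.Augmented.point ⋙ ChainComplex.single₀ _).map m) :=
    inferInstanceAs (IsIso ((ChainComplex.single₀ _).map m.right))
  rw [(IsIso.eq_comp_inv _).2 h.symm]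
  exact quasiIso_comp _ _

section Site

variable (K : SimplicialObject (FormalCoproduct.{u} C))

/-- the point of an element of a coproduct of representables -/
abbrev elemPt {A : FormalCoproduct.{u} C} {W : C}
    (x : ((coprodPresheaf (𝟭 C)).obj A).obj (op W)) : Pt A W := Pt.mk' x.1 x.2

lemma elemPt_injective {A : FormalCoproduct.{u} C} {W : C} :
    Function.Injective (elemPt (A := A) (W := W)) := fun x y h =>
  congrArg (fun p : Pt A W => (⟨p.idx, p.hom⟩ : Σ i, W ⟶ A.obj i)) h

theorem isTrivFib_coprod_site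
    [∀ (n : ℕ) (F : (SimplexCategory.Truncated n)ᵒᵖ ⥤ FormalCoproduct.{u} C),
      (SimplexCategory.Truncated.inclusion n).op.HasRightKanExtension F]
    (hK : Hyper.IsHypercoveringSite J K) :
    IsTrivFib J (toPt (K ⋙ coprodPresheaf (𝟭 C))) where
  lift0 W _ := ⟨_, (isLocallySurjective_terminal_iff J _).1 hK.1 W,
    fun V g ⟨b⟩ => ⟨⟨b.idx, b.hom⟩, rfl⟩⟩
  lift W k ℓ x hx _ := by
    have hy : Coherent (X := ptSS K W) (fun i => elemPt (x i)) := by
      intro l a b i j e
      change elemPt (x i) ≫ K.map a.op = elemPt (x j) ≫ K.map b.op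
      rw [Pt.mk'_comp, Pt.mk'_comp]
      exact congrArg elemPt (hx l a b i j e)
    have key : Loc J W fun V g => ∃ b : Pt (K.obj (op ⦋k + 1⦌)) V,
        ∀ i, b ≫ K.δ i = (FormalCoproduct.incl C).map g ≫ elemPt (x i) := by
      rcases k with - | k
      · refine ⟨_, (isLocallySurjective_prod_iff J (K.δ (1 : Fin 2)) (K.δ (0 : Fin 2))).1 hK.2.1 W
          (elemPt (x 1)) (elemPt (x 0)), fun V g ⟨b, h1, h0⟩ => ⟨b, fun i => ?_⟩⟩
        fin_cases i
        · exact h0
        · exact h1
      · exact loc_fill_of_isLocSurj K (k + 1)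
          ((isLocallySurjective_yoneda_iff J _).1 (hK.2.2 (k + 1) (by omega))) W _ hy
    refine key.mono fun V g ⟨b, hb⟩ => ⟨⟨b.idx, b.hom⟩, rfl, fun i => elemPt_injective ?_⟩
    refine Eq.trans ?_ ((hb i).trans (Pt.incl_map_mk' g _ _))
    conv_rhs => rw [← b.eta, Pt.mk'_comp]
    rfl

end Site

section Over

variable {X : C} (K : SimplicialObject (FormalCoproduct.{u} (Over X)))

/-- the structure map to the base -/
def toBase : K ⋙ coprodPresheaf (Over.forget X) ⟶ (SimplicialObject.const _).obj (yoneda.obj X) where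
  app n :=
    { app := fun c => ↾fun x => x.2 ≫ ((K.obj n).obj x.1).hom
      naturality := fun c c' g => by
        ext x
        exact Category.assoc _ _ _ }
  naturality n n' φ := by
    ext c ⟨i, a⟩
    exact (Category.assoc _ _ _).trans (congrArg (a ≫ ·) (Over.w ((K.map φ).φ i)))

theorem isTrivFib_coprod_over
    [∀ (n : ℕ) (F : (SimplexCategory.Truncated n)ᵒᵖ ⥤ FormalCoproduct.{u} (Over X)),
      (SimplexCategory.Truncated.inclusion n).op.HasRightKanExtension F]
    (hK : Hyper.IsHypercovering J X K) : IsTrivFib J (toBase K) where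
  lift0 W h := by
    refine ⟨_, ptSieve_mem_over J _ hK.1 (Over.mk h), fun V g hg => ?_⟩
    obtain ⟨b⟩ := (Sieve.overEquiv_iff _ _).1 hg
    exact ⟨⟨b.idx, b.hom.left⟩, Over.w b.hom⟩
  lift W k ℓ x hx hxv := by
    let y : ∀ _ : Fin (k + 2), Pt (K.obj (op ⦋k⦌)) (Over.mk (ℓ : W ⟶ X)) := fun i =>
      Pt.mk' (x i).1 (Over.homMk (x i).2 (hxv i))
    have hy : Coherent (X := ptSS K (Over.mk (ℓ : W ⟶ X))) y := by
      intro l a b i j e
      change y i ≫ K.map a.op = y j ≫ K.map b.op
      rw [Pt.mk'_comp, Pt.mk'_comp, Pt.mk'_eq_iff]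
      obtain ⟨e1, e2⟩ := (FormalCoproduct.hom_ext_iff _ _).1
        (congrArg (fun z : ((coprodPresheaf (Over.forget X)).obj (K.obj (op l))).obj (op W) =>
          (Pt.mk' (K := ⟨_, fun i => ((K.obj (op l)).obj i).left⟩) z.1 z.2 : Pt _ W)) (hx l a b i j e))
      refine ⟨congrFun e1 PUnit.unit, Over.OverMorphism.ext ?_⟩
      rw [Over.comp_left, Over.eqToHom_left]
      exact e2 PUnit.unit
    obtain ⟨S, hS, hS'⟩ := loc_fill_of_isLocSurj K k ((isSRCovering_iff _ _).1 (hK.2 k)) _ y hy
    refine ⟨_, hS, fun V g hg => ?_⟩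
    obtain ⟨b, hb⟩ := hS' _ ((Sieve.overEquiv_iff _ _).1 hg)
    refine ⟨⟨b.idx, b.hom.left⟩, Over.w b.hom, fun i => ?_⟩
    exact congrArg (fun p : Pt (K.obj (op ⦋k⦌)) _ =>
      (⟨p.idx, p.hom.left⟩ : ((coprodPresheaf (Over.forget X)).obj (K.obj (op ⦋k⦌))).obj (op V)))
      (hb i)

/-- Čech cohomology with respect to a hypercovering computes cohomology if the terms are acyclic -/
theorem nonempty_cechH_equiv
    [∀ (n : ℕ) (F : (SimplexCategory.Truncated n)ᵒᵖ ⥤ FormalCoproduct.{u} (Over X)),
      (SimplexCategory.Truncated.inclusion n).op.HasRightKanExtension F]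
    (hK : Hyper.IsHypercovering J X K) (F : Sheaf J AddCommGrpCat.{u}) (p : ℕ)
    (hA : ∀ (n : ℕ) (i : (K.obj (op ⦋n⦌)).I) (q : ℕ), n + q + 1 ≤ p →
      Subsingleton (CohSite.HU F (q + 1) ((K.obj (op ⦋n⦌)).obj i).left)) :
    Nonempty (Hyper.cechH X K F.obj p ≃+ CohSite.HU F p X) := by
  obtain ⟨e⟩ := nonempty_yonedaCofaceCx_homology_equiv (T := freeSh J) F
    (isAugResolution_of_isTrivFib (isTrivFib_coprod_over K hK)) p (fun n q hnq =>
      @subsingleton_ext_freeCoprod _ _ _ _ (Over.forget X) J F (K.obj (op ⦋n⦌)) (q + 1)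
        fun a => hA n a q hnq)
  let i : yonedaCofaceCx (freeSh J) (augOf (toBase K)) F ≅ Hyper.cechCx X K F.obj :=
    (alternatingCofaceMapComplex AddCommGrpCat.{u}).mapIso
      (Functor.isoWhiskerLeft K.rightOp (asIso (homCoprodToEval (Over.forget X) J F)))
  exact ⟨((HomologicalComplex.homologyFunctor _ _ p).mapIso i).symm.addCommGroupIsoToAddEquiv.trans e⟩

end Over

/-- Čech cohomology of an injective sheaf for a hypercovering of the site -/
theorem isZero_cechCxSite_homology (K : SimplicialObject (FormalCoproduct.{u} C))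
    [∀ (n : ℕ) (F : (SimplexCategory.Truncated n)ᵒᵖ ⥤ FormalCoproduct.{u} C),
      (SimplexCategory.Truncated.inclusion n).op.HasRightKanExtension F]
    (hK : Hyper.IsHypercoveringSite J K) (I : Sheaf J AddCommGrpCat.{u}) [Injective I] (p : ℕ) :
    IsZero ((Hyper.cechCxSite K I.obj).homology (p + 1)) := by
  obtain ⟨e⟩ := nonempty_yonedaCofaceCx_homology_equiv (T := freeSh J) I
    (isAugResolution_of_isTrivFib (isTrivFib_coprod_site K hK)) (p + 1) (fun n q _ =>
      @subsingleton_ext_freeCoprod _ _ _ _ (𝟭 C) J I (K.obj (op ⦋n⦌)) (q + 1)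
        fun a => inferInstance)
  let i : yonedaCofaceCx (freeSh J) (augOf (toPt (K ⋙ coprodPresheaf (𝟭 C)))) I ≅
      Hyper.cechCxSite K I.obj :=
    (alternatingCofaceMapComplex AddCommGrpCat.{u}).mapIso
      (Functor.isoWhiskerLeft K.rightOp (asIso (homCoprodToEval (𝟭 C) J I)))
  have : Subsingleton (Abelian.Ext ((freeSh J).obj (ptPresheaf (C := C))) I (p + 1)) :=
    Abelian.Ext.subsingleton_of_injective _ _ p
  have : Subsingleton ((Hyper.cechCxSite K I.obj).homology (p + 1) : Type u) :=
    (((HomologicalComplex.homologyFunctor _ _ (p + 1)).mapIso i).symm.addCommGroupIsoToAddEquiv.trans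
      e).subsingleton
  exact AddCommGrpCat.isZero_of_subsingleton _

end Groth.HyperLib
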