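import Groth.Agent.CategoryFibred.CoskFinite
import Mathlib.AlgebraicTopology.SimplicialObject.Coskeletal

/-!
Maps into the levels of a coskeleton are compatible families.
-/

set_option autoImplicit false
set_option backward.isDefEq.respectTransparency false

universe v u

open CategoryTheory CategoryTheory.Limits Opposite

namespace Groth.HyperLib

variable {E : Type u} [Category.{v} E] [HasFiniteLimits E] {n : ℕ}
  [∀ (F : (SimplexCategory.Truncated n)ᵒᵖ ⥤ E),
    (SimplexCategory.Truncated.inclusion n).op.HasRightKanExtension F]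

/-- restriction of the level `m` of the coskeleton to a simplex of low dimension -/
noncomputable def leg (X : SimplicialObject E) {m k : SimplexCategory} (hk : k.len ≤ n) (θ : k ⟶ m) :
    ((SimplicialObject.truncation n ⋙ SimplicialObject.Truncated.cosk n).obj X).obj (op m) ⟶
      X.obj (op k) :=
  ((SimplicialObject.truncation n ⋙ SimplicialObject.Truncated.cosk n).obj X).map θ.op ≫
    ((SimplicialObject.coskAdj n).counit.app ((SimplicialObject.truncation n).obj X)).app (op ⟨k, hk⟩)

omit [HasFiniteLimits E] in
@[reassoc]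
lemma map_leg (X : SimplicialObject E) {m m' k : SimplexCategory} (hk : k.len ≤ n) (ψ : m' ⟶ m)
    (θ : k ⟶ m') :
    ((SimplicialObject.truncation n ⋙ SimplicialObject.Truncated.cosk n).obj X).map ψ.op ≫
      leg X hk θ = leg X hk (θ ≫ ψ) := by
  simp only [leg, op_comp, Functor.map_comp, Category.assoc]

omit [HasFiniteLimits E] in
@[reassoc]
lemma leg_map (X : SimplicialObject E) {m k k' : SimplexCategory} (hk : k.len ≤ n) (hk' : k'.len ≤ n)
    (θ : k ⟶ m) (φ : k' ⟶ k) :
    leg X hk θ ≫ X.map φ.op = leg X hk' (φ ≫ θ) := by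
  have h := ((SimplicialObject.coskAdj n).counit.app ((SimplicialObject.truncation n).obj X)).naturality
    (Quiver.Hom.op (InducedCategory.homMk φ : (⟨k', hk'⟩ : SimplexCategory.Truncated n) ⟶ ⟨k, hk⟩))
  simp only [leg, op_comp, Functor.map_comp, Category.assoc]
  exact congrArg (_ ≫ ·) h.symm

omit [HasFiniteLimits E] in
@[reassoc]
lemma unit_leg (X : SimplicialObject E) {m k : SimplexCategory} (hk : k.len ≤ n) (θ : k ⟶ m) :
    ((SimplicialObject.coskAdj n).unit.app X).app (op m) ≫ leg X hk θ = X.map θ.op := by
  have h1 := ((SimplicialObject.coskAdj n).unit.app X).naturality θ.op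
  have h2 := congr_app ((SimplicialObject.coskAdj n).left_triangle_components X) (op ⟨k, hk⟩)
  rw [leg, ← Category.assoc]
  refine (congrArg (· ≫ _) h1.symm).trans ?_
  rw [Category.assoc]
  refine (congrArg (X.map θ.op ≫ ·) h2).trans ?_
  exact Category.comp_id _

omit [HasFiniteLimits E] in
@[reassoc]
lemma cosk_map_leg {X X' : SimplicialObject E} (f : X ⟶ X') {m k : SimplexCategory} (hk : k.len ≤ n)
    (θ : k ⟶ m) :
    ((SimplicialObject.truncation n ⋙ SimplicialObject.Truncated.cosk n).map f).app (op m) ≫
      leg X' hk θ = leg X hk θ ≫ f.app (op k) := by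
  have h1 := ((SimplicialObject.truncation n ⋙ SimplicialObject.Truncated.cosk n).map f).naturality θ.op
  have h2 := congr_app ((SimplicialObject.coskAdj (C := E) n).counit.naturality
    ((SimplicialObject.truncation n).map f)) (op ⟨k, hk⟩)
  simp only [leg, Category.assoc]
  rw [← Category.assoc]
  refine (congrArg (· ≫ _) h1.symm).trans ?_
  rw [Category.assoc]
  exact congrArg (_ ≫ ·) h2

/-- the limit cone property -/
theorem existsUnique_lift (X : SimplicialObject E) (m : SimplexCategory) {W : E}
    (fam : ∀ (k : SimplexCategory) (_ : k.len ≤ n) (_ : k ⟶ m), W ⟶ X.obj (op k))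
    (hfam : ∀ (k k' : SimplexCategory) (hk : k.len ≤ n) (hk' : k'.len ≤ n) (φ : k' ⟶ k) (θ : k ⟶ m),
      fam k hk θ ≫ X.map φ.op = fam k' hk' (φ ≫ θ)) :
    ∃! a : W ⟶ ((SimplicialObject.truncation n ⋙ SimplicialObject.Truncated.cosk n).obj X).obj (op m),
      ∀ k hk θ, a ≫ leg X hk θ = fam k hk θ := by
  let T := (SimplicialObject.truncation n).obj X
  let c := Functor.RightExtension.mk _ ((SimplicialObject.coskAdj (C := E) n).counit.app T)
  have hp : c.IsPointwiseRightKanExtension := by
    have e : (SimplicialObject.coskAdj (C := E) n).counit =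
        (SimplexCategory.Truncated.inclusion n).op.ranCounit := by
      simp only [SimplicialObject.coskAdj, Functor.ranAdjunction_counit]
    have := (SimplexCategory.Truncated.inclusion n).op.isPointwiseRightKanExtensionRanCounit T
    rw [← e] at this
    exact this
  let s : Cone (StructuredArrow.proj (op m) (SimplexCategory.Truncated.inclusion n).op ⋙ T) :=
    { pt := W
      π :=
        { app := fun j => fam j.right.unop.obj j.right.unop.property j.hom.unop
          naturality := fun j j' g => by
            have hw : j'.hom.unop = g.right.unop.hom ≫ j.hom.unop :=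
              congrArg Quiver.Hom.unop (StructuredArrow.w g).symm
            refine (Category.id_comp _).trans ?_
            rw [hw]
            exact (hfam j.right.unop.obj j'.right.unop.obj j.right.unop.property
              j'.right.unop.property g.right.unop.hom j.hom.unop).symm } }
  refine ⟨(hp (op m)).lift s, fun k hk θ => ?_, fun b hb => (hp (op m)).hom_ext fun j => ?_⟩
  · exact (hp (op m)).fac s (StructuredArrow.mk (Y := op (⟨k, hk⟩ : SimplexCategory.Truncated n)) θ.op)
  · refine (hb j.right.unop.obj j.right.unop.property j.hom.unop).trans ?_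
    exact ((hp (op m)).fac s j).symm

theorem hom_ext_leg (X : SimplicialObject E) {m : SimplexCategory} {W : E}
    {a b : W ⟶ ((SimplicialObject.truncation n ⋙ SimplicialObject.Truncated.cosk n).obj X).obj (op m)}
    (h : ∀ (k : SimplexCategory) (hk : k.len ≤ n) (θ : k ⟶ m), a ≫ leg X hk θ = b ≫ leg X hk θ) :
    a = b :=
  (existsUnique_lift X m (fun _ hk θ => b ≫ leg X hk θ) (fun _ _ hk hk' φ θ => by
    rw [Category.assoc, leg_map X hk hk' θ φ])).unique h fun _ _ _ => rfl

/-- lift of a compatible family -/
noncomputable def liftFam (X : SimplicialObject E) (m : SimplexCategory) {W : E}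
    (fam : ∀ (k : SimplexCategory) (_ : k.len ≤ n) (_ : k ⟶ m), W ⟶ X.obj (op k))
    (hfam : ∀ (k k' : SimplexCategory) (hk : k.len ≤ n) (hk' : k'.len ≤ n) (φ : k' ⟶ k) (θ : k ⟶ m),
      fam k hk θ ≫ X.map φ.op = fam k' hk' (φ ≫ θ)) :
    W ⟶ ((SimplicialObject.truncation n ⋙ SimplicialObject.Truncated.cosk n).obj X).obj (op m) :=
  (existsUnique_lift X m fam hfam).choose

@[reassoc]
lemma liftFam_leg (X : SimplicialObject E) (m : SimplexCategory) {W : E}
    (fam : ∀ (k : SimplexCategory) (_ : k.len ≤ n) (_ : k ⟶ m), W ⟶ X.obj (op k))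
    (hfam : ∀ (k k' : SimplexCategory) (hk : k.len ≤ n) (hk' : k'.len ≤ n) (φ : k' ⟶ k) (θ : k ⟶ m),
      fam k hk θ ≫ X.map φ.op = fam k' hk' (φ ≫ θ))
    {k : SimplexCategory} (hk : k.len ≤ n) (θ : k ⟶ m) :
    liftFam X m fam hfam ≫ leg X hk θ = fam k hk θ :=
  (existsUnique_lift X m fam hfam).choose_spec.1 k hk θ

end Groth.HyperLib
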