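import Groth.Agent.HTopHyper.Hyper.SRCover
import Groth.Agent.HTopHyper.Hyper.Cosk
import Mathlib.CategoryTheory.Limits.Constructions.Over.Basic

/-!
Basic properties of hypercoverings.
-/

set_option autoImplicit false
set_option backward.isDefEq.respectTransparency false

universe u

open CategoryTheory CategoryTheory.Limits Opposite Simplicial

namespace Groth.HyperLib

variable {C : Type u} [SmallCategory C]

instance hasFiniteLimits_formalCoproduct {D : Type u} [SmallCategory D] [HasPullbacks D] [HasTerminal D] :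
    HasFiniteLimits (FormalCoproduct.{u} D) :=
  hasFiniteLimits_of_hasTerminal_and_pullbacks

theorem isSRCovering_comp (J : GrothendieckTopology C) {K L M : FormalCoproduct.{u} C} {f : K ⟶ L}
    {g : L ⟶ M} (hf : Hyper.IsSRCovering J f) (hg : Hyper.IsSRCovering J g) :
    Hyper.IsSRCovering J (f ≫ g) :=
  (isSRCovering_iff J _).2 (((isSRCovering_iff J f).1 hf).comp ((isSRCovering_iff J g).1 hg))

theorem isSRCovering_of_isPullback (J : GrothendieckTopology C) {K L L' P : FormalCoproduct.{u} C}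
    {f : K ⟶ L} {g : L' ⟶ L} {p₁ : P ⟶ L'} {p₂ : P ⟶ K} (h : IsPullback p₁ p₂ g f)
    (hf : Hyper.IsSRCovering J f) : Hyper.IsSRCovering J p₁ :=
  (isSRCovering_iff J _).2 (IsLocSurj.of_isPullback h ((isSRCovering_iff J f).1 hf))

theorem isSRCovering_δ (J : GrothendieckTopology C) (K : SimplicialObject (FormalCoproduct.{u} C))
    (n : ℕ) (i : Fin (n + 2)) : Hyper.IsSRCovering J (K.δ i) := by
  refine (isSRCovering_iff J _).2 ?_
  rcases Fin.eq_castSucc_or_eq_last i with ⟨j, rfl⟩ | rfl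
  · exact IsLocSurj.of_section J _ (K.σ j) (K.δ_comp_σ_self)
  · exact IsLocSurj.of_section J _ (K.σ (Fin.last n)) (K.δ_comp_σ_succ' (Fin.succ_last n).symm)

section Over

variable {X : C} (J : GrothendieckTopology C)

lemma ofArrows_eq_ptSieve (K : FormalCoproduct.{u} (Over X)) :
    Sieve.ofArrows (fun i => (K.obj i).left) (fun i => (K.obj i).hom) =
      Sieve.overEquiv (Over.mk (𝟙 X)) (ptSieve K (Over.mk (𝟙 X))) := by
  refine Sieve.ext fun V v => ⟨?_, ?_⟩
  · intro hv
    obtain ⟨Y, a, _, ⟨i⟩, rfl⟩ := hv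
    exact (Sieve.overEquiv_iff _ _).2 ⟨Pt.mk' i (Over.homMk a (by simp))⟩
  · intro hv
    obtain ⟨b⟩ := (Sieve.overEquiv_iff _ _).1 hv
    exact ⟨_, b.hom.left, _, Presieve.ofArrows.mk b.idx, by
      have := Over.w b.hom
      simpa using this⟩

theorem ptSieve_mem_over (K : FormalCoproduct.{u} (Over X))
    (h : Sieve.ofArrows (fun i => (K.obj i).left) (fun i => (K.obj i).hom) ∈ J X) (W : Over X) :
    ptSieve K W ∈ J.over X W := by
  rw [ofArrows_eq_ptSieve K] at h
  have h1 : ptSieve K (Over.mk (𝟙 X)) ∈ J.over X (Over.mk (𝟙 X)) := h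
  refine (J.over X).superset_covering ?_
    ((J.over X).pullback_stable (Over.homMk W.hom : W ⟶ Over.mk (𝟙 X)) h1)
  rintro V v ⟨b⟩
  exact ⟨b⟩

theorem ofArrows_mem_of_hom {K L : FormalCoproduct.{u} (Over X)} (f : K ⟶ L)
    (h : Sieve.ofArrows (fun i => (K.obj i).left) (fun i => (K.obj i).hom) ∈ J X) :
    Sieve.ofArrows (fun i => (L.obj i).left) (fun i => (L.obj i).hom) ∈ J X := by
  refine J.superset_covering ?_ h
  rw [ofArrows_eq_ptSieve, ofArrows_eq_ptSieve]
  intro V v hv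
  obtain ⟨b⟩ := (Sieve.overEquiv_iff _ _).1 hv
  exact (Sieve.overEquiv_iff _ _).2 ⟨b ≫ f⟩

theorem ofArrows_mem_of_covering {K L : FormalCoproduct.{u} (Over X)} (f : K ⟶ L)
    (hf : Hyper.IsSRCovering (J.over X) f)
    (h : Sieve.ofArrows (fun i => (L.obj i).left) (fun i => (L.obj i).hom) ∈ J X) :
    Sieve.ofArrows (fun i => (K.obj i).left) (fun i => (K.obj i).hom) ∈ J X := by
  rw [ofArrows_eq_ptSieve K]
  change ptSieve K (Over.mk (𝟙 X)) ∈ J.over X (Over.mk (𝟙 X))
  refine (J.over X).transitive (ptSieve_mem_over J L h (Over.mk (𝟙 X))) _ ?_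
  rintro V v ⟨x⟩
  refine (J.over X).superset_covering ?_ ((isSRCovering_iff _ _).1 hf V x)
  rintro V' v' ⟨b, -⟩
  exact ⟨b⟩

end Over

section Unit

variable {D : Type u} [SmallCategory D] [HasPullbacks D] [HasTerminal D]
  [∀ (n : ℕ) (F : (SimplexCategory.Truncated n)ᵒᵖ ⥤ FormalCoproduct.{u} D),
      (SimplexCategory.Truncated.inclusion n).op.HasRightKanExtension F]
  (J : GrothendieckTopology D) (K : SimplicialObject (FormalCoproduct.{u} D))

/-- the vertices of the point of `cosk₀` -/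
lemma exists_cosk_zero_point {W : D} (x y : Pt (K.obj (op ⦋0⦌)) W) :
    ∃ z : Pt (((SimplicialObject.truncation 0 ⋙ SimplicialObject.Truncated.cosk 0).obj K).obj (op ⦋1⦌)) W,
      z ≫ leg K (m := ⦋1⦌) (k := ⦋0⦌) le_rfl (SimplexCategory.δ 1) = x ∧
      z ≫ leg K (m := ⦋1⦌) (k := ⦋0⦌) le_rfl (SimplexCategory.δ 0) = y := by
  let fam : ∀ (k : SimplexCategory) (_ : k.len ≤ 0) (_ : k ⟶ ⦋1⦌),
      (FormalCoproduct.incl D).obj W ⟶ K.obj (op k) := fun k _ θ =>
    (if θ.toOrderHom 0 = 0 then x else y) ≫ K.map (SimplexCategory.const k ⦋0⦌ 0).op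
  have hfam : ∀ (k k' : SimplexCategory) (hk : k.len ≤ 0) (hk' : k'.len ≤ 0) (φ : k' ⟶ k)
      (θ : k ⟶ ⦋1⦌), fam k hk θ ≫ K.map φ.op = fam k' hk' (φ ≫ θ) := by
    intro k k' hk hk' φ θ
    obtain rfl : k = ⦋0⦌ := SimplexCategory.ext (Nat.le_zero.1 hk)
    obtain rfl : k' = ⦋0⦌ := SimplexCategory.ext (Nat.le_zero.1 hk')
    obtain rfl : φ = 𝟙 _ := Subsingleton.elim _ _
    simp
  have hδ : ∀ i : Fin 2, ((SimplexCategory.δ i : ⦋0⦌ ⟶ ⦋1⦌).toOrderHom 0 = 0) ↔ i = 1 := by decide
  have hc : SimplexCategory.const ⦋0⦌ ⦋0⦌ 0 = 𝟙 _ := Subsingleton.elim _ _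
  refine ⟨liftFam K ⦋1⦌ fam hfam, ?_, ?_⟩ <;> rw [liftFam_leg] <;>
    simp [fam, hδ, hc]

theorem pairSieve_mem_of_unit
    (h : Hyper.IsSRCovering J
      (((SimplicialObject.coskAdj 0).unit.app K).app (op (SimplexCategory.mk (0 + 1)))))
    (W : D) (x y : Pt (K.obj (op ⦋0⦌)) W) :
    pairSieve (K.δ (1 : Fin 2)) (K.δ (0 : Fin 2)) x y ∈ J W := by
  obtain ⟨z, hz1, hz0⟩ := exists_cosk_zero_point K x y
  refine J.superset_covering ?_ ((isSRCovering_iff J _).1 h W z)
  rintro V v ⟨b, hb⟩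
  refine ⟨b, ?_, ?_⟩
  · rw [← hz1, ← Category.assoc, ← hb, Category.assoc]
    exact congrArg (b ≫ ·) (unit_leg K (m := ⦋1⦌) le_rfl (SimplexCategory.δ (1 : Fin 2))).symm
  · rw [← hz0, ← Category.assoc, ← hb, Category.assoc]
    exact congrArg (b ≫ ·) (unit_leg K (m := ⦋1⦌) le_rfl (SimplexCategory.δ (0 : Fin 2))).symm

end Unit

variable [HasPullbacks C]

theorem isHypercoveringSite_of_isHypercovering (J : GrothendieckTopology C) (X : C)
    (K : SimplicialObject (FormalCoproduct.{u} (Over X)))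
    [∀ (n : ℕ) (F : (SimplexCategory.Truncated n)ᵒᵖ ⥤ FormalCoproduct.{u} (Over X)),
      (SimplexCategory.Truncated.inclusion n).op.HasRightKanExtension F]
    (hK : Hyper.IsHypercovering J X K) : Hyper.IsHypercoveringSite (J.over X) K := by
  refine ⟨(isLocallySurjective_terminal_iff _ _).2 (ptSieve_mem_over J _ hK.1), ?_, fun n _ => ?_⟩
  · exact (isLocallySurjective_prod_iff _ _ _).2 fun W x y =>
      pairSieve_mem_of_unit (J.over X) K (hK.2 0) W x y
  · exact (isLocallySurjective_yoneda_iff _ _).2 ((isSRCovering_iff _ _).1 (hK.2 n))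

theorem covering_terms_and_faces (J : GrothendieckTopology C) (X : C)
    (K : SimplicialObject (FormalCoproduct.{u} (Over X)))
    (h : Sieve.ofArrows (fun i => ((K.obj (op ⦋0⦌)).obj i).left)
      (fun i => ((K.obj (op ⦋0⦌)).obj i).hom) ∈ J X) :
    (∀ n : ℕ, Sieve.ofArrows (fun i => ((K.obj (op ⦋n⦌)).obj i).left)
      (fun i => ((K.obj (op ⦋n⦌)).obj i).hom) ∈ J X) ∧
    ∀ (n : ℕ) (i : Fin (n + 2)), Hyper.IsSRCovering (J.over X) (K.δ i) :=
  ⟨fun n => ofArrows_mem_of_hom J (K.map (SimplexCategory.const ⦋n⦌ ⦋0⦌ 0).op) h,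
    fun n i => isSRCovering_δ _ K n i⟩

theorem isHypercovering_pullback (J : GrothendieckTopology C) (X : C)
    [∀ (n : ℕ) (F : (SimplexCategory.Truncated n)ᵒᵖ ⥤ FormalCoproduct.{u} (Over X)),
      (SimplexCategory.Truncated.inclusion n).op.HasRightKanExtension F]
    {K L M P : SimplicialObject (FormalCoproduct.{u} (Over X))} (a : K ⟶ L) (b : M ⟶ L)
    (p1 : P ⟶ K) (p2 : P ⟶ M) (hP : IsPullback p1 p2 a b)
    (hK : Hyper.IsHypercovering J X K)
    (h0 : Hyper.IsSRCovering (J.over X) (b.app (op ⦋0⦌)))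
    (hγ : ∀ (n : ℕ) (Q : FormalCoproduct.{u} (Over X))
      (q1 : Q ⟶ L.obj (op (SimplexCategory.mk (n + 1))))
      (q2 : Q ⟶ ((SimplicialObject.truncation n ⋙ SimplicialObject.Truncated.cosk n).obj M).obj
        (op (SimplexCategory.mk (n + 1))))
      (γ : M.obj (op (SimplexCategory.mk (n + 1))) ⟶ Q),
      IsPullback q1 q2 (((SimplicialObject.coskAdj n).unit.app L).app (op (SimplexCategory.mk (n + 1))))
        (((SimplicialObject.truncation n ⋙ SimplicialObject.Truncated.cosk n).map b).app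
          (op (SimplexCategory.mk (n + 1)))) →
      γ ≫ q1 = b.app (op (SimplexCategory.mk (n + 1))) →
      γ ≫ q2 = ((SimplicialObject.coskAdj n).unit.app M).app (op (SimplexCategory.mk (n + 1))) →
      Hyper.IsSRCovering (J.over X) γ) :
    Hyper.IsHypercovering J X P := by
  have hev : ∀ j, IsPullback (p1.app j) (p2.app j) (a.app j) (b.app j) := fun j =>
    hP.map ((evaluation _ _).obj j)
  refine ⟨ofArrows_mem_of_covering J (p1.app (op ⦋0⦌))
    (isSRCovering_of_isPullback _ (hev _) h0) hK.1, fun n => ?_⟩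
  refine (isSRCovering_iff _ _).2 fun W y => ?_
  let yK := y ≫ ((SimplicialObject.truncation n ⋙ SimplicialObject.Truncated.cosk n).map p1).app
    (op ⦋n + 1⦌)
  let yM := y ≫ ((SimplicialObject.truncation n ⋙ SimplicialObject.Truncated.cosk n).map p2).app
    (op ⦋n + 1⦌)
  refine (J.over X).transitive ((isSRCovering_iff _ _).1 (hK.2 n) W yK) _ ?_
  rintro V v ⟨z, hz⟩
  let u' := ((SimplicialObject.coskAdj n).unit.app L).app (op (SimplexCategory.mk (n + 1)))
  let cb := ((SimplicialObject.truncation n ⋙ SimplicialObject.Truncated.cosk n).map b).app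
    (op (SimplexCategory.mk (n + 1)))
  have sq : b.app (op (SimplexCategory.mk (n + 1))) ≫ u' =
      ((SimplicialObject.coskAdj n).unit.app M).app (op (SimplexCategory.mk (n + 1))) ≫ cb :=
    congr_app ((SimplicialObject.coskAdj n).unit.naturality b) _
  let γ : M.obj (op (SimplexCategory.mk (n + 1))) ⟶ pullback u' cb := pullback.lift _ _ sq
  have hγ' := hγ n _ (pullback.fst u' cb) (pullback.snd u' cb) γ
    (IsPullback.of_hasPullback u' cb) (pullback.lift_fst _ _ _) (pullback.lift_snd _ _ _)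
  have hw : (z ≫ a.app (op ⦋n + 1⦌)) ≫ u' = ((FormalCoproduct.incl _).map v ≫ yM) ≫ cb := by
    refine hom_ext_leg L fun k hk θ => ?_
    simp only [u', cb, yM, Category.assoc, cosk_map_leg, unit_leg]
    have e1 : z ≫ K.map θ.op = (FormalCoproduct.incl _).map v ≫ y ≫ leg P hk θ ≫ p1.app (op k) := by
      have := congrArg (· ≫ leg K hk θ) hz
      simpa only [yK, Category.assoc, cosk_map_leg, unit_leg] using this
    rw [← a.naturality θ.op, ← Category.assoc z, e1]
    simp only [Category.assoc]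
    erw [cosk_map_leg_assoc p2 hk θ]
    rw [(hev (op k)).w]
  refine (J.over X).superset_covering ?_ ((isSRCovering_iff _ _).1 hγ' V (pullback.lift _ _ hw))
  rintro V' v' ⟨m, hm⟩
  have hm1 := congrArg (· ≫ pullback.fst u' cb) hm
  have hm2 := congrArg (· ≫ pullback.snd u' cb) hm
  simp only [γ, Category.assoc, pullback.lift_fst, pullback.lift_snd] at hm1 hm2
  refine ⟨(hev (op ⦋n + 1⦌)).lift ((FormalCoproduct.incl _).map v' ≫ z) m ?_, ?_⟩
  · rw [Category.assoc]
    exact hm1.symm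
  refine hom_ext_leg P fun k hk θ => ?_
  simp only [Category.assoc, unit_leg]
  refine (hev (op k)).hom_ext ?_ ?_
  · simp only [Category.assoc]
    rw [p1.naturality θ.op, ← Category.assoc _ (p1.app _), IsPullback.lift_fst]
    have := congrArg (· ≫ leg K hk θ) hz
    simp only [yK, Category.assoc, cosk_map_leg, unit_leg] at this
    rw [Functor.map_comp, Category.assoc, Category.assoc, this]
  · simp only [Category.assoc]
    rw [p2.naturality θ.op, ← Category.assoc _ (p2.app _), IsPullback.lift_snd]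
    have := congrArg (· ≫ leg M hk θ) hm2
    simp only [yM, Category.assoc, cosk_map_leg, unit_leg] at this
    rw [Functor.map_comp, Category.assoc, this]

end Groth.HyperLib
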