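import Groth.Agent.HTopHyper.Hyper.Basic
import Mathlib.CategoryTheory.Limits.Constructions.Over.Basic

/-!
Čech cohomology of degree zero of a hypercovering.
-/

set_option autoImplicit false
set_option backward.isDefEq.respectTransparency false

universe u

open CategoryTheory CategoryTheory.Limits Opposite Simplicial

namespace Groth.HyperLib

variable {C : Type u} [SmallCategory C]

/-- evaluation at a point -/
noncomputable def ev (P : Cᵒᵖ ⥤ AddCommGrpCat.{u}) {K : FormalCoproduct.{u} C} {W : C} (p : Pt K W) :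
    ((FormalCoproduct.evalOp.{u} C AddCommGrpCat.{u}).obj P).obj (op K) ⟶ P.obj (op W) :=
  Pi.π (fun i => P.obj (op (K.obj i))) p.idx ≫ P.map p.hom.op

lemma ev_comp (P : Cᵒᵖ ⥤ AddCommGrpCat.{u}) {K L : FormalCoproduct.{u} C} (f : K ⟶ L) {W : C}
    (p : Pt K W) :
    ((FormalCoproduct.evalOp.{u} C AddCommGrpCat.{u}).obj P).map f.op ≫ ev P p = ev P (p ≫ f) := by
  refine (Pi.lift_π_assoc _ _ _).trans ?_
  rw [Category.assoc, ← Functor.map_comp, ← op_comp]
  rfl

lemma ev_restrict (P : Cᵒᵖ ⥤ AddCommGrpCat.{u}) {K : FormalCoproduct.{u} C} {V W : C} (v : V ⟶ W)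
    (p : Pt K W) : ev P ((FormalCoproduct.incl C).map v ≫ p) = ev P p ≫ P.map v.op := by
  unfold ev
  rw [Category.assoc, ← Functor.map_comp, ← op_comp]
  rfl

lemma ev_mk'_id (P : Cᵒᵖ ⥤ AddCommGrpCat.{u}) {K : FormalCoproduct.{u} C} (i : K.I) :
    ev P (Pt.mk' i (𝟙 (K.obj i))) = Pi.π (fun i => P.obj (op (K.obj i))) i := by
  unfold ev
  erw [CategoryTheory.Functor.map_id, Category.comp_id]
  rfl

variable (K : SimplicialObject (FormalCoproduct.{u} C))

lemma d_zero_ev (P : Cᵒᵖ ⥤ AddCommGrpCat.{u}) {W : C} (b : Pt (K.obj (op ⦋1⦌)) W) :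
    (Hyper.cechCxSite K P).d 0 1 ≫ ev P b =
      ev P (b ≫ K.δ (0 : Fin 2)) - ev P (b ≫ K.δ (1 : Fin 2)) := by
  rw [← ev_comp, ← ev_comp]
  change (((AlgebraicTopology.alternatingCofaceMapComplex _).obj
      ((FormalCoproduct.cosimplicialObjectFunctor K).obj P)).d 0 1) ≫ _ = _
  let Y := (FormalCoproduct.cosimplicialObjectFunctor K).obj P
  have e : ((AlgebraicTopology.alternatingCofaceMapComplex _).obj Y).d 0 1 = Y.δ 0 + -Y.δ 1 := by
    change CochainComplex.of.d (fun n => Y.obj (SimplexCategory.mk n))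
      (AlgebraicTopology.AlternatingCofaceMapComplex.objD Y) 0 1 = _
    refine (CochainComplex.of_d (fun n => Y.obj (SimplexCategory.mk n))
      (AlgebraicTopology.AlternatingCofaceMapComplex.objD Y) 0).trans ?_
    simp [AlgebraicTopology.AlternatingCofaceMapComplex.objD, Fin.sum_univ_two]
  rw [e]
  erw [Preadditive.add_comp, Preadditive.neg_comp]
  rw [← sub_eq_add_neg]
  rfl

variable (J : GrothendieckTopology C)
  (h0 : ∀ W, ptSieve (K.obj (op ⦋0⦌)) W ∈ J W)
  (h1 : ∀ (W : C) (x y : Pt (K.obj (op ⦋0⦌)) W),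
    pairSieve (K.δ (1 : Fin 2)) (K.δ (0 : Fin 2)) x y ∈ J W)
  (F : Sheaf J AddCommGrpCat.{u})

/-- global sections map to zero cochains -/
noncomputable def toCochain :
    limit F.obj ⟶ (Hyper.cechCxSite K F.obj).X 0 :=
  Pi.lift fun i => limit.π F.obj (op ((K.obj (op ⦋0⦌)).obj i))

lemma toCochain_ev {W : C} (p : Pt (K.obj (op ⦋0⦌)) W) :
    toCochain K J F ≫ ev F.obj p = limit.π F.obj (op W) := by
  refine (Pi.lift_π_assoc _ _ _).trans ?_
  exact limit.w F.obj p.hom.op

lemma toCochain_d : toCochain K J F ≫ (Hyper.cechCxSite K F.obj).d 0 1 = 0 := by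
  refine Pi.hom_ext _ _ fun i => ?_
  have he : ev F.obj (Pt.mk' (K := K.obj (op ⦋1⦌)) i (𝟙 _)) =
      Pi.π (fun i => F.obj.obj (op ((K.obj (op ⦋1⦌)).obj i))) i := by
    unfold ev
    erw [CategoryTheory.Functor.map_id, Category.comp_id]
    rfl
  refine Eq.trans ?_ zero_comp.symm
  rw [Category.assoc]
  refine (congrArg (fun z => toCochain K J F ≫ (Hyper.cechCxSite K F.obj).d 0 1 ≫ z) he.symm).trans ?_
  rw [d_zero_ev, Preadditive.comp_sub, toCochain_ev, toCochain_ev, sub_self]

include h0 h1 in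
theorem exists_h0_iso :
    Nonempty ((Hyper.cechCxSite K F.obj).homology 0 ≅ limit F.obj) := by
  have hF : Presieve.IsSheaf J (F.obj ⋙ forget AddCommGrpCat.{u}) :=
    (isSheaf_iff_isSheaf_of_type J _).1 ((sheafCompose J (forget AddCommGrpCat.{u})).obj F).property
  have hinj : Function.Injective (toCochain K J F) := by
    intro a b hab
    refine (Concrete.limit_ext _ _ _ fun W => ?_)
    refine ((hF _ (h0 W.unop)).isSeparatedFor).ext fun V v ⟨p⟩ => ?_
    change F.obj.map v.op (limit.π F.obj W a) = F.obj.map v.op (limit.π F.obj W b)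
    have e : ∀ c : ↥(limit F.obj), F.obj.map v.op (limit.π F.obj W c) =
        ev F.obj p (toCochain K J F c) := fun c => by
      refine (ConcreteCategory.congr_hom (limit.w F.obj v.op) c).trans ?_
      exact (ConcreteCategory.congr_hom (toCochain_ev K J F p) c).symm
    rw [e, e, hab]
  have hsurj : ∀ x : (Hyper.cechCxSite K F.obj).X 0, (Hyper.cechCxSite K F.obj).d 0 1 x = 0 →
      ∃ a, toCochain K J F a = x := by
    intro x hx
    have hind : ∀ (V : C) (p q : Pt (K.obj (op ⦋0⦌)) V), ev F.obj p x = ev F.obj q x := by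
      intro V p q
      refine ((hF _ (h1 V p q)).isSeparatedFor).ext fun V' v ⟨b, hb1, hb0⟩ => ?_
      change F.obj.map v.op (ev F.obj p x) = F.obj.map v.op (ev F.obj q x)
      have h2 := ConcreteCategory.congr_hom (d_zero_ev K F.obj b) x
      rw [hb1, hb0, ev_restrict, ev_restrict] at h2
      have h3 : ev F.obj b ((Hyper.cechCxSite K F.obj).d 0 1 x) = 0 := by rw [hx, map_zero]
      exact (sub_eq_zero.1 (h2.symm.trans h3)).symm
    let fam : ∀ W : C, Presieve.FamilyOfElements (F.obj ⋙ forget AddCommGrpCat.{u})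
        (ptSieve (K.obj (op ⦋0⦌)) W).arrows := fun W V v hv => ev F.obj hv.some x
    have hfam : ∀ W, (fam W).Compatible := by
      intro W V₁ V₂ Z g₁ g₂ v₁ v₂ hv₁ hv₂ _
      change F.obj.map g₁.op (ev F.obj hv₁.some x) = F.obj.map g₂.op (ev F.obj hv₂.some x)
      have e1 := ConcreteCategory.congr_hom (ev_restrict F.obj g₁ hv₁.some) x
      have e2 := ConcreteCategory.congr_hom (ev_restrict F.obj g₂ hv₂.some) x
      exact e1.symm.trans ((hind Z _ _).trans e2)
    choose s hs using fun W : C => (hF _ (h0 W) _ (hfam W)).exists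
    have hsec : (fun W : Cᵒᵖ => s W.unop) ∈ (F.obj ⋙ forget AddCommGrpCat.{u}).sections := by
      intro W W' f
      refine ((hF _ (h0 W'.unop)).isSeparatedFor).ext fun V v hv => ?_
      have hv' : (ptSieve (K.obj (op ⦋0⦌)) W.unop).arrows (v ≫ f.unop) := hv
      refine Eq.trans ?_ (hs W'.unop v hv).symm
      refine ((ConcreteCategory.congr_hom ((F.obj ⋙ forget AddCommGrpCat.{u}).map_comp f v.op) _).symm.trans
        (hs W.unop (v ≫ f.unop) hv'))
    let E := Types.isLimitEquivSections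
      (isLimitOfPreserves (forget AddCommGrpCat.{u}) (limit.isLimit F.obj))
    refine ⟨E.symm ⟨_, hsec⟩, ?_⟩
    refine (Concrete.productEquiv _).injective (funext ?_)
    intro i
    rw [Concrete.productEquiv_apply_apply, Concrete.productEquiv_apply_apply]
    refine (ConcreteCategory.congr_hom
      (Pi.lift_π (fun i => limit.π F.obj (op ((K.obj (op ⦋0⦌)).obj i))) i) _).trans ?_
    refine ((Types.isLimitEquivSections_symm_apply
      (isLimitOfPreserves (forget AddCommGrpCat.{u}) (limit.isLimit F.obj)) ⟨_, hsec⟩ _).trans ?_)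
    change s ((K.obj (op ⦋0⦌)).obj i) = _
    have hv : (ptSieve (K.obj (op ⦋0⦌)) ((K.obj (op ⦋0⦌)).obj i)).arrows (𝟙 _) := ⟨Pt.mk' i (𝟙 _)⟩
    have h4 := hs _ (𝟙 _) hv
    change F.obj.map (𝟙 _) _ = ev F.obj hv.some x at h4
    rw [CategoryTheory.Functor.map_id] at h4
    refine h4.trans ((hind _ hv.some (Pt.mk' i (𝟙 _))).trans ?_)
    rw [ev_mk'_id]
    rfl
  let Kx := Hyper.cechCxSite K F.obj
  let φ : limit F.obj ⟶ Kx.cycles 0 :=
    Kx.liftCycles (toCochain K J F) 1 (by simp) (toCochain_d K J F)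
  have : IsIso φ := by
    refine (ConcreteCategory.isIso_iff_bijective φ).2 ⟨fun a b h => hinj ?_, fun c => ?_⟩
    · have := congrArg (Kx.iCycles 0) h
      simpa only [← ConcreteCategory.comp_apply, φ, HomologicalComplex.liftCycles_i] using this
    · obtain ⟨a, ha⟩ := hsurj (Kx.iCycles 0 c) (ConcreteCategory.congr_hom (Kx.iCycles_d 0 1) c)
      refine ⟨a, (AddCommGrpCat.mono_iff_injective (Kx.iCycles 0)).1 inferInstance ?_⟩
      exact (ConcreteCategory.congr_hom
        (Kx.liftCycles_i (toCochain K J F) 1 (by simp) (toCochain_d K J F)) a).trans ha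
  exact ⟨(CochainComplex.isoHomologyπ₀ Kx).symm ≪≫ (asIso φ).symm⟩

end Groth.HyperLib
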