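import Groth.Agent.HTopHyper.Hyper.Existence
import Groth.Agent.HTopHyper.Hyper.H0
import Groth.Prelude.Def_Hyper2

/-!
Čech classes of locally zero presheaves die on refinements.
-/

set_option autoImplicit false
set_option backward.isDefEq.respectTransparency false

universe u

open CategoryTheory CategoryTheory.Limits Opposite Simplicial

namespace Groth.HyperLib

variable {C : Type u} [SmallCategory C] {X : C}

/-- a product element vanishes if its components do -/
lemma evalOp_eq_zero (G : (Over X)ᵒᵖ ⥤ AddCommGrpCat.{u}) (K : FormalCoproduct.{u} (Over X))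
    (x : ((FormalCoproduct.evalOp.{u} (Over X) AddCommGrpCat.{u}).obj G).obj (op K))
    (h : ∀ i, ev G (Pt.mk' i (𝟙 (K.obj i))) x = 0) : x = 0 := by
  refine Concrete.limit_ext (Discrete.functor fun i => G.obj (op (K.obj i))) x 0 fun ⟨i⟩ => ?_
  rw [map_zero]
  exact (ConcreteCategory.congr_hom (ev_mk'_id G i).symm x).trans (h i)

/-- vanishing after composing with a map whose pullback kills the element -/
lemma ev_comp_eq_zero (G : (Over X)ᵒᵖ ⥤ AddCommGrpCat.{u}) {Z K : FormalCoproduct.{u} (Over X)}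
    (u : Z ⟶ K) (x : ((FormalCoproduct.evalOp.{u} (Over X) AddCommGrpCat.{u}).obj G).obj (op K))
    (h : ∀ a, ev G (Pt.mk' a (𝟙 (Z.obj a)) ≫ u) x = 0) {W : Over X} (q : Pt Z W) :
    ev G (q ≫ u) x = 0 := by
  have hw : ((FormalCoproduct.evalOp.{u} (Over X) AddCommGrpCat.{u}).obj G).map u.op x = 0 :=
    evalOp_eq_zero G Z _ fun a => (ConcreteCategory.congr_hom (ev_comp G u _) x).trans (h a)
  rw [← ev_comp G u q]
  exact (congrArg (ev G q) hw).trans (map_zero _)

/-- a class whose cochain is killed by a map maps to zero -/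
theorem cechHMap_eq_zero {K L : SimplicialObject (FormalCoproduct.{u} (Over X))} (f : L ⟶ K)
    (N : Cᵒᵖ ⥤ AddCommGrpCat.{u}) (p : ℕ) (z : (Hyper.cechCx X K N).cycles p)
    (h : ∀ i, ev ((Over.forget X).op ⋙ N) (Pt.mk' i (𝟙 ((L.obj (op ⦋p⦌)).obj i)) ≫ f.app (op ⦋p⦌))
      ((Hyper.cechCx X K N).iCycles p z) = 0) :
    Hyper.cechHMap X f N p ((Hyper.cechCx X K N).homologyπ p z) = 0 := by
  have h1 : (Hyper.cechMap X f N).f p ((Hyper.cechCx X K N).iCycles p z) = 0 :=
    evalOp_eq_zero _ _ _ fun i => (ConcreteCategory.congr_hom (ev_comp _ _ _) _).trans (h i)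
  have h2 : HomologicalComplex.cyclesMap (Hyper.cechMap X f N) p z = 0 := by
    refine (AddCommGrpCat.mono_iff_injective ((Hyper.cechCx X L N).iCycles p)).1 inferInstance ?_
    rw [map_zero, ← h1, ← ConcreteCategory.comp_apply, HomologicalComplex.cyclesMap_i]
    rfl
  change HomologicalComplex.homologyMap (Hyper.cechMap X f N) p ((Hyper.cechCx X K N).homologyπ p z) = 0
  rw [← ConcreteCategory.comp_apply, HomologicalComplex.homologyπ_naturality,
    ConcreteCategory.comp_apply, h2, map_zero]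

/-- classes of a locally zero presheaf die on a refinement -/
theorem exists_refinement_kills [HasPullbacks C] (J : GrothendieckTopology C)
    [∀ (n : ℕ) (F : (SimplexCategory.Truncated n)ᵒᵖ ⥤ FormalCoproduct.{u} (Over X)),
      (SimplexCategory.Truncated.inclusion n).op.HasRightKanExtension F]
    (K : SimplicialObject (FormalCoproduct.{u} (Over X))) (hK : Hyper.IsHypercovering J X K)
    (N : Cᵒᵖ ⥤ AddCommGrpCat.{u}) (p : ℕ) (z : (Hyper.cechCx X K N).cycles p)
    (hloc : ∀ (U : C) (s : N.obj (op U)), ∃ S ∈ J U, ∀ ⦃V : C⦄ (v : V ⟶ U), S.arrows v → N.map v.op s = 0) :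
    ∃ (L : SimplicialObject (FormalCoproduct.{u} (Over X))) (f : L ⟶ K),
      Hyper.IsHypercovering J X L ∧ Hyper.cechHMap X f N p ((Hyper.cechCx X K N).homologyπ p z) = 0 := by
  let Kn := K.obj (op ⦋p⦌)
  let c := (Hyper.cechCx X K N).iCycles p z
  choose S hS hS0 using fun i : Kn.I =>
    hloc (Kn.obj i).left (ev ((Over.forget X).op ⋙ N) (Pt.mk' i (𝟙 (Kn.obj i))) c)
  let Z : FormalCoproduct.{u} (Over X) :=
    ⟨Σ (i : Kn.I) (V : C), {v : V ⟶ (Kn.obj i).left // (S i).arrows v},
      fun a => Over.mk (a.2.2.1 ≫ (Kn.obj a.1).hom)⟩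
  let u : Z ⟶ Kn := ⟨fun a => a.1, fun a => Over.homMk a.2.2.1⟩
  have hu : Hyper.IsSRCovering (J.over X) u := by
    intro j
    change Sieve.overEquiv _ _ ∈ J _
    refine J.superset_covering (fun V v hv => ?_) (hS j)
    rw [Sieve.overEquiv_iff]
    exact ⟨_, 𝟙 _, _, Presieve.ofArrows.mk (⟨⟨j, V, v, hv⟩, rfl⟩ : {a // u.f a = j}),
      Over.OverMorphism.ext (by simp [u])⟩
  obtain ⟨L, f, g, hL, hg⟩ := exists_refinement p (isFillable_of_hypercovering hK) (ptFun.map u)
    ⟨fun {W} x => (J.over X).superset_covering (fun V g hg => hg) ((isSRCovering_iff _ _).1 hu W x)⟩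
  refine ⟨L, f, hL.isHypercovering, cechHMap_eq_zero f N p z fun i => ?_⟩
  rw [← hg i]
  refine ev_comp_eq_zero _ u c (fun a => ?_) (g i)
  rw [Pt.mk'_comp, Category.id_comp]
  have h := ev_restrict ((Over.forget X).op ⋙ N) (u.φ a) (Pt.mk' a.1 (𝟙 (Kn.obj a.1)))
  rw [Pt.incl_map_mk', Category.comp_id] at h
  refine (ConcreteCategory.congr_hom h c).trans ?_
  exact hS0 a.1 a.2.2.1 a.2.2.2

end Groth.HyperLib
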