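import Groth.Agent.HTopHyper.Hyper.CechAcyclic
import Groth.Agent.HTopHyper.Hyper.KillClass
import Mathlib.CategoryTheory.Sites.EpiMono

/-!
Classes of Čech cohomology over all hypercoverings detect the vanishing of cohomology.
-/

set_option autoImplicit false
set_option backward.isDefEq.respectTransparency false
set_option synthInstance.maxHeartbeats 400000

universe u

open CategoryTheory CategoryTheory.Limits Opposite Simplicial

namespace Groth.HyperLib

open Groth.SiteCohomology

variable {C : Type u} [SmallCategory C] {X : C}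

section Cochains

variable {G H : Cᵒᵖ ⥤ AddCommGrpCat.{u}}

/-- the value of a cochain at a point -/
noncomputable abbrev val (G : Cᵒᵖ ⥤ AddCommGrpCat.{u}) {K : FormalCoproduct.{u} (Over X)} {W : Over X}
    (p : Pt K W) :
    ((FormalCoproduct.evalOp.{u} (Over X) AddCommGrpCat.{u}).obj ((Over.forget X).op ⋙ G)).obj (op K) ⟶
      G.obj (op W.left) :=
  ev ((Over.forget X).op ⋙ G) p

lemma val_ext {K : FormalCoproduct.{u} (Over X)}
    {x y : ((FormalCoproduct.evalOp.{u} (Over X) AddCommGrpCat.{u}).obj ((Over.forget X).op ⋙ G)).obj (op K)}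
    (h : ∀ i, val G (Pt.mk' i (𝟙 (K.obj i))) x = val G (Pt.mk' i (𝟙 (K.obj i))) y) : x = y :=
  sub_eq_zero.1 (evalOp_eq_zero _ _ _ fun i => by rw [map_sub]; exact sub_eq_zero.2 (h i))

/-- change of coefficients -/
noncomputable abbrev pushO (φ : G ⟶ H) (K : FormalCoproduct.{u} (Over X)) :=
  ((FormalCoproduct.evalOp.{u} (Over X) AddCommGrpCat.{u}).map
    (Functor.whiskerLeft (Over.forget X).op φ)).app (op K)

lemma val_pushO (φ : G ⟶ H) {K : FormalCoproduct.{u} (Over X)} {W : Over X} (p : Pt K W)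
    (x : ((FormalCoproduct.evalOp.{u} (Over X) AddCommGrpCat.{u}).obj ((Over.forget X).op ⋙ G)).obj (op K)) :
    val H p (pushO φ K x) = φ.app (op W.left) (val G p x) := by
  have h : pushO φ K ≫ val H p = val G p ≫ φ.app (op W.left) := by
    refine (Category.assoc _ _ _).symm.trans ?_
    refine (congrArg (· ≫ _) (Pi.map_π (fun i => φ.app (op (K.obj i).left)) p.idx)).trans ?_
    erw [Category.assoc, Category.assoc, φ.naturality]
    rfl
  exact ConcreteCategory.congr_hom h x

end Cochains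

section Cx

variable (G : Cᵒᵖ ⥤ AddCommGrpCat.{u}) {K L M : SimplicialObject (FormalCoproduct.{u} (Over X))}

/-- cochains -/
abbrev Coch (K : SimplicialObject (FormalCoproduct.{u} (Over X))) (q : ℕ) : Type u :=
  ((Hyper.cechCx X K G).X q : Type u)

/-- the differential -/
noncomputable abbrev dd (K : SimplicialObject (FormalCoproduct.{u} (Over X))) (q : ℕ) :
    Coch G K q →+ Coch G K (q + 1) :=
  ((Hyper.cechCx X K G).d q (q + 1)).hom

/-- pull back of cochains -/
noncomputable abbrev pull (f : L ⟶ K) (q : ℕ) : Coch G K q →+ Coch G L q :=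
  ((Hyper.cechMap X f G).f q).hom

lemma val_pull (f : L ⟶ K) (q : ℕ) {W : Over X} (p : Pt (L.obj (op ⦋q⦌)) W) (c : Coch G K q) :
    val G p (pull G f q c) = val G (p ≫ f.app (op ⦋q⦌)) c :=
  ConcreteCategory.congr_hom (ev_comp ((Over.forget X).op ⋙ G) (f.app (op ⦋q⦌)) p) c

lemma pull_pull (g : M ⟶ L) (f : L ⟶ K) (q : ℕ) (c : Coch G K q) :
    pull G g q (pull G f q c) = pull G (g ≫ f) q c :=
  val_ext fun i => by rw [val_pull, val_pull, val_pull, Category.assoc]; rfl

lemma pull_dd (f : L ⟶ K) (q : ℕ) (c : Coch G K q) :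
    pull G f (q + 1) (dd G K q c) = dd G L q (pull G f q c) :=
  (ConcreteCategory.congr_hom ((Hyper.cechMap X f G).comm q (q + 1)) c).symm

lemma dd_dd (K : SimplicialObject (FormalCoproduct.{u} (Over X))) (q : ℕ) (c : Coch G K q) :
    dd G K (q + 1) (dd G K q c) = 0 :=
  ConcreteCategory.congr_hom ((Hyper.cechCx X K G).d_comp_d q (q + 1) (q + 1 + 1)) c

/-- coboundaries -/
def Bd (K : SimplicialObject (FormalCoproduct.{u} (Over X))) : ∀ q : ℕ, Coch G K q → Prop
  | 0, c => c = 0
  | q + 1, c => ∃ x, dd G K q x = c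

lemma Bd.pull (f : L ⟶ K) {q : ℕ} {c : Coch G K q} (h : Bd G K q c) :
    Bd G L q (HyperLib.pull G f q c) := by
  rcases q with - | q
  · change _ = 0
    rw [(h : c = 0), map_zero]
  · obtain ⟨x, rfl⟩ := h
    exact ⟨HyperLib.pull G f q x, (pull_dd G f q x).symm⟩

lemma bd_zero (K : SimplicialObject (FormalCoproduct.{u} (Over X))) (q : ℕ) : Bd G K q 0 := by
  rcases q with - | q
  · rfl
  · exact ⟨0, map_zero _⟩

variable {G} {H : Cᵒᵖ ⥤ AddCommGrpCat.{u}}

/-- change of coefficients of cochains -/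
noncomputable abbrev push (φ : G ⟶ H) (K : SimplicialObject (FormalCoproduct.{u} (Over X))) (q : ℕ) :
    Coch G K q →+ Coch H K q :=
  (((FormalCoproduct.cochainComplexFunctor K).map (Functor.whiskerLeft (Over.forget X).op φ)).f q).hom

lemma val_push (φ : G ⟶ H) (q : ℕ) {W : Over X} (p : Pt (K.obj (op ⦋q⦌)) W) (c : Coch G K q) :
    val H p (push φ K q c) = φ.app (op W.left) (val G p c) :=
  val_pushO φ p c

lemma push_dd (φ : G ⟶ H) (q : ℕ) (c : Coch G K q) :
    push φ K (q + 1) (dd G K q c) = dd H K q (push φ K q c) :=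
  (ConcreteCategory.congr_hom
    (((FormalCoproduct.cochainComplexFunctor K).map (Functor.whiskerLeft (Over.forget X).op φ)).comm q (q + 1))
    c).symm

lemma push_pull (φ : G ⟶ H) (f : L ⟶ K) (q : ℕ) (c : Coch G K q) :
    push φ L q (pull G f q c) = pull H f q (push φ K q c) :=
  val_ext fun i => by rw [val_push, val_pull, val_pull, val_push]

lemma Bd.push (φ : G ⟶ H) {q : ℕ} {c : Coch G K q} (h : Bd G K q c) :
    Bd H K q (HyperLib.push φ K q c) := by
  rcases q with - | q
  · change _ = 0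
    rw [(h : c = 0), map_zero]
  · obtain ⟨x, rfl⟩ := h
    exact ⟨HyperLib.push φ K q x, (push_dd φ q x).symm⟩

/-- a class vanishes iff the cochain is a coboundary -/
lemma homologyπ_eq_zero_iff (q : ℕ) (z : (Hyper.cechCx X K G).cycles q) :
    (Hyper.cechCx X K G).homologyπ q z = 0 ↔ Bd G K q ((Hyper.cechCx X K G).iCycles q z) := by
  let S := (Hyper.cechCx X K G).sc q
  have h : (ShortComplex.mk S.toCycles S.homologyπ S.toCycles_comp_homologyπ).Exact :=
    ShortComplex.exact_of_g_is_cokernel _ S.homologyIsCokernel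
  have hi : Function.Injective S.iCycles := (AddCommGrpCat.mono_iff_injective _).1 inferInstance
  have e : S.homologyπ z = 0 ↔ ∃ x, S.f x = S.iCycles z := by
    constructor
    · intro hz
      obtain ⟨x, hx⟩ := (ShortComplex.ab_exact_iff _).1 h z hz
      exact ⟨x, (ConcreteCategory.congr_hom S.toCycles_i x).symm.trans (congrArg S.iCycles hx)⟩
    · rintro ⟨x, hx⟩
      rw [← hi ((ConcreteCategory.congr_hom S.toCycles_i x).trans hx)]
      exact ConcreteCategory.congr_hom S.toCycles_comp_homologyπ x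
  refine e.trans ?_
  rcases q with - | q
  · constructor
    · rintro ⟨x, hx⟩
      change _ = 0
      refine hx.symm.trans ?_
      change (Hyper.cechCx X K G).d _ 0 x = 0
      rw [(Hyper.cechCx X K G).shape _ _ (by simp)]
      rfl
    · intro hz
      exact ⟨0, (map_zero _).trans hz.symm⟩
  · change (∃ x, (Hyper.cechCx X K G).d ((ComplexShape.up ℕ).prev (q + 1)) (q + 1) x = _) ↔ _
    rw [CochainComplex.prev_nat_succ]
    rfl

end Cx

section Dies

variable (J : GrothendieckTopology C)
  [∀ (n : ℕ) (F : (SimplexCategory.Truncated n)ᵒᵖ ⥤ FormalCoproduct.{u} (Over X)),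
    (SimplexCategory.Truncated.inclusion n).op.HasRightKanExtension F]

variable (X) in
/-- every class dies on a refinement -/
def Dies (q : ℕ) (G : Cᵒᵖ ⥤ AddCommGrpCat.{u}) : Prop :=
  ∀ K : SimplicialObject (FormalCoproduct.{u} (Over X)), Hyper.IsHypercovering J X K →
    ∀ c : Coch G K q, dd G K q c = 0 →
      ∃ (L : SimplicialObject (FormalCoproduct.{u} (Over X))) (f : L ⟶ K),
        Hyper.IsHypercovering J X L ∧ Bd G L q (pull G f q c)

theorem dies_iff (q : ℕ) (G : Cᵒᵖ ⥤ AddCommGrpCat.{u}) :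
    (∀ K : SimplicialObject (FormalCoproduct.{u} (Over X)), Hyper.IsHypercovering J X K →
      ∀ ξ : Hyper.cechH X K G q, ∃ (L : SimplicialObject (FormalCoproduct.{u} (Over X))) (f : L ⟶ K),
        Hyper.IsHypercovering J X L ∧ Hyper.cechHMap X f G q ξ = 0) ↔ Dies X J q G := by
  have key : ∀ {K L : SimplicialObject (FormalCoproduct.{u} (Over X))} (f : L ⟶ K)
      (z : (Hyper.cechCx X K G).cycles q),
      Hyper.cechHMap X f G q ((Hyper.cechCx X K G).homologyπ q z) = 0 ↔
        Bd G L q (pull G f q ((Hyper.cechCx X K G).iCycles q z)) := by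
    intro K L f z
    change HomologicalComplex.homologyMap (Hyper.cechMap X f G) q ((Hyper.cechCx X K G).homologyπ q z) = 0 ↔ _
    rw [← ConcreteCategory.comp_apply, HomologicalComplex.homologyπ_naturality, ConcreteCategory.comp_apply,
      homologyπ_eq_zero_iff, ← ConcreteCategory.comp_apply, HomologicalComplex.cyclesMap_i]
    rfl
  constructor
  · intro h K hK c hc
    obtain ⟨z, hz⟩ : ∃ z, (Hyper.cechCx X K G).iCycles q z = c := by
      have h : (ShortComplex.mk ((Hyper.cechCx X K G).iCycles q) ((Hyper.cechCx X K G).d q (q + 1))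
          ((Hyper.cechCx X K G).iCycles_d q (q + 1))).Exact :=
        ShortComplex.exact_of_f_is_kernel _ ((Hyper.cechCx X K G).cyclesIsKernel q (q + 1) (by simp))
      exact (ShortComplex.ab_exact_iff _).1 h c hc
    obtain ⟨L, f, hL, hf⟩ := h K hK ((Hyper.cechCx X K G).homologyπ q z)
    exact ⟨L, f, hL, hz ▸ (key f z).1 hf⟩
  · intro h K hK ξ
    obtain ⟨z, rfl⟩ := (AddCommGrpCat.epi_iff_surjective ((Hyper.cechCx X K G).homologyπ q)).1 inferInstance ξ
    obtain ⟨L, f, hL, hf⟩ := h K hK _ (ConcreteCategory.congr_hom ((Hyper.cechCx X K G).iCycles_d q (q + 1)) z)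
    exact ⟨L, f, hL, (key f z).2 hf⟩

variable {J}

/-- cochains lift on a refinement along maps that lift them locally -/
theorem exists_refinement_lift [HasPullbacks C] {G H : Cᵒᵖ ⥤ AddCommGrpCat.{u}} (φ : G ⟶ H)
    {K : SimplicialObject (FormalCoproduct.{u} (Over X))} (hK : Hyper.IsHypercovering J X K) (q : ℕ)
    (e : Coch H K q)
    (hloc : ∀ i, Presheaf.imageSieve φ (val H (Pt.mk' i (𝟙 ((K.obj (op ⦋q⦌)).obj i))) e) ∈ J _) :
    ∃ (L : SimplicialObject (FormalCoproduct.{u} (Over X))) (f : L ⟶ K) (e' : Coch G L q),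
      Hyper.IsHypercovering J X L ∧ push φ L q e' = pull H f q e := by
  let Kn := K.obj (op ⦋q⦌)
  let S : ∀ i : Kn.I, Sieve (Kn.obj i).left := fun i =>
    Presheaf.imageSieve φ (val H (Pt.mk' i (𝟙 (Kn.obj i))) e)
  let Z : FormalCoproduct.{u} (Over X) :=
    ⟨Σ (i : Kn.I) (V : C), {v : V ⟶ (Kn.obj i).left // (S i).arrows v},
      fun a => Over.mk (a.2.2.1 ≫ (Kn.obj a.1).hom)⟩
  let u : Z ⟶ Kn := ⟨fun a => a.1, fun a => Over.homMk a.2.2.1⟩
  have hu : Hyper.IsSRCovering (J.over X) u := by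
    intro j
    change Sieve.overEquiv _ _ ∈ J _
    refine J.superset_covering (fun V v hv => ?_) (hloc j)
    rw [Sieve.overEquiv_iff]
    exact ⟨_, 𝟙 _, _, Presieve.ofArrows.mk (⟨⟨j, V, v, hv⟩, rfl⟩ : {a // u.f a = j}),
      Over.OverMorphism.ext (by simp [u])⟩
  obtain ⟨L, f, g, hL, hg⟩ := exists_refinement q (isFillable_of_hypercovering hK) (ptFun.map u)
    ⟨fun {W} x => (J.over X).superset_covering (fun V g hg => hg) ((isSRCovering_iff _ _).1 hu W x)⟩
  let lift : ∀ a : Z.I, G.obj (op (Z.obj a).left) := fun a => a.2.2.2.choose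
  have hlift : ∀ a : Z.I, φ.app (op (Z.obj a).left) (lift a) =
      val H (Pt.mk' a (𝟙 (Z.obj a)) ≫ u) e := fun a => by
    rw [Pt.mk'_comp, Category.id_comp]
    refine a.2.2.2.choose_spec.trans ?_
    have h := ev_restrict ((Over.forget X).op ⋙ H) (u.φ a) (Pt.mk' a.1 (𝟙 (Kn.obj a.1)))
    rw [Pt.incl_map_mk', Category.comp_id] at h
    exact (ConcreteCategory.congr_hom h e).symm
  let eZ := (Concrete.productEquiv fun a : Z.I => G.obj (op (Z.obj a).left)).symm lift
  have hval : ∀ a, val G (Pt.mk' a (𝟙 (Z.obj a))) eZ = lift a := fun a => by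
    refine (ConcreteCategory.congr_hom (ev_mk'_id ((Over.forget X).op ⋙ G) a) eZ).trans ?_
    exact Concrete.productEquiv_symm_apply_π (fun a : Z.I => G.obj (op (Z.obj a).left)) lift a
  have heq : pushO φ Z eZ =
      ((FormalCoproduct.evalOp.{u} (Over X) AddCommGrpCat.{u}).obj ((Over.forget X).op ⋙ H)).map u.op e :=
    val_ext fun a => by
      rw [val_pushO, hval, hlift]
      exact (ConcreteCategory.congr_hom (ev_comp ((Over.forget X).op ⋙ H) u _) e).symm
  let Ln := L.obj (op ⦋q⦌)
  refine ⟨L, f, (Concrete.productEquiv fun i : Ln.I => G.obj (op (Ln.obj i).left)).symm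
    (fun i => val G (g i) eZ), hL.isHypercovering, val_ext fun i => ?_⟩
  rw [val_push, val_pull, ← hg i]
  refine (congrArg _ ?_).trans ((val_pushO φ (g i) eZ).symm.trans ?_)
  · refine (ConcreteCategory.congr_hom (ev_mk'_id ((Over.forget X).op ⋙ G) i) _).trans ?_
    exact Concrete.productEquiv_symm_apply_π (fun i : Ln.I => G.obj (op (Ln.obj i).left)) _ i
  · rw [heq]
    exact ConcreteCategory.congr_hom (ev_comp ((Over.forget X).op ⋙ H) u (g i)) e

/-- locally zero cochains vanish on a refinement -/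
theorem exists_refinement_zero [HasPullbacks C] {G : Cᵒᵖ ⥤ AddCommGrpCat.{u}}
    {K : SimplicialObject (FormalCoproduct.{u} (Over X))} (hK : Hyper.IsHypercovering J X K) (q : ℕ)
    (e : Coch G K q)
    (hloc : ∀ i, ∃ S ∈ J ((K.obj (op ⦋q⦌)).obj i).left, ∀ ⦃V : C⦄ (v : V ⟶ _), S.arrows v →
      G.map v.op (val G (Pt.mk' i (𝟙 ((K.obj (op ⦋q⦌)).obj i))) e) = 0) :
    ∃ (L : SimplicialObject (FormalCoproduct.{u} (Over X))) (f : L ⟶ K),
      Hyper.IsHypercovering J X L ∧ pull G f q e = 0 := by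
  obtain ⟨L, f, e', hL, he⟩ := exists_refinement_lift (0 : G ⟶ G) hK q e fun i => by
    obtain ⟨S, hS, hS'⟩ := hloc i
    exact J.superset_covering (fun V v hv => ⟨0, (map_zero _).trans (hS' v hv).symm⟩) hS
  refine ⟨L, f, hL, he.symm.trans (val_ext fun i => ?_)⟩
  rw [val_push, map_zero]
  rfl

variable (J) in
/-- hypercoverings exist -/
theorem exists_hypercovering :
    ∃ K : SimplicialObject (FormalCoproduct.{u} (Over X)), Hyper.IsHypercovering J X K := by
  obtain ⟨K, hK, -⟩ := exists_isFillable (J := J.over X) (P := fun _ => True) fun W => by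
    convert (J.over X).top_mem W
    exact Sieve.ext fun V g => ⟨fun _ => trivial, fun _ => ⟨V, 𝟙 V, g, trivial, Category.id_comp g⟩⟩
  exact ⟨K, hK.isHypercovering⟩

/-- the cochain of a section over the base -/
noncomputable def toC0 (G : Cᵒᵖ ⥤ AddCommGrpCat.{u}) (K : SimplicialObject (FormalCoproduct.{u} (Over X)))
    (t : G.obj (op X)) : Coch G K 0 :=
  (Concrete.productEquiv fun i : (K.obj (op ⦋0⦌)).I => G.obj (op ((K.obj (op ⦋0⦌)).obj i).left)).symm
    fun i => G.map ((K.obj (op ⦋0⦌)).obj i).hom.op t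

lemma val_toC0 (G : Cᵒᵖ ⥤ AddCommGrpCat.{u}) (K : SimplicialObject (FormalCoproduct.{u} (Over X)))
    (t : G.obj (op X)) {W : Over X} (p : Pt (K.obj (op ⦋0⦌)) W) :
    val G p (toC0 G K t) = G.map W.hom.op t := by
  change (Pi.π (fun i : (K.obj (op ⦋0⦌)).I => G.obj (op ((K.obj (op ⦋0⦌)).obj i).left)) p.idx ≫
    G.map p.hom.left.op) _ = _
  rw [ConcreteCategory.comp_apply]
  refine (congrArg (G.map p.hom.left.op) (Concrete.productEquiv_symm_apply_π
    (fun i : (K.obj (op ⦋0⦌)).I => G.obj (op ((K.obj (op ⦋0⦌)).obj i).left)) _ p.idx)).trans ?_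
  rw [← Functor.map_comp_apply, ← op_comp, Over.w p.hom]

lemma dd_toC0 (G : Cᵒᵖ ⥤ AddCommGrpCat.{u}) (K : SimplicialObject (FormalCoproduct.{u} (Over X)))
    (t : G.obj (op X)) : dd G K 0 (toC0 G K t) = 0 := by
  refine val_ext fun i => ?_
  refine (ConcreteCategory.congr_hom (d_zero_ev K ((Over.forget X).op ⋙ G) _) _).trans ?_
  rw [map_zero]
  refine (sub_eq_zero).2 ?_
  exact (val_toC0 G K t _).trans (val_toC0 G K t _).symm

lemma pull_toC0 (G : Cᵒᵖ ⥤ AddCommGrpCat.{u}) {K L : SimplicialObject (FormalCoproduct.{u} (Over X))}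
    (f : L ⟶ K) (t : G.obj (op X)) : pull G f 0 (toC0 G K t) = toC0 G L t :=
  val_ext fun i => by rw [val_pull, val_toC0, val_toC0]

lemma push_toC0 {G H : Cᵒᵖ ⥤ AddCommGrpCat.{u}} (φ : G ⟶ H)
    (K : SimplicialObject (FormalCoproduct.{u} (Over X))) (t : G.obj (op X)) :
    push φ K 0 (toC0 G K t) = toC0 H K (φ.app (op X) t) :=
  val_ext fun i => by rw [val_push, val_toC0, val_toC0, NatTrans.naturality_apply]

variable (F : Sheaf J AddCommGrpCat.{u}) {K : SimplicialObject (FormalCoproduct.{u} (Over X))}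

theorem toC0_injective (hK : Hyper.IsHypercovering J X K) : Function.Injective (toC0 F.obj K) := by
  intro s t h
  have hF : Presieve.IsSheaf J (F.obj ⋙ forget AddCommGrpCat.{u}) :=
    (isSheaf_iff_isSheaf_of_type J _).1 ((sheafCompose J (forget AddCommGrpCat.{u})).obj F).property
  refine ((hF _ hK.1).isSeparatedFor).ext fun V v hv => ?_
  obtain ⟨Y, a, _, ⟨i⟩, rfl⟩ := hv
  have e := congrArg (val F.obj (Pt.mk' i (𝟙 _))) h
  rw [val_toC0, val_toC0] at e
  change F.obj.map (a ≫ _).op s = F.obj.map (a ≫ _).op t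
  rw [op_comp, Functor.map_comp_apply, Functor.map_comp_apply, e]

theorem exists_toC0_eq (hK : Hyper.IsHypercovering J X K) (c : Coch F.obj K 0)
    (hc : dd F.obj K 0 c = 0) : ∃ t, toC0 F.obj K t = c := by
  have hF : Presieve.IsSheaf J (F.obj ⋙ forget AddCommGrpCat.{u}) :=
    (isSheaf_iff_isSheaf_of_type J _).1 ((sheafCompose J (forget AddCommGrpCat.{u})).obj F).property
  have hind : ∀ (W : Over X) (p p' : Pt (K.obj (op ⦋0⦌)) W), val F.obj p c = val F.obj p' c := by
    intro W p p'
    obtain ⟨S, hS, hS'⟩ := (isFillable_of_hypercovering hK).fill 0 W ![p, p'] (coherent_zero _)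
    refine ((hF _ (show Sieve.overEquiv W S ∈ J W.left from hS)).isSeparatedFor).ext fun V v hv => ?_
    obtain ⟨b, hb⟩ := hS' _ ((Sieve.overEquiv_iff _ _).1 hv)
    have h0 := hb 0
    have h1 := hb 1
    have h2 := ConcreteCategory.congr_hom (d_zero_ev K ((Over.forget X).op ⋙ F.obj) b) c
    rw [h0, h1, ev_restrict, ev_restrict] at h2
    change F.obj.map v.op (val F.obj p c) = F.obj.map v.op (val F.obj p' c)
    have h3 : ev ((Over.forget X).op ⋙ F.obj) b (dd F.obj K 0 c) = 0 := by rw [hc, map_zero]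
    exact sub_eq_zero.1 (h2.symm.trans h3)
  have hcov := hK.1
  rw [ofArrows_eq_ptSieve] at hcov
  let R := Sieve.overEquiv (Over.mk (𝟙 X)) (ptSieve (K.obj (op ⦋0⦌)) (Over.mk (𝟙 X)))
  let fam : Presieve.FamilyOfElements (F.obj ⋙ forget AddCommGrpCat.{u}) R.arrows := fun V v hv =>
    val F.obj ((Sieve.overEquiv_iff _ _).1 hv).some c
  have hfam : fam.Compatible := by
    intro V₁ V₂ Z g₁ g₂ v₁ v₂ hv₁ hv₂ e
    change F.obj.map g₁.op (val F.obj ((Sieve.overEquiv_iff _ _).1 hv₁).some c) =
      F.obj.map g₂.op (val F.obj ((Sieve.overEquiv_iff _ _).1 hv₂).some c)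
    let W : Over X := Over.mk (g₁ ≫ v₁)
    let w₁ : W ⟶ Over.mk (v₁ ≫ 𝟙 X) := Over.homMk g₁ (by simp [W])
    let w₂ : W ⟶ Over.mk (v₂ ≫ 𝟙 X) := Over.homMk g₂ (by simp [W]; exact e.symm)
    have e1 := ConcreteCategory.congr_hom
      (ev_restrict ((Over.forget X).op ⋙ F.obj) w₁ ((Sieve.overEquiv_iff _ _).1 hv₁).some) c
    have e2 := ConcreteCategory.congr_hom
      (ev_restrict ((Over.forget X).op ⋙ F.obj) w₂ ((Sieve.overEquiv_iff _ _).1 hv₂).some) c
    exact e1.symm.trans ((hind W _ _).trans e2)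
  obtain ⟨t, ht, -⟩ := hF _ hcov fam hfam
  refine ⟨t, val_ext fun i => ?_⟩
  rw [val_toC0]
  let U := (K.obj (op ⦋0⦌)).obj i
  have hi : R.arrows U.hom := (Sieve.overEquiv_iff _ _).2
    ⟨Pt.mk' i (Over.homMk (𝟙 U.left) (by simp [U]))⟩
  refine (ht U.hom hi).trans ?_
  let w : U ⟶ Over.mk (U.hom ≫ 𝟙 X) := Over.homMk (𝟙 U.left) (by simp)
  have e1 := ConcreteCategory.congr_hom
    (ev_restrict ((Over.forget X).op ⋙ F.obj) w ((Sieve.overEquiv_iff _ _).1 hi).some) c
  refine Eq.trans ?_ (e1.symm.trans (hind U _ _))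
  exact (Functor.map_id_apply F.obj (op U.left) _).symm

end Dies

section Main

variable [HasPullbacks C] {J : GrothendieckTopology C}
  [∀ (n : ℕ) (F : (SimplexCategory.Truncated n)ᵒᵖ ⥤ FormalCoproduct.{u} (Over X)),
    (SimplexCategory.Truncated.inclusion n).op.HasRightKanExtension F]

theorem bd_of_injective (I : Sheaf J AddCommGrpCat.{u}) [Injective I]
    {K : SimplicialObject (FormalCoproduct.{u} (Over X))} (hK : Hyper.IsHypercovering J X K) (q : ℕ)
    (c : Coch I.obj K (q + 1)) (hc : dd I.obj K (q + 1) c = 0) : ∃ x, dd I.obj K q x = c := by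
  obtain ⟨e⟩ := nonempty_cechH_equiv K hK I (q + 1) (fun n i j _ => inferInstance)
  have : Subsingleton (CohSite.HU I (q + 1) X) := inferInstance
  have : Subsingleton (Hyper.cechH X K I.obj (q + 1) : Type u) := e.subsingleton
  have h := ((Hyper.cechCx X K I.obj).exactAt_iff' q (q + 1) (q + 2) (by simp) (by simp)).1
    ((HomologicalComplex.exactAt_iff_isZero_homology _ _).2 (AddCommGrpCat.isZero_of_subsingleton _))
  exact (ShortComplex.ab_exact_iff _).1 h c hc

/-- vanishing of cohomology is detected by Čech classes over hypercoverings -/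
theorem subsingleton_HU_iff_dies (F : Sheaf J AddCommGrpCat.{u}) (q : ℕ) :
    Subsingleton (CohSite.HU F q X) ↔ Dies X J q F.obj := by
  induction q generalizing F with
  | zero =>
    constructor
    · intro h K hK c hc
      obtain ⟨t, rfl⟩ := exists_toC0_eq F hK c hc
      refine ⟨K, 𝟙 K, hK, ?_⟩
      have ht : CohFree.ofSect J X F t = 0 := by
        have : Subsingleton (Abelian.Ext (CohCx.freeSheaf J X) F 0) := h
        exact (Abelian.Ext.mk₀_bijective _ _).1 (Subsingleton.elim _ _)
      have : t = 0 := by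
        rw [← CohFree.evalGen_ofSect J X F t, ht, map_zero]
      change _ = 0
      rw [this, pull_toC0]
      refine val_ext fun i => ?_
      rw [val_toC0, map_zero, map_zero]
    · intro h
      have : Subsingleton (CohCx.freeSheaf J X ⟶ F) := by
        refine subsingleton_of_forall_eq 0 fun φ => ?_
        obtain ⟨K, hK⟩ := exists_hypercovering (X := X) J
        obtain ⟨L, f, hL, hf⟩ := h K hK _ (dd_toC0 F.obj K (CohFree.evalGen J X F φ))
        change pull F.obj f 0 _ = 0 at hf
        rw [pull_toC0] at hf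
        have e : CohFree.evalGen J X F φ = 0 := toC0_injective F hL (hf.trans (val_ext fun i => by
          rw [val_toC0, map_zero, map_zero]))
        apply (CohFree.homEquivSect J X F).injective
        rw [CohFree.homEquivSect_apply, CohFree.homEquivSect_apply, e, map_zero]
      exact (Equiv.ofBijective _ (Abelian.Ext.mk₀_bijective (CohCx.freeSheaf J X) F)).symm.subsingleton
  | succ q ih =>
    let S := injSES F
    have hS : S.ShortExact := injSES_shortExact F
    have : Injective S.X₂ := inferInstanceAs (Injective (Injective.under F))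
    let ι : F.obj ⟶ S.X₂.obj := S.f.hom
    let π : S.X₂.obj ⟶ S.X₃.obj := S.g.hom
    have hinj : ∀ U, Function.Injective (ι.app U) := fun U => by
      have := hS.mono_f
      have : Mono ((sheafToPresheaf J AddCommGrpCat.{u} ⋙ (evaluation _ _).obj U).map S.f) := inferInstance
      exact (AddCommGrpCat.mono_iff_injective _).1 this
    have hex : ∀ U x, π.app U x = 0 → ∃ y, ι.app U y = x := fun U x hx => by
      have := hS.mono_f
      exact (ShortComplex.ab_exact_iff _).1 (hS.exact.map_of_mono_of_preservesKernel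
        (sheafToPresheaf J AddCommGrpCat.{u} ⋙ (evaluation _ _).obj U) this inferInstance) x hx
    have hι : ∀ (K : SimplicialObject (FormalCoproduct.{u} (Over X))) (n : ℕ),
        Function.Injective (push ι K n) := fun K n x y h => val_ext fun i => hinj _ (by
      rw [← val_push, ← val_push, h])
    have hker : ∀ (K : SimplicialObject (FormalCoproduct.{u} (Over X))) (n : ℕ) (x : Coch S.X₂.obj K n),
        push π K n x = 0 → ∃ y, push ι K n y = x := fun K n x hx => by
      choose y hy using fun i => hex _ (val S.X₂.obj (Pt.mk' i (𝟙 ((K.obj (op ⦋n⦌)).obj i))) x) (by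
        rw [← val_push, hx, map_zero])
      refine ⟨(Concrete.productEquiv fun i : (K.obj (op ⦋n⦌)).I =>
        F.obj.obj (op ((K.obj (op ⦋n⦌)).obj i).left)).symm y, val_ext fun i => ?_⟩
      rw [val_push]
      refine Eq.trans (congrArg _ ?_) (hy i)
      refine (ConcreteCategory.congr_hom (ev_mk'_id ((Over.forget X).op ⋙ F.obj) i) _).trans ?_
      exact Concrete.productEquiv_symm_apply_π
        (fun i : (K.obj (op ⦋n⦌)).I => F.obj.obj (op ((K.obj (op ⦋n⦌)).obj i).left)) _ i
    have hπι : ∀ (K : SimplicialObject (FormalCoproduct.{u} (Over X))) (n : ℕ) (x : Coch F.obj K n),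
        push π K n (push ι K n x) = 0 := fun K n x => val_ext fun i => by
      rw [val_push, val_push, map_zero]
      exact ConcreteCategory.congr_hom (congr_app (congrArg (fun f : S.X₁ ⟶ S.X₃ => f.hom) S.zero) _) _
    have hloc : Presheaf.IsLocallySurjective J π := by
      have := hS.epi_g
      exact (Sheaf.isLocallySurjective_iff_epi' AddCommGrpCat.{u} S.g).2 inferInstance
    have hlift : ∀ {K : SimplicialObject (FormalCoproduct.{u} (Over X))}, Hyper.IsHypercovering J X K →
        ∀ (n : ℕ) (e : Coch S.X₃.obj K n), ∃ (L : SimplicialObject (FormalCoproduct.{u} (Over X)))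
          (f : L ⟶ K) (e' : Coch S.X₂.obj L n),
          Hyper.IsHypercovering J X L ∧ push π L n e' = pull S.X₃.obj f n e :=
      fun hK n e => exists_refinement_lift π hK n e fun i => hloc.imageSieve_mem _
    constructor
    · intro h K hK c hc
      obtain ⟨b, hb⟩ := bd_of_injective S.X₂ hK q (push ι K (q + 1) c) (by rw [← push_dd, hc, map_zero])
      have hπb : dd S.X₃.obj K q (push π K q b) = 0 := by rw [← push_dd, hb, hπι]
      rcases q with - | p
      · obtain ⟨t, ht⟩ := exists_toC0_eq S.X₃ hK _ hπb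
        have : Subsingleton (CohSite.HU S.X₁ 1 X) := h
        obtain ⟨s, hs⟩ := surjective_sections_of_subsingleton_HU hS X t
        obtain ⟨y, hy⟩ := hker K 0 (b - toC0 S.X₂.obj K s) (by
          rw [map_sub, push_toC0, ← ht, sub_eq_zero]
          exact congrArg _ hs.symm)
        refine ⟨K, 𝟙 K, hK, pull F.obj (𝟙 K) 0 y, ?_⟩
        rw [← pull_dd]
        refine congrArg _ (hι K 1 ?_)
        rw [push_dd, hy, map_sub, dd_toC0, sub_zero, hb]
      · have : Subsingleton (Abelian.Ext (CohCx.freeSheaf J X) S.X₁ (p + 1 + 1)) := h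
        have := Abelian.Ext.subsingleton_of_injective (CohCx.freeSheaf J X) S.X₂ p
        have hQ : Subsingleton (CohSite.HU S.X₃ (p + 1) X) :=
          subsingleton_ext_right hS (CohCx.freeSheaf J X) (p + 1)
        obtain ⟨L, f, hL, e, he⟩ := (ih S.X₃).1 hQ K hK _ hπb
        obtain ⟨M, g, e', hM, he'⟩ := hlift hL p e
        obtain ⟨y, hy⟩ := hker M (p + 1) (pull S.X₂.obj (g ≫ f) (p + 1) b - dd S.X₂.obj M p e') (by
          rw [map_sub, push_dd, he', ← pull_dd, he, push_pull, pull_pull, sub_self])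
        refine ⟨M, g ≫ f, hM, y, hι M (p + 1 + 1) ?_⟩
        rw [push_dd, hy, map_sub, dd_dd, sub_zero, ← pull_dd, hb, push_pull]
    · intro h
      have hI := Abelian.Ext.subsingleton_of_injective (CohCx.freeSheaf J X) S.X₂ q
      have main : ∀ {K : SimplicialObject (FormalCoproduct.{u} (Over X))}, Hyper.IsHypercovering J X K →
          ∀ e : Coch S.X₃.obj K q, dd S.X₃.obj K q e = 0 →
          ∃ (L : SimplicialObject (FormalCoproduct.{u} (Over X))) (f : L ⟶ K) (w : Coch S.X₂.obj L q),
            Hyper.IsHypercovering J X L ∧ dd S.X₂.obj L q w = 0 ∧ push π L q w = pull S.X₃.obj f q e := by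
        intro K hK e he
        obtain ⟨L, f, b, hL, hb⟩ := hlift hK q e
        obtain ⟨c, hc⟩ := hker L (q + 1) (dd S.X₂.obj L q b) (by rw [push_dd, hb, ← pull_dd, he, map_zero])
        obtain ⟨M, g, hM, x, hx⟩ := h L hL c (hι L (q + 2) (by rw [push_dd, hc, dd_dd, map_zero]))
        refine ⟨M, g ≫ f, pull S.X₂.obj g q b - push ι M q x, hM, ?_, ?_⟩
        · rw [map_sub, ← push_dd, hx, ← pull_dd, ← hc, push_pull, sub_self]
        · rw [map_sub, hπι, sub_zero, push_pull, hb, pull_pull]
      rcases q with - | p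
      · refine subsingleton_ext_one_left hS (CohCx.freeSheaf J X) fun φ => ?_
        obtain ⟨K, hK⟩ := exists_hypercovering (X := X) J
        obtain ⟨L, f, w, hL, hw, hwe⟩ := main hK (toC0 S.X₃.obj K (CohFree.evalGen J X S.X₃ φ))
          (dd_toC0 _ _ _)
        obtain ⟨s, hs⟩ := exists_toC0_eq S.X₂ hL w hw
        refine ⟨CohFree.ofSect J X S.X₂ s, ?_⟩
        rw [ofSect_comp, show S.g.hom.app (op X) s = CohFree.evalGen J X S.X₃ φ from
          toC0_injective S.X₃ hL (by rw [← push_toC0 π, hs, hwe, pull_toC0]), CohFree.ofSect_evalGen]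
      · have hQ : Subsingleton (CohSite.HU S.X₃ (p + 1) X) := (ih S.X₃).2 fun K hK e he => by
          obtain ⟨L, f, w, hL, hw, hwe⟩ := main hK e he
          obtain ⟨a, rfl⟩ := bd_of_injective S.X₂ hL p w hw
          exact ⟨L, f, hL, push π L p a, by rw [← push_dd, hwe]⟩
        have : Subsingleton (Abelian.Ext (CohCx.freeSheaf J X) S.X₃ (p + 1)) := hQ
        exact subsingleton_ext_left hS (CohCx.freeSheaf J X) (p + 1)

/-- classes die for a presheaf iff they die for its associated sheaf -/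
theorem dies_iff_sheafify (G : Cᵒᵖ ⥤ AddCommGrpCat.{u}) (q : ℕ) :
    Dies X J q G ↔ Dies X J q ((presheafToSheaf J AddCommGrpCat.{u}).obj G).obj := by
  let η : G ⟶ ((presheafToSheaf J AddCommGrpCat.{u}).obj G).obj := toSheafify J G
  have hzero : ∀ {K : SimplicialObject (FormalCoproduct.{u} (Over X))}, Hyper.IsHypercovering J X K →
      ∀ (n : ℕ) (e : Coch G K n), push η K n e = 0 →
      ∃ (L : SimplicialObject (FormalCoproduct.{u} (Over X))) (f : L ⟶ K),
        Hyper.IsHypercovering J X L ∧ pull G f n e = 0 := by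
    intro K hK n e he
    refine exists_refinement_zero hK n e fun i => ?_
    refine ⟨_, Presheaf.equalizerSieve_mem J η (val G (Pt.mk' i (𝟙 _)) e) 0 ?_, fun V v hv => ?_⟩
    · rw [← val_push, he, map_zero, map_zero]
    · exact (hv : G.map v.op _ = G.map v.op 0).trans (map_zero _)
  have hlift : ∀ {K : SimplicialObject (FormalCoproduct.{u} (Over X))}, Hyper.IsHypercovering J X K →
      ∀ (n : ℕ) (e : Coch ((presheafToSheaf J AddCommGrpCat.{u}).obj G).obj K n),
      ∃ (L : SimplicialObject (FormalCoproduct.{u} (Over X))) (f : L ⟶ K) (e' : Coch G L n),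
        Hyper.IsHypercovering J X L ∧ push η L n e' = pull _ f n e :=
    fun {K'} hK n e => exists_refinement_lift η hK n e fun i => Presheaf.imageSieve_mem J η (U := op ((K'.obj (op ⦋n⦌)).obj i).left) _
  constructor
  · intro h K hK e he
    obtain ⟨L, f, b, hL, hb⟩ := hlift hK q e
    obtain ⟨M, g, hM, hg⟩ := hzero hL (q + 1) (dd G L q b) (by rw [push_dd, hb, ← pull_dd, he, map_zero])
    obtain ⟨N, k, hN, hk⟩ := h M hM (pull G g q b) (by rw [← pull_dd, hg])
    refine ⟨N, k ≫ g ≫ f, hN, ?_⟩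
    rw [← pull_pull, ← pull_pull, ← hb, ← push_pull, ← push_pull]
    exact hk.push η
  · intro h K hK b hb
    obtain ⟨L, f, hL, hf⟩ := h K hK (push η K q b) (by rw [← push_dd, hb, map_zero])
    rcases q with - | p
    · obtain ⟨M, g, hM, hg⟩ := hzero hL 0 (pull G f 0 b) (by rw [push_pull]; exact hf)
      exact ⟨M, g ≫ f, hM, (pull_pull G g f 0 b).symm.trans hg⟩
    · obtain ⟨e, he⟩ := hf
      obtain ⟨M, g, x, hM, hx⟩ := hlift hL p e
      obtain ⟨N, k, hN, hk⟩ := hzero hM (p + 1) (pull G (g ≫ f) (p + 1) b - dd G M p x) (by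
        rw [map_sub, push_dd, hx, ← pull_dd, he, push_pull, pull_pull, sub_self])
      refine ⟨N, k ≫ g ≫ f, hN, pull G k p x, ?_⟩
      rw [map_sub, sub_eq_zero, pull_pull] at hk
      rw [← pull_dd, ← hk]

end Main

end Groth.HyperLib
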