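import Groth.Prelude.Def_Hyper2
import Mathlib.AlgebraicTopology.SimplicialObject.ChainHomotopy

/-!
Homotopic morphisms induce homotopic maps of Čech complexes.
-/

set_option autoImplicit false
set_option backward.isDefEq.respectTransparency false

universe u v

open CategoryTheory CategoryTheory.Limits Opposite Simplicial AlgebraicTopology

namespace Groth.HyperLib

variable {C : Type u} [SmallCategory C] (X : C)
  {K L : SimplicialObject (FormalCoproduct.{u} (Over X))} {a b : L ⟶ K}

theorem cechHMap_eq_of_homotopy (h : SimplicialObject.Homotopy a b) (P : Cᵒᵖ ⥤ AddCommGrpCat.{u})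
    (p : ℕ) : Hyper.cechHMap X a P p = Hyper.cechHMap X b P p := by
  let G := (FormalCoproduct.evalOp.{u} (Over X) AddCommGrpCat.{u}).obj ((Over.forget X).op ⋙ P)
  let H := SimplicialObject.Homotopy.toChainHomotopy (h.whiskerRight G.rightOp)
  have hd : ∀ (M : SimplicialObject (FormalCoproduct.{u} (Over X))) (n : ℕ),
      (((alternatingFaceMapComplex AddCommGrpCat.{u}ᵒᵖ).obj
        (((SimplicialObject.whiskering _ _).obj G.rightOp).obj M)).d (n + 1) n).unop =
        (Hyper.cechCx X M P).d n (n + 1) := by
    intro M n
    rw [alternatingFaceMapComplex_obj_d]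
    change _ = CochainComplex.of.d (fun n => G.obj (op (M.obj (op ⦋n⦌))))
      (AlternatingCofaceMapComplex.objD
        ((FormalCoproduct.cosimplicialObjectFunctor M).obj ((Over.forget X).op ⋙ P))) n (n + 1)
    refine Eq.trans ?_ (CochainComplex.of_d (fun n => G.obj (op (M.obj (op ⦋n⦌))))
      (AlternatingCofaceMapComplex.objD
        ((FormalCoproduct.cosimplicialObjectFunctor M).obj ((Over.forget X).op ⋙ P))) n).symm
    simp only [AlternatingFaceMapComplex.objD, AlternatingCofaceMapComplex.objD, unop_sum, unop_zsmul]
    rfl
  have e : Homotopy (Hyper.cechMap X a P) (Hyper.cechMap X b P) :=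
    { hom := fun i j => (H.hom j i).unop
      zero := fun i j hij => by
        rw [H.zero j i hij]
        rfl
      comm := fun i => by
        have hc := congrArg Quiver.Hom.unop (H.comm i)
        rcases i with - | n
        · rw [dNext_eq _ (show (ComplexShape.up ℕ).Rel 0 1 from rfl), Homotopy.prevD_zero_cochainComplex,
            add_zero]
          simp only [Homotopy.dNext_zero_chainComplex, zero_add,
            prevD_eq _ (show (ComplexShape.down ℕ).Rel 1 0 from rfl), unop_add, unop_comp] at hc
          refine hc.trans ?_
          erw [hd K 0]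
          rfl
        · rw [dNext_eq _ (show (ComplexShape.up ℕ).Rel (n + 1) (n + 2) from rfl),
            prevD_eq _ (show (ComplexShape.up ℕ).Rel n (n + 1) from rfl)]
          simp only [dNext_eq _ (show (ComplexShape.down ℕ).Rel (n + 1) n from rfl),
            prevD_eq _ (show (ComplexShape.down ℕ).Rel (n + 2) (n + 1) from rfl),
            unop_add, unop_comp] at hc
          refine hc.trans ?_
          erw [hd K (n + 1), hd L n]
          rw [add_comm (_ ≫ (Hyper.cechCx X L P).d n (n + 1))]
          rfl }
  exact congrArg AddCommGrpCat.Hom.hom (e.homologyMap_eq p)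

end Groth.HyperLib
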