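import Groth.Agent.HTopHyper.Hyper.Cosk
import Mathlib.AlgebraicTopology.SimplicialObject.Homotopy
import Mathlib.AlgebraicTopology.SimplexCategory.Basic

/-!
Morphisms agreeing in degrees `< n` have homotopic `n`-coskeleta.
-/

set_option autoImplicit false
set_option backward.isDefEq.respectTransparency false

universe v u

open CategoryTheory CategoryTheory.Limits Opposite Simplicial SimplexCategory

namespace Groth.HyperLib

variable {E : Type u} [Category.{v} E] [HasFiniteLimits E] {n : ℕ}
  [∀ (F : (SimplexCategory.Truncated n)ᵒᵖ ⥤ E),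
    (SimplexCategory.Truncated.inclusion n).op.HasRightKanExtension F]
  {X X' : SimplicialObject E} (f g : X ⟶ X')
  (hfg : ∀ p : ℕ, p < n → f.app (op ⦋p⦌) = g.app (op ⦋p⦌))

omit [HasFiniteLimits E] [∀ (F : (SimplexCategory.Truncated n)ᵒᵖ ⥤ E),
    (SimplexCategory.Truncated.inclusion n).op.HasRightKanExtension F] in
include hfg in
lemma map_app_eq {k k' : SimplexCategory} (hk : k.len ≤ n) (hk' : k'.len ≤ n) (φ : k' ⟶ k)
    (h : ¬(k = k' ∧ HEq φ (𝟙 k'))) :
    X.map φ.op ≫ f.app (op k') = X.map φ.op ≫ g.app (op k') := by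
  obtain ⟨a, rfl⟩ : ∃ a, k' = ⦋a⦌ := ⟨k'.len, rfl⟩
  rcases lt_or_eq_of_le (show a ≤ n from hk') with hlt | heq
  · rw [hfg a hlt]
  · by_cases hinj : Function.Injective φ.toOrderHom
    · have : Mono φ := SimplexCategory.mono_iff_injective.2 hinj
      have h1 : k = ⦋a⦌ := SimplexCategory.ext (le_antisymm (hk.trans heq.ge)
        (SimplexCategory.len_le_of_mono φ))
      subst h1
      exact absurd ⟨rfl, heq_of_eq (SimplexCategory.eq_id_of_mono φ)⟩ h
    · obtain ⟨b, rfl⟩ : ∃ b, a = b + 1 := by
        rcases a with - | b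
        · exact absurd (fun x y _ => Fin.ext (by have := x.isLt; have := y.isLt; simp at *)) hinj
        · exact ⟨b, rfl⟩
      obtain ⟨i, φ', rfl⟩ := SimplexCategory.eq_σ_comp_of_not_injective φ hinj
      simp only [op_comp, Functor.map_comp, Category.assoc]
      refine congrArg (X.map φ'.op ≫ ·) ?_
      change X.σ i ≫ _ = X.σ i ≫ _
      rw [SimplicialObject.σ_naturality, SimplicialObject.σ_naturality, hfg b (by omega)]

open scoped Classical in
/-- choice between `f` and `g` -/
noncomputable def pick {m : ℕ} (i : Fin (m + 1)) {k : SimplexCategory} (θ : k ⟶ ⦋m + 1⦌) :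
    X.obj (op k) ⟶ X'.obj (op k) :=
  if ∀ x, θ.toOrderHom x ≤ i.castSucc then f.app (op k) else g.app (op k)

omit [HasFiniteLimits E] [∀ (F : (SimplexCategory.Truncated n)ᵒᵖ ⥤ E),
    (SimplexCategory.Truncated.inclusion n).op.HasRightKanExtension F] in
include hfg in
lemma pick_nat {m : ℕ} (i : Fin (m + 1)) {k k' : SimplexCategory} (hk : k.len ≤ n) (hk' : k'.len ≤ n)
    (φ : k' ⟶ k) (θ : k ⟶ ⦋m + 1⦌) :
    pick f g i θ ≫ X'.map φ.op = X.map φ.op ≫ pick f g i (φ ≫ θ) := by
  by_cases h : k = k' ∧ HEq φ (𝟙 k')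
  · obtain ⟨rfl, h⟩ := h
    obtain rfl := eq_of_heq h
    simp
  · have e := map_app_eq f g hfg hk hk' φ h
    unfold pick
    split_ifs
    · exact (f.naturality φ.op).symm
    · exact (f.naturality φ.op).symm.trans e
    · exact (g.naturality φ.op).symm.trans e.symm
    · exact (g.naturality φ.op).symm

omit [HasFiniteLimits E] [∀ (F : (SimplexCategory.Truncated n)ᵒᵖ ⥤ E),
    (SimplexCategory.Truncated.inclusion n).op.HasRightKanExtension F] in
lemma val_δ {a : ℕ} (i : Fin (a + 2)) (y : Fin (a + 1)) :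
    ((SimplexCategory.δ i).toOrderHom y).val = if y.val < i.val then y.val else y.val + 1 := by
  simp only [SimplexCategory.δ]
  change (i.succAbove y).val = _
  unfold Fin.succAbove
  by_cases h : y.castSucc < i
  · rw [if_pos h]
    simp only [Fin.lt_def, Fin.val_castSucc] at h
    rw [if_pos h, Fin.val_castSucc]
  · rw [if_neg h]
    simp only [Fin.lt_def, Fin.val_castSucc] at h
    rw [if_neg h, Fin.val_succ]

omit [HasFiniteLimits E] [∀ (F : (SimplexCategory.Truncated n)ᵒᵖ ⥤ E),
    (SimplexCategory.Truncated.inclusion n).op.HasRightKanExtension F] in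
lemma val_σ {a : ℕ} (i : Fin (a + 1)) (y : Fin (a + 2)) :
    ((SimplexCategory.σ i).toOrderHom y).val = if y.val ≤ i.val then y.val else y.val - 1 := by
  simp only [SimplexCategory.σ]
  change (i.predAbove y).val = _
  unfold Fin.predAbove
  by_cases h : i.castSucc < y
  · rw [dif_pos h]
    simp only [Fin.lt_def, Fin.val_castSucc] at h
    rw [if_neg (by omega), Fin.val_pred]
  · rw [dif_neg h]
    simp only [Fin.lt_def, Fin.val_castSucc] at h
    rw [if_pos (by omega), Fin.coe_castPred]

/-- components of the homotopy -/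
noncomputable def hComp {m : ℕ} (i : Fin (m + 1)) :
    ((SimplicialObject.cosk n).obj X).obj (op ⦋m⦌) ⟶
      ((SimplicialObject.cosk n).obj X').obj (op ⦋m + 1⦌) :=
  liftFam X' ⦋m + 1⦌ (fun _ hk θ => leg X hk (θ ≫ SimplexCategory.σ i) ≫ pick f g i θ)
    fun k k' hk hk' φ θ => by
      rw [Category.assoc, pick_nat f g hfg i hk hk' φ θ, ← Category.assoc, leg_map X hk hk',
        Category.assoc]

include hfg in
lemma hComp_leg {m : ℕ} (i : Fin (m + 1)) {k : SimplexCategory} (hk : k.len ≤ n)
    (θ : k ⟶ ⦋m + 1⦌) :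
    hComp f g hfg i ≫ leg X' hk θ = leg X hk (θ ≫ SimplexCategory.σ i) ≫ pick f g i θ :=
  liftFam_leg _ _ _ _ hk θ

omit [HasFiniteLimits E] [∀ (F : (SimplexCategory.Truncated n)ᵒᵖ ⥤ E),
    (SimplexCategory.Truncated.inclusion n).op.HasRightKanExtension F] in
lemma pick_congr {m m' : ℕ} {i : Fin (m + 1)} {i' : Fin (m' + 1)} {k : SimplexCategory}
    {θ : k ⟶ ⦋m + 1⦌} {θ' : k ⟶ ⦋m' + 1⦌}
    (h : ∀ x, θ.toOrderHom x ≤ i.castSucc ↔ θ'.toOrderHom x ≤ i'.castSucc) :
    pick f g i θ = pick f g i' θ' := by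
  unfold pick
  exact if_congr (forall_congr' h) rfl rfl

include hfg in
/-- morphisms agreeing below `n` have homotopic coskeleta -/
theorem cosk_nonempty_homotopy :
    Nonempty (SimplicialObject.Homotopy ((SimplicialObject.cosk n).map f)
      ((SimplicialObject.cosk n).map g)) := by
  refine ⟨{
    h := fun i => hComp f g hfg i
    h_zero_comp_δ_zero := fun m => ?_
    h_last_comp_δ_last := fun m => ?_
    h_succ_comp_δ_castSucc_of_lt := fun {m} i j hij => ?_
    h_succ_comp_δ_castSucc_succ := fun {m} j => ?_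
    h_castSucc_comp_δ_succ_of_lt := fun {m} i j hji => ?_
    h_comp_σ_castSucc_of_le := fun {m} i j hij => ?_
    h_comp_σ_succ_of_lt := fun {m} i j hji => ?_ }⟩
  all_goals refine hom_ext_leg X' fun k hk θ => ?_
  all_goals simp only [SimplicialObject.δ, SimplicialObject.σ, Category.assoc, map_leg,
    hComp_leg, cosk_map_leg]
  all_goals (try erw [map_leg_assoc])
  all_goals (try simp only [Category.assoc])
  · rw [SimplexCategory.δ_comp_σ_self' (Fin.castSucc_zero' (n := m + 1)).symm, Category.comp_id]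
    refine congrArg (leg X hk θ ≫ ·) (if_neg fun h => ?_)
    have := h 0
    simp [SimplexCategory.δ] at this
  · rw [SimplexCategory.δ_comp_σ_succ' (Fin.succ_last m).symm, Category.comp_id]
    refine congrArg (leg X hk θ ≫ ·) (if_pos fun x => ?_)
    simp only [SimplexCategory.comp_toOrderHom, OrderHom.comp_coe, Function.comp_apply]
    simp [SimplexCategory.δ, Fin.le_def, Fin.succAbove, Fin.lt_def]
    exact Nat.lt_succ_iff.mp (θ.toOrderHom x).isLt
  · rw [SimplexCategory.δ_comp_σ_of_le hij]
    congr 1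
    refine pick_congr f g fun x => ?_
    simp only [SimplexCategory.comp_toOrderHom, OrderHom.comp_coe, Function.comp_apply,
      Fin.le_def, Fin.lt_def, val_δ, val_σ, Fin.val_succ, Fin.val_castSucc] at *
    split_ifs <;> omega
  · rw [SimplexCategory.δ_comp_σ_self' (Fin.castSucc_succ j).symm,
      SimplexCategory.δ_comp_σ_succ]
    congr 1
    refine pick_congr f g fun x => ?_
    simp only [SimplexCategory.comp_toOrderHom, OrderHom.comp_coe, Function.comp_apply,
      Fin.le_def, Fin.lt_def, val_δ, val_σ, Fin.val_succ, Fin.val_castSucc] at *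
    split_ifs <;> omega
  · rw [SimplexCategory.δ_comp_σ_of_gt hji]
    congr 1
    refine pick_congr f g fun x => ?_
    simp only [SimplexCategory.comp_toOrderHom, OrderHom.comp_coe, Function.comp_apply,
      Fin.le_def, Fin.lt_def, val_δ, val_σ, Fin.val_succ, Fin.val_castSucc] at *
    split_ifs <;> omega
  · rw [SimplexCategory.σ_comp_σ hij]
    congr 1
    refine pick_congr f g fun x => ?_
    simp only [SimplexCategory.comp_toOrderHom, OrderHom.comp_coe, Function.comp_apply,
      Fin.le_def, Fin.lt_def, val_δ, val_σ, Fin.val_succ, Fin.val_castSucc] at *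
    split_ifs <;> omega
  · rw [← SimplexCategory.σ_comp_σ hji]
    congr 1
    refine pick_congr f g fun x => ?_
    simp only [SimplexCategory.comp_toOrderHom, OrderHom.comp_coe, Function.comp_apply,
      Fin.le_def, Fin.lt_def, val_δ, val_σ, Fin.val_succ, Fin.val_castSucc] at *
    split_ifs <;> omega

end Groth.HyperLib
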