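import Groth.Agent.HTopHyper.Hyper.Resolution
import Mathlib.Topology.Category.TopCat.Opens
import Mathlib.CategoryTheory.Sites.Spaces

/-!
Existence of hypercoverings with components in a class, refining given data.
-/

set_option autoImplicit false
set_option backward.isDefEq.respectTransparency false

universe u

open CategoryTheory CategoryTheory.Limits Opposite Simplicial

namespace Groth.HyperLib

variable {A : Type u} [SmallCategory A]

/-- points as a presheaf -/
def ptFun : FormalCoproduct.{u} A ⥤ (Aᵒᵖ ⥤ Type u) :=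
  yoneda ⋙ (Functor.whiskeringLeft Aᵒᵖ (FormalCoproduct.{u} A)ᵒᵖ (Type u)).obj (FormalCoproduct.incl A).op

/-- points are the elements of the coproduct of representables -/
noncomputable def ptFunIso (K : FormalCoproduct.{u} A) : ptFun.obj K ≅ FormalCoproduct.yoneda.obj K :=
  NatIso.ofComponents (fun W => (Equiv.ofBijective _ (ptElem_bijective K W.unop)).toIso)
    fun {W V} v => by
      ext p
      exact (ptElem_restrict K v.unop p).symm

/-- a morphism given by points -/
def homOfPts {L K : FormalCoproduct.{u} A} (p : ∀ i : L.I, Pt K (L.obj i)) : L ⟶ K :=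
  ⟨fun i => (p i).idx, fun i => (p i).hom⟩

lemma mk'_homOfPts {L K : FormalCoproduct.{u} A} (p : ∀ i : L.I, Pt K (L.obj i)) {W : A} (i : L.I)
    (a : W ⟶ L.obj i) : Pt.mk' i a ≫ homOfPts p = (FormalCoproduct.incl A).map a ≫ p i := by
  rw [Pt.mk'_comp]
  conv_rhs => rw [← Pt.eta (p i), Pt.incl_map_mk']
  rfl

lemma hom_ext_pts {L K : FormalCoproduct.{u} A} {f g : L ⟶ K}
    (h : ∀ i : L.I, Pt.mk' i (𝟙 (L.obj i)) ≫ f = Pt.mk' i (𝟙 (L.obj i)) ≫ g) : f = g := by
  have h' : ∀ i, ∃ e : f.f i = g.f i, f.φ i ≫ eqToHom (congrArg K.obj e) = g.φ i := by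
    intro i
    have := h i
    rw [Pt.mk'_comp, Pt.mk'_comp, Pt.mk'_eq_iff] at this
    simpa using this
  exact FormalCoproduct.hom_ext (funext fun i => (h' i).choose) fun i => (h' i).choose_spec

variable {J : GrothendieckTopology A}

section Unit

variable (K : SimplicialObject (FormalCoproduct.{u} A)) (n : ℕ)
  [∀ (F : (SimplexCategory.Truncated n)ᵒᵖ ⥤ FormalCoproduct.{u} A),
    (SimplexCategory.Truncated.inclusion n).op.HasRightKanExtension F]

/-- points of the coskeleton are determined by their legs -/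
theorem pt_cosk_ext {W : A} {m : SimplexCategory}
    {q q' : Pt (((SimplicialObject.truncation n ⋙ SimplicialObject.Truncated.cosk n).obj K).obj (op m)) W}
    (h : ∀ l (hl : l.len ≤ n) (θ : l ⟶ m), q ≫ leg K hl θ = q' ≫ leg K hl θ) : q = q' := by
  let T := (SimplicialObject.truncation n ⋙ SimplicialObject.Truncated.cosk n).obj K
  let mkU : Pt (T.obj (op m)) W → (tensPt W m ⟶ T) := fun q =>
    { app := fun l => homOfPts fun a => q ≫ T.map a.down.op
      naturality := fun l l' φ => hom_ext_pts fun a => by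
        rw [← Category.assoc, ← Category.assoc, Pt.mk'_comp, mk'_homOfPts, mk'_homOfPts]
        simp only [tensPt, Category.comp_id, CategoryTheory.Functor.map_id, Category.id_comp]
        rw [Category.assoc, ← Functor.map_comp]
        rfl }
  have key : mkU q = mkU q' := by
    apply ((SimplicialObject.coskAdj n).homEquiv _ _).symm.injective
    rw [Adjunction.homEquiv_counit, Adjunction.homEquiv_counit]
    refine NatTrans.ext (funext fun l => hom_ext_pts fun a => ?_)
    change Pt.mk' a (𝟙 W) ≫ homOfPts _ ≫ _ = Pt.mk' a (𝟙 W) ≫ homOfPts _ ≫ _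
    rw [← Category.assoc, ← Category.assoc, mk'_homOfPts, mk'_homOfPts,
      CategoryTheory.Functor.map_id, Category.id_comp, Category.id_comp]
    exact (Category.assoc _ _ _).trans ((h l.unop.obj l.unop.property a.down).trans (Category.assoc _ _ _).symm)
  have h1 := congrArg (fun t : tensPt W m ⟶ T =>
    Pt.mk' (K := (tensPt W m).obj (op m)) ⟨𝟙 m⟩ (𝟙 W) ≫ t.app (op m)) key
  have h2 : ∀ q, Pt.mk' (K := (tensPt W m).obj (op m)) ⟨𝟙 m⟩ (𝟙 W) ≫ (mkU q).app (op m) = q := fun q => by
    refine (mk'_homOfPts (L := (tensPt W m).obj (op m)) (K := T.obj (op m)) _ _ _).trans ?_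
    simp
  exact (h2 q).symm.trans (h1.trans (h2 q'))

/-- local fillers give a covering comparison map -/
theorem isLocSurj_unit_of_fill
    (h : ∀ (W : A) (x : Fin (n + 2) → ((ptSS K W) _⦋n⦌ : Type u)), Coherent x →
      Loc J W fun V g => ∃ b : Pt (K.obj (op ⦋n + 1⦌)) V,
        ∀ i, b ≫ K.δ i = (FormalCoproduct.incl A).map g ≫ x i) :
    IsLocSurj J (((SimplicialObject.coskAdj n).unit.app K).app (op ⦋n + 1⦌)) := by
  intro W q
  let x : Fin (n + 2) → ((ptSS K W) _⦋n⦌ : Type u) := fun i =>
    q ≫ leg K (le_refl n) (SimplexCategory.δ i : ⦋n⦌ ⟶ ⦋n + 1⦌)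
  have hx : Coherent x := by
    rcases n with - | k
    · exact coherent_zero x
    · refine coherent_succ x fun i j hij => ?_
      change (q ≫ leg K _ _) ≫ K.map _ = (q ≫ leg K _ _) ≫ K.map _
      rw [Category.assoc, Category.assoc, leg_map K _ (by simp), leg_map K _ (by simp),
        SimplexCategory.δ_comp_δ hij]
  obtain ⟨S, hS, hS'⟩ := h W x hx
  refine J.superset_covering (fun V g hg => ?_) hS
  obtain ⟨b, hb⟩ := hS' g hg
  refine ⟨b, pt_cosk_ext K n fun l hl θ => ?_⟩
  obtain ⟨i, a, rfl⟩ := SimplexCategory.eq_comp_δ_of_not_surjective θ fun hs => by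
    have := Fintype.card_le_of_surjective _ hs
    simp at this
    omega
  rw [Category.assoc, unit_leg, op_comp, Functor.map_comp, ← Category.assoc]
  refine (congrArg (· ≫ K.map a.op) (hb i)).trans ?_
  change (_ ≫ (q ≫ leg K _ _)) ≫ K.map a.op = _
  simp only [Category.assoc, leg_map K le_rfl hl]

end Unit

/-- the filling property -/
structure IsFillable (J : GrothendieckTopology A) (K : SimplicialObject (FormalCoproduct.{u} A)) : Prop where
  zero : ∀ W, ptSieve (K.obj (op ⦋0⦌)) W ∈ J W
  fill : ∀ (k : ℕ) (W : A) (x : Fin (k + 2) → ((ptSS K W) _⦋k⦌ : Type u)), Coherent x →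
    Loc J W fun V g => ∃ b : Pt (K.obj (op ⦋k + 1⦌)) V,
      ∀ i, b ≫ K.δ i = (FormalCoproduct.incl A).map g ≫ x i

theorem IsFillable.isHypercoveringSite {K : SimplicialObject (FormalCoproduct.{u} A)}
    [∀ (n : ℕ) (F : (SimplexCategory.Truncated n)ᵒᵖ ⥤ FormalCoproduct.{u} A),
      (SimplexCategory.Truncated.inclusion n).op.HasRightKanExtension F]
    (h : IsFillable J K) : Hyper.IsHypercoveringSite J K := by
  refine ⟨(isLocallySurjective_terminal_iff J _).2 h.zero,
    (isLocallySurjective_prod_iff J _ _).2 fun W x y => ?_,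
    fun n _ => (isLocallySurjective_yoneda_iff J _).2 (isLocSurj_unit_of_fill K n (h.fill n))⟩
  obtain ⟨S, hS, hS'⟩ := h.fill 0 W ![y, x] (coherent_zero _)
  exact J.superset_covering (fun V g hg => by
    obtain ⟨b, hb⟩ := hS' g hg
    exact ⟨b, hb 1, hb 0⟩) hS

theorem IsFillable.isHypercovering {C : Type u} [SmallCategory C] {J : GrothendieckTopology C} {X : C}
    {K : SimplicialObject (FormalCoproduct.{u} (Over X))}
    [∀ (n : ℕ) (F : (SimplexCategory.Truncated n)ᵒᵖ ⥤ FormalCoproduct.{u} (Over X)),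
      (SimplexCategory.Truncated.inclusion n).op.HasRightKanExtension F]
    (h : IsFillable (J.over X) K) : Hyper.IsHypercovering J X K := by
  refine ⟨?_, fun n => (isSRCovering_iff _ _).2 (isLocSurj_unit_of_fill K n (h.fill n))⟩
  rw [ofArrows_eq_ptSieve]
  exact h.zero (Over.mk (𝟙 X))

theorem isFillable_of_hypercovering {C : Type u} [SmallCategory C] {J : GrothendieckTopology C} {X : C}
    {K : SimplicialObject (FormalCoproduct.{u} (Over X))}
    [∀ (n : ℕ) (F : (SimplexCategory.Truncated n)ᵒᵖ ⥤ FormalCoproduct.{u} (Over X)),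
      (SimplexCategory.Truncated.inclusion n).op.HasRightKanExtension F]
    (hK : Hyper.IsHypercovering J X K) : IsFillable (J.over X) K :=
  ⟨ptSieve_mem_over J _ hK.1, fun k W x hx =>
    loc_fill_of_isLocSurj K k ((isSRCovering_iff _ _).1 (hK.2 k)) W x hx⟩

/-- points of a fillable object form a locally trivial fibration over the point -/
theorem IsFillable.isTrivFib {K : SimplicialObject (FormalCoproduct.{u} A)} (h : IsFillable J K) :
    IsTrivFib J (toPt (K ⋙ ptFun)) where
  lift0 W _ := ⟨_, h.zero W, fun V g ⟨b⟩ => ⟨b, rfl⟩⟩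
  lift W k ℓ x hx _ := (h.fill k W x hx).mono fun V g ⟨b, hb⟩ => ⟨b, rfl, hb⟩

/-- the point is a locally trivial fibration over itself -/
theorem isTrivFib_pt :
    IsTrivFib J (toPt ((SimplicialObject.const (Aᵒᵖ ⥤ Type u)).obj (ptPresheaf (C := A)))) where
  lift0 W _ := Loc.pure fun V g => ⟨PUnit.unit, rfl⟩
  lift W k ℓ x hx _ := Loc.pure fun V g => ⟨PUnit.unit, rfl, fun i => rfl⟩

/-- the resolution is fillable -/
theorem isFillable_resObj {E : SimplicialObject (Aᵒᵖ ⥤ Type u)} {P : A → Prop} (hP : Covers J P)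
    (hE : IsTrivFib J (toPt E)) : IsFillable J (resObj E P) :=
  ⟨ptSieve_resObj_mem hP hE, loc_resObj_fill hP hE⟩

/-- fillable objects with components in a class exist -/
theorem exists_isFillable {P : A → Prop} (hP : Covers J P) :
    ∃ L : SimplicialObject (FormalCoproduct.{u} A), IsFillable J L ∧
      ∀ (n : ℕ) (i : (L.obj (op ⦋n⦌)).I), P ((L.obj (op ⦋n⦌)).obj i) :=
  ⟨_, isFillable_resObj hP isTrivFib_pt, fun _ D => D.mem _ _⟩

/-- the map from the resolution to a simplicial semi-representable object -/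
def resHom {E : SimplicialObject (Aᵒᵖ ⥤ Type u)} {P : A → Prop}
    {K : SimplicialObject (FormalCoproduct.{u} A)} (t : E ⟶ K ⋙ ptFun) : resObj E P ⟶ K where
  app n := homOfPts fun D => (t.app n).app (op D.top) (D.el n.unop (𝟙 _))
  naturality n m φ := hom_ext_pts fun D => by
    rw [← Category.assoc, ← Category.assoc, Pt.mk'_comp, mk'_homOfPts, mk'_homOfPts,
      CategoryTheory.Functor.map_id, Category.id_comp]
    have h1 := resElem_map (Pt.mk' (K := (resObj E P).obj (op n.unop)) D (𝟙 D.top)) φ.unop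
    have h2 : resElem (Pt.mk' (K := (resObj E P).obj (op n.unop)) D (𝟙 D.top)) = D.el n.unop (𝟙 _) :=
      res_id E _ _ _
    rw [h2, Pt.mk'_comp] at h1
    erw [Category.id_comp] at h1
    refine Eq.trans ?_ (congrArg (· ≫ K.map φ) (Category.id_comp _).symm)
    refine Eq.trans ?_ ((congrArg ((t.app m).app (op D.top)) h1).trans
      (NatTrans.naturality_apply (Functor.whiskerRight t ((evaluation Aᵒᵖ (Type u)).obj (op D.top))) φ _))
    exact (NatTrans.naturality_apply (t.app m) _ _).symm

lemma resHom_app {E : SimplicialObject (Aᵒᵖ ⥤ Type u)} {P : A → Prop}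
    {K : SimplicialObject (FormalCoproduct.{u} A)} (t : E ⟶ K ⋙ ptFun) (n : SimplexCategory)
    (D : RDiag E P n) :
    Pt.mk' (K := (resObj E P).obj (op n)) D (𝟙 D.top) ≫ (resHom t).app (op n) =
      (t.app (op n)).app (op D.top) (D.el n (𝟙 _)) := by
  refine (mk'_homOfPts (L := (resObj E P).obj (op n)) _ _ _).trans ?_
  rw [CategoryTheory.Functor.map_id, Category.id_comp]

section Refine

variable {S : SimplicialObject (Aᵒᵖ ⥤ Type u)} (n : ℕ) {Z : Aᵒᵖ ⥤ Type u} (w : Z ⟶ S.obj (op ⦋n⦌))

/-- simplices with liftings of their simplices of dimension `n` along `w` -/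
def refineE : SimplicialObject (Aᵒᵖ ⥤ Type u) where
  obj l :=
    { obj := fun c => { p : (S.obj l).obj c × ((⦋n⦌ ⟶ l.unop) → Z.obj c) //
        ∀ θ, w.app c (p.2 θ) = (S.map θ.op).app c p.1 }
      map := fun g => ↾fun p => ⟨((S.obj l).map g p.1.1, fun θ => Z.map g (p.1.2 θ)), fun θ => by
        rw [NatTrans.naturality_apply, p.2 θ, NatTrans.naturality_apply]⟩
      map_id := fun c => by
        ext p
        · exact Functor.map_id_apply (S.obj l) c p.1.1
        · exact Functor.map_id_apply Z c _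
      map_comp := fun g h => by
        ext p
        · exact Functor.map_comp_apply (S.obj l) g h p.1.1
        · exact Functor.map_comp_apply Z g h _ }
  map {l l'} φ :=
    { app := fun c => ↾fun p => ⟨((S.map φ).app c p.1.1, fun θ => p.1.2 (θ ≫ φ.unop)), fun θ => by
        rw [p.2, op_comp, Functor.map_comp]
        rfl⟩
      naturality := fun c c' g => by
        ext p
        · exact NatTrans.naturality_apply (S.map φ) g p.1.1
        · rfl }
  map_id l := by
    ext c p
    · exact ConcreteCategory.congr_hom (congr_app (S.map_id l) c) p.1.1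
    · change p.1.2 (_ ≫ 𝟙 _) = _
      rw [Category.comp_id]
      rfl
  map_comp φ ψ := by
    ext c p
    · exact ConcreteCategory.congr_hom (congr_app (S.map_comp φ ψ) c) p.1.1
    · change p.1.2 (_ ≫ ψ.unop ≫ φ.unop) = p.1.2 ((_ ≫ ψ.unop) ≫ φ.unop)
      rw [Category.assoc]

/-- forget the liftings -/
def refineFst : refineE n w ⟶ S where
  app l := { app := fun c => ↾fun p => p.1.1 }

/-- the lifting -/
def refineSnd : (refineE n w).obj (op ⦋n⦌) ⟶ Z where
  app c := ↾fun p => p.1.2 (𝟙 _)

lemma refineSnd_w : refineSnd n w ≫ w = (refineFst n w).app (op ⦋n⦌) := by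
  ext c p
  refine (p.2 (𝟙 _)).trans ?_
  exact ConcreteCategory.congr_hom (congr_app (S.map_id _) c) p.1.1

theorem isTrivFib_refineE (hw : Presheaf.IsLocallySurjective J w) (hS : IsTrivFib J (toPt S)) :
    IsTrivFib J (toPt (refineE n w)) where
  lift0 W _ := (hS.lift0 W PUnit.unit).bind fun V g ⟨y, _⟩ =>
    (Loc.finite fun θ : ⦋n⦌ ⟶ ⦋0⦌ =>
      (⟨_, hw.imageSieve_mem ((sec S V).map θ.op y), fun U h hz => hz⟩ :
        Loc J V fun U h => ∃ z, w.app (op U) z = (res S h).app _ ((sec S V).map θ.op y))).mono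
      fun U h hU => by
        choose z hz using hU
        exact ⟨⟨((res S h).app _ y, z), fun θ => (hz θ).trans (NatTrans.naturality_apply (res S h) _ _)⟩, rfl⟩
  lift W k ℓ x hx _ := by
    have hx' : Coherent (X := sec S W) fun i => (x i).1.1 := fun l a b i j e =>
      congrArg (fun p => p.1.1) (hx l a b i j e)
    obtain ⟨fam, hfam⟩ := exists_fam_nonsurj x hx
    refine (hS.lift W k PUnit.unit _ hx' fun _ => rfl).bind fun V g ⟨y, _, hy⟩ => ?_
    have hz : ∀ θ : ⦋n⦌ ⟶ ⦋k + 1⦌, Loc J V fun U h => ∃ z,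
        w.app (op U) z = (res S h).app _ ((sec S V).map θ.op y) ∧
        ∀ hθ, z = Z.map (h ≫ g).op ((fam _ θ hθ).1.2 (𝟙 _)) := by
      intro θ
      by_cases hθ : Function.Surjective θ.toOrderHom
      · exact ⟨_, hw.imageSieve_mem ((sec S V).map θ.op y),
          fun U h ⟨z, hz⟩ => ⟨z, hz, fun h' => absurd hθ h'⟩⟩
      · refine Loc.pure fun U h => ⟨Z.map (h ≫ g).op ((fam _ θ hθ).1.2 (𝟙 _)), ?_, fun _ => rfl⟩
        obtain ⟨i, a, rfl⟩ := SimplexCategory.eq_comp_δ_of_not_surjective θ hθ
        rw [hfam _ _ hθ i a rfl, NatTrans.naturality_apply, op_comp, Functor.map_comp_apply]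
        refine ((congrArg (fun z => (S.obj (op ⦋n⦌)).map h.op ((S.obj (op ⦋n⦌)).map g.op z))
          (((sec (refineE n w) W).map a.op (x i)).2 (𝟙 _)))).trans ?_
        have e1 : (S.map (𝟙 (⦋n⦌ : SimplexCategory)).op).app (op W)
            ((sec (refineE n w) W).map a.op (x i)).1.1 = (sec S W).map a.op (x i).1.1 :=
          Functor.map_id_apply (sec S W) (X := op ⦋n⦌) _
        refine (congrArg (fun z => (S.obj (op ⦋n⦌)).map h.op ((S.obj (op ⦋n⦌)).map g.op z)) e1).trans ?_
        refine congrArg ((res S h).app (op ⦋n⦌)) ?_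
        rw [op_comp, Functor.map_comp_apply]
        refine Eq.trans ?_ (congrArg ((sec S V).map a.op) (hy i).symm)
        exact NatTrans.naturality_apply (res S g) a.op (x i).1.1
    refine (Loc.finite hz).mono fun U h hU => ?_
    choose z hz1 hz2 using hU
    refine ⟨⟨((res S h).app _ y, z), fun θ => (hz1 θ).trans (NatTrans.naturality_apply (res S h) _ _)⟩,
      rfl, fun i => Subtype.ext (Prod.ext ?_ (funext fun a => ?_))⟩
    · refine (SSet.δ_naturality_apply (res S h) i y).symm.trans ?_
      rw [hy, ← res_comp]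
      rfl
    · have hθ : ¬ Function.Surjective (a ≫ SimplexCategory.δ i).toOrderHom := fun hs => by
        obtain ⟨z, hz⟩ := hs i
        exact Fin.succAbove_ne _ _ hz
      refine (hz2 _ hθ).trans ?_
      rw [hfam _ _ hθ i a rfl]
      change Z.map (h ≫ g).op ((x i).1.2 (𝟙 _ ≫ a)) = _
      rw [Category.id_comp]
      rfl

/-- refinement of a fillable object along a locally surjective map -/
theorem exists_refinement {K : SimplicialObject (FormalCoproduct.{u} A)} (hK : IsFillable J K)
    {P : Aᵒᵖ ⥤ Type u} (w : P ⟶ ptFun.obj (K.obj (op ⦋n⦌))) (hw : Presheaf.IsLocallySurjective J w) :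
    ∃ (L : SimplicialObject (FormalCoproduct.{u} A)) (f : L ⟶ K)
      (g : ∀ i : (L.obj (op ⦋n⦌)).I, P.obj (op ((L.obj (op ⦋n⦌)).obj i))),
      IsFillable J L ∧ ∀ i, w.app _ (g i) = Pt.mk' i (𝟙 _) ≫ f.app (op ⦋n⦌) := by
  let E := refineE n (S := K ⋙ ptFun) w
  refine ⟨resObj E fun _ => True, resHom (refineFst n (S := K ⋙ ptFun) w),
    fun D => (refineSnd n (S := K ⋙ ptFun) w).app _ (D.el ⦋n⦌ (𝟙 _)),
    isFillable_resObj (fun W => ?_) (isTrivFib_refineE n w hw hK.isTrivFib), fun D => ?_⟩
  · convert J.top_mem W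
    exact Sieve.ext fun V g => ⟨fun _ => trivial, fun _ => ⟨V, 𝟙 V, g, trivial, Category.id_comp g⟩⟩
  · refine Eq.trans ?_ (resHom_app (refineFst n (S := K ⋙ ptFun) w) ⦋n⦌ D).symm
    exact ConcreteCategory.congr_hom (congr_app (refineSnd_w n (S := K ⋙ ptFun) w) _) _

end Refine

/-- products of simplicial presheaves -/
def prodE (S T : SimplicialObject (Aᵒᵖ ⥤ Type u)) : SimplicialObject (Aᵒᵖ ⥤ Type u) where
  obj l :=
    { obj := fun c => (S.obj l).obj c × (T.obj l).obj c
      map := fun g => ↾fun p => ((S.obj l).map g p.1, (T.obj l).map g p.2)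
      map_id := fun c => by
        ext p
        · exact Functor.map_id_apply (S.obj l) c p.1
        · exact Functor.map_id_apply (T.obj l) c p.2
      map_comp := fun g h => by
        ext p
        · exact Functor.map_comp_apply (S.obj l) g h p.1
        · exact Functor.map_comp_apply (T.obj l) g h p.2 }
  map φ :=
    { app := fun c => ↾fun p => ((S.map φ).app c p.1, (T.map φ).app c p.2)
      naturality := fun c c' g => by
        ext p
        · exact NatTrans.naturality_apply (S.map φ) g p.1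
        · exact NatTrans.naturality_apply (T.map φ) g p.2 }
  map_id l := by
    ext c p
    · exact ConcreteCategory.congr_hom (congr_app (S.map_id l) c) p.1
    · exact ConcreteCategory.congr_hom (congr_app (T.map_id l) c) p.2
  map_comp φ ψ := by
    ext c p
    · exact ConcreteCategory.congr_hom (congr_app (S.map_comp φ ψ) c) p.1
    · exact ConcreteCategory.congr_hom (congr_app (T.map_comp φ ψ) c) p.2

theorem isTrivFib_prodE {S T : SimplicialObject (Aᵒᵖ ⥤ Type u)} (hS : IsTrivFib J (toPt S))
    (hT : IsTrivFib J (toPt T)) : IsTrivFib J (toPt (prodE S T)) where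
  lift0 W _ := (hS.lift0 W PUnit.unit).bind fun V g ⟨y, _⟩ =>
    (hT.lift0 V PUnit.unit).mono fun U h ⟨z, _⟩ => ⟨((res S h).app _ y, z), rfl⟩
  lift W k ℓ x hx _ := by
    refine (hS.lift W k PUnit.unit (fun i => (x i).1)
      (fun l a b i j e => congrArg Prod.fst (hx l a b i j e)) fun _ => rfl).bind fun V g ⟨y, _, hy⟩ => ?_
    refine (hT.lift V k PUnit.unit (fun i => (res T g).app _ (x i).2) ?_ fun _ => rfl).mono
      fun U h ⟨z, _, hz⟩ => ⟨((res S h).app _ y, z), rfl, fun i => Prod.ext ?_ ?_⟩
    · intro l a b i j e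
      rw [← NatTrans.naturality_apply, ← NatTrans.naturality_apply]
      exact congrArg _ (congrArg Prod.snd (hx l a b i j e))
    · refine (SSet.δ_naturality_apply (res S h) i y).symm.trans ?_
      rw [hy, ← res_comp]
      rfl
    · refine (hz i).trans ?_
      rw [← res_comp]
      rfl

/-- two fillable objects receive maps from a third one -/
theorem exists_common {K L : SimplicialObject (FormalCoproduct.{u} A)} (hK : IsFillable J K)
    (hL : IsFillable J L) :
    ∃ (M : SimplicialObject (FormalCoproduct.{u} A)) (_ : M ⟶ K) (_ : M ⟶ L), IsFillable J M := by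
  let E := prodE (K ⋙ ptFun) (L ⋙ ptFun)
  refine ⟨resObj E fun _ => True,
    resHom { app := fun l => { app := fun c => ↾fun p => p.1 } },
    resHom { app := fun l => { app := fun c => ↾fun p => p.2 } },
    isFillable_resObj (fun W => ?_) (isTrivFib_prodE hK.isTrivFib hL.isTrivFib)⟩
  convert J.top_mem W
  exact Sieve.ext fun V g => ⟨fun _ => trivial, fun _ => ⟨V, 𝟙 V, g, trivial, Category.id_comp g⟩⟩

theorem covers_over {C : Type u} [SmallCategory C] (J : GrothendieckTopology C) (B : Set C) (X : C)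
    (hB : ∀ U : C, (Sieve.generate fun V (_ : V ⟶ U) => V ∈ B) ∈ J U) :
    Covers (J.over X) fun Y => Y.left ∈ B := by
  intro W
  change Sieve.overEquiv W _ ∈ J W.left
  refine J.superset_covering ?_ (hB W.left)
  rintro V v ⟨U, k, h, hU, rfl⟩
  rw [Sieve.overEquiv_iff]
  exact ⟨Over.mk (h ≫ W.hom), Over.homMk k (by simp), Over.homMk h, hU, Over.OverMorphism.ext rfl⟩

end Groth.HyperLib
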