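import Groth.Agent.HTopHyper.Hyper.Existence

/-!
Fillable simplicial semi-representable objects with finitely many components in each degree.
-/

set_option autoImplicit false
set_option backward.isDefEq.respectTransparency false

universe u

open CategoryTheory CategoryTheory.Limits Opposite Simplicial

namespace Groth.HyperLib

variable {A : Type u} [SmallCategory A] (K : SimplicialObject (FormalCoproduct.{u} A))

/-- indices of the levels -/
abbrev Lvl (n : ℕ) : Type u := (K.obj (op ⦋n⦌)).I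

/-- the action of an operator on indices -/
abbrev act {m n : SimplexCategory} (α : m ⟶ n) (D : (K.obj (op n)).I) : (K.obj (op m)).I :=
  (K.map α.op).f D

lemma act_id {n : SimplexCategory} (D : (K.obj (op n)).I) : act K (𝟙 n) D = D := by
  change (K.map (𝟙 (op n))).f D = D
  rw [K.map_id]
  rfl

lemma act_comp {k m n : SimplexCategory} (β : k ⟶ m) (α : m ⟶ n) (D : (K.obj (op n)).I) :
    act K (β ≫ α) D = act K β (act K α D) := by
  change (K.map (α.op ≫ β.op)).f D = _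
  rw [K.map_comp]
  rfl

lemma idx_comp_map {m n : SimplexCategory} {W : A} (p : Pt (K.obj (op n)) W) (α : m ⟶ n) :
    (p ≫ K.map α.op).f PUnit.unit = act K α p.idx := rfl

/-- the indices generated by a set -/
def genIdx (G : Set (Σ n : ℕ, Lvl K n)) (n : SimplexCategoryᵒᵖ) : Set (K.obj n).I :=
  {D | ∃ z ∈ G, ∃ α : n.unop ⟶ ⦋z.1⦌, act K α z.2 = D}

lemma genIdx_closed (G : Set (Σ n : ℕ, Lvl K n)) {n m : SimplexCategoryᵒᵖ} (φ : n ⟶ m) (D : (K.obj n).I)
    (hD : D ∈ genIdx K G n) : (K.map φ).f D ∈ genIdx K G m := by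
  obtain ⟨z, hz, α, rfl⟩ := hD
  exact ⟨z, hz, φ.unop ≫ α, act_comp K φ.unop α z.2⟩

section Sub

variable {K} {S : ∀ n : SimplexCategoryᵒᵖ, Set (K.obj n).I}
  (hS : ∀ {n m : SimplexCategoryᵒᵖ} (φ : n ⟶ m) (D : (K.obj n).I), D ∈ S n → (K.map φ).f D ∈ S m)

/-- the inclusion of some components -/
def subIncl (B : FormalCoproduct.{u} A) (s : Set B.I) :
    (⟨s, fun D => B.obj D.1⟩ : FormalCoproduct.{u} A) ⟶ B :=
  ⟨fun D => D.1, fun _ => 𝟙 _⟩

lemma subIncl_cancel {B Z : FormalCoproduct.{u} A} {s : Set B.I}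
    {f g : Z ⟶ (⟨s, fun D => B.obj D.1⟩ : FormalCoproduct.{u} A)}
    (h : f ≫ subIncl B s = g ≫ subIncl B s) : f = g := by
  obtain ⟨h1, h2⟩ := (FormalCoproduct.hom_ext_iff _ _).1 h
  refine FormalCoproduct.hom_ext (funext fun i => Subtype.ext (congrFun h1 i)) fun i => ?_
  refine Eq.trans ?_ (Eq.trans (h2 i) (Category.comp_id _))
  exact congrArg (· ≫ _) (Category.comp_id (f.φ i)).symm

/-- the restriction of a structure map -/
def subMap {n m : SimplexCategoryᵒᵖ} (φ : n ⟶ m) :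
    (⟨S n, fun D => (K.obj n).obj D.1⟩ : FormalCoproduct.{u} A) ⟶ ⟨S m, fun D => (K.obj m).obj D.1⟩ :=
  ⟨fun D => ⟨(K.map φ).f D.1, hS φ D.1 D.2⟩, fun D => (K.map φ).φ D.1⟩

lemma subMap_incl {n m : SimplexCategoryᵒᵖ} (φ : n ⟶ m) :
    subMap hS φ ≫ subIncl (K.obj m) (S m) = subIncl (K.obj n) (S n) ≫ K.map φ :=
  FormalCoproduct.hom_ext rfl fun D => by simp [subIncl, subMap]

/-- the subobject on a closed set of indices -/
def subObj : SimplicialObject (FormalCoproduct.{u} A) where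
  obj n := ⟨S n, fun D => (K.obj n).obj D.1⟩
  map φ := subMap hS φ
  map_id n := subIncl_cancel (by
    rw [subMap_incl, K.map_id, Category.id_comp, Category.comp_id])
  map_comp φ ψ := subIncl_cancel (by
    rw [subMap_incl, Category.assoc, subMap_incl, ← Category.assoc, subMap_incl, Category.assoc,
      ← K.map_comp])

end Sub

variable [HasFiniteProducts A] [HasEqualizers A]

/-- the universal coherent family with given indices -/
theorem exists_universal_boundary {m : ℕ} (j : Fin (m + 2) → Lvl K m)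
    (hj : ∃ (W : A) (x : Fin (m + 2) → ((ptSS K W) _⦋m⦌ : Type u)),
      Coherent x ∧ ∀ i, Pt.idx (x i) = j i) :
    ∃ (M : A) (u : Fin (m + 2) → ((ptSS K M) _⦋m⦌ : Type u)), Coherent u ∧ (∀ i, Pt.idx (u i) = j i) ∧
      ∀ (W : A) (x : Fin (m + 2) → ((ptSS K W) _⦋m⦌ : Type u)), Coherent x → (∀ i, Pt.idx (x i) = j i) →
        ∃ k : W ⟶ M, ∀ i, (FormalCoproduct.incl A).map k ≫ u i = x i := by
  let P := ∏ᶜ fun i => (K.obj (op ⦋m⦌)).obj (j i)
  let π : ∀ i, ((ptSS K P) _⦋m⦌ : Type u) := fun i =>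
    Pt.mk' (j i) (Pi.π (fun i => (K.obj (op ⦋m⦌)).obj (j i)) i)
  have hlift : ∀ (W : A) (x : Fin (m + 2) → ((ptSS K W) _⦋m⦌ : Type u)), (∀ i, Pt.idx (x i) = j i) →
      ∃ k : W ⟶ P, ∀ i, (FormalCoproduct.incl A).map k ≫ π i = x i := by
    intro W x hx
    refine ⟨Pi.lift fun i => Pt.hom (x i) ≫ eqToHom (congrArg _ (hx i)), fun i => ?_⟩
    rw [Pt.incl_map_mk', Pi.lift_π]
    conv_rhs => rw [← Pt.eta (x i)]
    rw [Pt.mk'_eq_iff]
    exact ⟨(hx i).symm, by rw [Category.assoc, eqToHom_trans, eqToHom_refl, Category.comp_id]⟩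
  rcases m with - | m
  · exact ⟨P, π, coherent_zero _, fun i => rfl, fun W x _ hx => hlift W x hx⟩
  let Pr := {p : Fin (m + 2) × Fin (m + 2) // p.1 ≤ p.2}
  have hidx : ∀ p : Pr, act K (SimplexCategory.δ p.1.1) (j p.1.2.succ) =
      act K (SimplexCategory.δ p.1.2) (j p.1.1.castSucc) := by
    obtain ⟨W, x, hx, hxj⟩ := hj
    intro p
    have h := hx ⦋m⦌ (SimplexCategory.δ p.1.1) (SimplexCategory.δ p.1.2) p.1.2.succ p.1.1.castSucc
      (SimplexCategory.δ_comp_δ p.2)
    have h' := congrArg (fun q : Pt (K.obj (op ⦋m⦌)) W => q.idx) h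
    rw [← hxj, ← hxj]
    exact h'
  let tgt : Pr → A := fun p => (K.obj (op ⦋m⦌)).obj (act K (SimplexCategory.δ p.1.2) (j p.1.1.castSucc))
  let f : P ⟶ ∏ᶜ tgt := Pi.lift fun p =>
    Pi.π (fun i => (K.obj (op ⦋m + 1⦌)).obj (j i)) p.1.2.succ ≫
      (K.map (SimplexCategory.δ p.1.1).op).φ _ ≫ eqToHom (congrArg _ (hidx p))
  let g : P ⟶ ∏ᶜ tgt := Pi.lift fun p =>
    Pi.π (fun i => (K.obj (op ⦋m + 1⦌)).obj (j i)) p.1.1.castSucc ≫
      (K.map (SimplexCategory.δ p.1.2).op).φ _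
  have key : ∀ (W : A) (k : W ⟶ P) (p : Pr),
      (ptSS K W).δ p.1.1 ((FormalCoproduct.incl A).map k ≫ π p.1.2.succ) =
        (ptSS K W).δ p.1.2 ((FormalCoproduct.incl A).map k ≫ π p.1.1.castSucc) ↔
      k ≫ f ≫ Pi.π tgt p = k ≫ g ≫ Pi.π tgt p := by
    intro W k p
    change ((FormalCoproduct.incl A).map k ≫ π p.1.2.succ) ≫ K.map (SimplexCategory.δ p.1.1).op =
      ((FormalCoproduct.incl A).map k ≫ π p.1.1.castSucc) ≫ K.map (SimplexCategory.δ p.1.2).op ↔ _
    rw [Pt.incl_map_mk', Pt.incl_map_mk', Pt.mk'_comp, Pt.mk'_comp, Pt.mk'_eq_iff, Pi.lift_π, Pi.lift_π]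
    constructor
    · rintro ⟨_, he⟩
      simpa only [Category.assoc] using he
    · intro he
      exact ⟨hidx p, by simpa only [Category.assoc] using he⟩
  refine ⟨equalizer f g, fun i => (FormalCoproduct.incl A).map (equalizer.ι f g) ≫ π i, ?_, fun i => rfl, ?_⟩
  · refine coherent_succ _ fun a b hab => (key _ _ ⟨⟨a, b⟩, hab⟩).2 ?_
    rw [← Category.assoc, equalizer.condition, Category.assoc]
  · intro W x hx hxj
    obtain ⟨k, hk⟩ := hlift W x hxj
    have hkfg : k ≫ f = k ≫ g := Pi.hom_ext _ _ fun p => by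
      rw [Category.assoc, Category.assoc, ← key W k p, hk, hk]
      exact hx _ _ _ _ _ (SimplexCategory.δ_comp_δ p.2)
    refine ⟨equalizer.lift k hkfg, fun i => ?_⟩
    rw [← Category.assoc, ← Functor.map_comp, equalizer.lift_ι, hk]

/-- a fillable subobject with finite levels -/
theorem exists_finite_fillable {J : GrothendieckTopology A} {T : A} (hT : IsTerminal T) (P : A → Prop)
    (hcov : ∀ W : A, ∃ (ι : Type u) (_ : Finite ι) (V : ι → A) (v : ∀ a, V a ⟶ W),
      Sieve.ofArrows V v ∈ J W ∧ ∀ a, P (V a))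
    (hP : ∀ n i, P ((K.obj (op ⦋n⦌)).obj i))
    (hpt : ∀ V, P V → Nonempty (Pt (K.obj (op ⦋0⦌)) V))
    (hfill : ∀ (k : ℕ) (V : A), P V → ∀ x : Fin (k + 2) → ((ptSS K V) _⦋k⦌ : Type u), Coherent x →
      ∃ b : Pt (K.obj (op ⦋k + 1⦌)) V, ∀ i, b ≫ K.δ i = x i) :
    ∃ L : SimplicialObject (FormalCoproduct.{u} A), IsFillable J L ∧
      ∀ n, Finite (L.obj (op ⦋n⦌)).I ∧ ∀ i, P ((L.obj (op ⦋n⦌)).obj i) := by
  classical
  choose ι hι V v hv hPV using hcov
  -- indices needed to fill boundaries with indices in a given set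
  have step : ∀ (m : ℕ) (s : Set (Lvl K m)), s.Finite → ∃ G : Set (Lvl K (m + 1)), G.Finite ∧
      (∀ D ∈ G, ∀ i, act K (SimplexCategory.δ i) D ∈ s) ∧
      ∀ (W : A) (x : Fin (m + 2) → ((ptSS K W) _⦋m⦌ : Type u)), Coherent x → (∀ i, Pt.idx (x i) ∈ s) →
        Loc J W fun U g => ∃ b : Pt (K.obj (op ⦋m + 1⦌)) U, b.idx ∈ G ∧
          ∀ i, b ≫ K.δ i = (FormalCoproduct.incl A).map g ≫ x i := by
    intro m s hs
    let R := {j : Fin (m + 2) → s // ∃ (W : A) (x : Fin (m + 2) → ((ptSS K W) _⦋m⦌ : Type u)),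
      Coherent x ∧ ∀ i, Pt.idx (x i) = (j i).1}
    have : Finite s := hs.to_subtype
    choose M u hu huj huniv using fun j : R => exists_universal_boundary K (fun i => (j.1 i).1) j.2
    have hfill' : ∀ (j : R) (a : ι (M j)), ∃ b : Pt (K.obj (op ⦋m + 1⦌)) (V (M j) a),
        ∀ i, b ≫ K.δ i = (FormalCoproduct.incl A).map (v (M j) a) ≫ u j i := fun j a =>
      hfill m _ (hPV _ a) _ fun l c d i i' e => by
        change (_ ≫ u j i) ≫ _ = (_ ≫ u j i') ≫ _
        rw [Category.assoc, Category.assoc]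
        exact congrArg _ (hu j l c d i i' e)
    choose b hb using hfill'
    have := fun W => hι W
    refine ⟨Set.range fun z : (Σ j : R, ι (M j)) => (b z.1 z.2).idx, Set.finite_range _, ?_, ?_⟩
    · rintro _ ⟨⟨j, a⟩, rfl⟩ i
      have h := congrArg (fun q : Pt (K.obj (op ⦋m⦌)) _ => q.idx) (hb j a i)
      change act K (SimplexCategory.δ i) (b j a).idx ∈ s
      rw [show act K (SimplexCategory.δ i) (b j a).idx = (j.1 i).1 from h.trans (huj j i)]
      exact (j.1 i).2
    · intro W x hx hxs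
      let j : R := ⟨fun i => ⟨Pt.idx (x i), hxs i⟩, W, x, hx, fun i => rfl⟩
      obtain ⟨k, hk⟩ := huniv j W x hx fun i => rfl
      refine ⟨_, J.pullback_stable k (hv (M j)), fun U g hg => ?_⟩
      obtain ⟨Y, q, _, ⟨a⟩, hq⟩ := hg
      refine ⟨(FormalCoproduct.incl A).map q ≫ b j a, ⟨⟨j, a⟩, rfl⟩, fun i => ?_⟩
      rw [Category.assoc, hb, ← Category.assoc, ← Functor.map_comp, hq, Functor.map_comp,
        Category.assoc, hk]
  -- the sets of new indices
  choose Gs hGsf hGsδ hGsfill using step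
  let acc : ℕ → Set (Σ n : ℕ, Lvl K n) := fun m => m.rec
    (Set.range fun a : ι T => (⟨0, (Classical.choice (hpt (V T a) (hPV T a))).idx⟩ : Σ n : ℕ, Lvl K n))
    (fun m s => if h : (genIdx K s (op ⦋m⦌)).Finite then s ∪ Sigma.mk (m + 1) '' Gs m _ h else s)
  have hgen : ∀ (s : Set (Σ n : ℕ, Lvl K n)) (n : ℕ), s.Finite → (genIdx K s (op ⦋n⦌)).Finite := by
    intro s n hs
    have : Finite s := hs.to_subtype
    have hH : ∀ a b : SimplexCategory, Finite (a ⟶ b) := fun a b =>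
      Finite.of_injective (fun f => (f.toOrderHom : Fin (a.len + 1) → Fin (b.len + 1)))
        fun f g h => SimplexCategory.Hom.ext _ _ (OrderHom.ext _ _ h)
    refine (Set.finite_range fun z : (Σ z : s, (⦋n⦌ ⟶ ⦋z.1.1⦌)) => act K z.2 z.1.1.2).subset ?_
    rintro _ ⟨z, hz, α, rfl⟩
    exact ⟨⟨⟨z, hz⟩, α⟩, rfl⟩
  have haccf : ∀ m, (acc m).Finite := by
    intro m
    induction m with
    | zero =>
      have := hι T
      exact Set.finite_range _
    | succ m ih =>
      change (dite _ _ _ : Set _).Finite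
      split
      · exact ih.union ((hGsf _ _ _).image _)
      · exact ih
  have haccs : ∀ m, acc (m + 1) = acc m ∪ Sigma.mk (m + 1) '' Gs m _ (hgen _ m (haccf m)) := fun m =>
    dif_pos (hgen _ m (haccf m))
  let G : Set (Σ n : ℕ, Lvl K n) := ⋃ m, acc m
  have hlev : ∀ m (z : Σ n : ℕ, Lvl K n), z ∈ acc m → z.1 ≤ m := by
    intro m
    induction m with
    | zero =>
      rintro _ ⟨a, rfl⟩
      exact le_rfl
    | succ m ih =>
      rw [haccs]
      rintro z (hz | ⟨D, _, rfl⟩)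
      · exact (ih z hz).trans (Nat.le_succ m)
      · exact le_rfl
  have hmem : ∀ m, ∀ n, n ≤ m → genIdx K (acc m) (op ⦋n⦌) ⊆ genIdx K (acc n) (op ⦋n⦌) := by
    intro m
    induction m with
    | zero =>
      intro n hn
      obtain rfl : n = 0 := by omega
      exact le_rfl
    | succ m ih =>
      intro n hn D hD
      rcases Nat.eq_or_lt_of_le hn with rfl | hlt
      · exact hD
      · obtain ⟨z, hz, α, rfl⟩ := hD
        rw [haccs] at hz
        rcases hz with hz | ⟨D', hD', rfl⟩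
        · exact ih n (by omega) ⟨z, hz, α, rfl⟩
        · obtain ⟨i, a, rfl⟩ := SimplexCategory.eq_comp_δ_of_not_surjective α fun hs => by
            have := Fintype.card_le_of_surjective _ hs
            simp at this
            omega
          obtain ⟨w, hw, β, hβ⟩ := hGsδ m _ (hgen _ m (haccf m)) D' hD' i
          refine ih n (by omega) ⟨w, hw, a ≫ β, ?_⟩
          rw [act_comp, hβ, ← act_comp]
  have hG : ∀ n, genIdx K G (op ⦋n⦌) = genIdx K (acc n) (op ⦋n⦌) := by
    intro n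
    refine Set.Subset.antisymm ?_ fun D ⟨z, hz, α, h⟩ => ⟨z, Set.mem_iUnion.2 ⟨n, hz⟩, α, h⟩
    rintro D ⟨z, hz, α, rfl⟩
    obtain ⟨m, hm⟩ := Set.mem_iUnion.1 hz
    have hmono : ∀ d, acc n ⊆ acc (n + d) := by
      intro d
      induction d with
      | zero => exact le_rfl
      | succ d ih =>
        rw [← Nat.add_assoc, haccs]
        exact ih.trans Set.subset_union_left
    have hmono' : ∀ d, acc m ⊆ acc (m + d) := by
      intro d
      induction d with
      | zero => exact le_rfl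
      | succ d ih =>
        rw [← Nat.add_assoc, haccs]
        exact ih.trans Set.subset_union_left
    exact hmem (m + n) n (Nat.le_add_left n m) ⟨z, hmono' n hm, α, rfl⟩
  let L := subObj (K := K) (S := genIdx K G) fun φ D hD => genIdx_closed K G φ D hD
  let inc : ∀ n, L.obj n ⟶ K.obj n := fun n => subIncl (K.obj n) (genIdx K G n)
  refine ⟨L, ⟨fun W => ?_, fun k W x hx => ?_⟩, fun n => ⟨?_, fun i => hP n i.1⟩⟩
  · refine J.superset_covering ?_ (J.pullback_stable (hT.from W) (hv T))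
    rintro U g ⟨Y, q, _, ⟨a⟩, -⟩
    let p := Classical.choice (hpt (V T a) (hPV T a))
    exact ⟨(FormalCoproduct.incl A).map q ≫ Pt.mk' (K := L.obj (op ⦋0⦌))
      ⟨p.idx, by rw [hG]; exact ⟨⟨0, p.idx⟩, ⟨a, rfl⟩, 𝟙 _, act_id K _⟩⟩ p.hom⟩
  · let x' : Fin (k + 2) → ((ptSS K W) _⦋k⦌ : Type u) := fun i => x i ≫ inc _
    have hinc : ∀ {n m : SimplexCategoryᵒᵖ} (φ : n ⟶ m), L.map φ ≫ inc m = inc n ≫ K.map φ := fun φ =>
      subMap_incl (fun φ D hD => genIdx_closed K G φ D hD) φ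
    have hx' : Coherent x' := by
      intro l a b i j e
      change (x i ≫ inc _) ≫ K.map a.op = (x j ≫ inc _) ≫ K.map b.op
      rw [Category.assoc, Category.assoc, ← hinc, ← hinc, ← Category.assoc, ← Category.assoc]
      exact congrArg (· ≫ inc _) (hx l a b i j e)
    refine (hGsfill k _ (hgen _ k (haccf k)) W x' hx' fun i => ?_).mono fun U g ⟨b, hbG, hb⟩ => ?_
    · rw [← hG]
      exact (Pt.idx (x i)).2
    · refine ⟨Pt.mk' (K := L.obj (op ⦋k + 1⦌)) ⟨b.idx, ?_⟩ b.hom, fun i => subIncl_cancel ?_⟩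
      · rw [hG, haccs]
        exact ⟨⟨k + 1, b.idx⟩, Or.inr ⟨_, hbG, rfl⟩, 𝟙 _, act_id K _⟩
      · change (Pt.mk' _ _ ≫ L.map _) ≫ inc _ = (_ ≫ x i) ≫ inc _
        rw [Category.assoc, hinc, ← Category.assoc, Category.assoc _ (x i)]
        refine Eq.trans ?_ (hb i)
        refine congrArg (· ≫ _) ?_
        rw [Pt.mk'_comp]
        conv_rhs => rw [← b.eta]
        rw [Pt.mk'_eq_iff]
        exact ⟨rfl, (Category.comp_id _).trans (Category.comp_id b.hom)⟩
  · rw [show (L.obj (op ⦋n⦌)).I = genIdx K G (op ⦋n⦌) from rfl, hG]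
    exact (hgen _ n (haccf n)).to_subtype

end Groth.HyperLib
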