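import Groth.Agent.HTopHyper.Hyper.TrivFibHypercovering
import Mathlib.AlgebraicTopology.SimplicialSet.Dimension

/-!
Local lifting of finite dimensional simplicial sets into locally trivial fibrations over the point,
compatible with degeneracies.
-/

set_option autoImplicit false
set_option backward.isDefEq.respectTransparency false

universe u

open CategoryTheory CategoryTheory.Limits Opposite Simplicial

namespace Groth.HyperLib

/-- two degenerate simplices with the same faces are equal -/
theorem eq_of_degenerate_of_faces {X : SSet.{u}} {n : ℕ} {x y : (X _⦋n + 1⦌ : Type u)}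
    (hx : x ∈ X.degenerate (n + 1)) (hy : y ∈ X.degenerate (n + 1))
    (h : ∀ i, X.δ i x = X.δ i y) : x = y := by
  rw [SSet.degenerate_eq_iUnion_range_σ, Set.mem_iUnion] at hx hy
  obtain ⟨i, a, rfl⟩ := hx
  obtain ⟨j, b, rfl⟩ := hy
  have e1 : ∀ (i : Fin (n + 1)) (z : (X _⦋n⦌ : Type u)), X.δ i.castSucc (X.σ i z) = z := fun i z =>
    ConcreteCategory.congr_hom (X.δ_comp_σ_self (i := i)) z
  wlog hij : i ≤ j generalizing i j a b
  · exact (this j b i a (fun k => (h k).symm) (le_of_not_ge hij)).symm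
  rcases hij.eq_or_lt with rfl | hlt
  · have := h i.castSucc
    rw [e1, e1] at this
    rw [this]
  · rcases n with - | m
    · exact absurd hlt (by omega)
    · obtain ⟨j, rfl⟩ := Fin.eq_succ_of_ne_zero (Fin.ne_zero_of_lt hlt)
      obtain ⟨i', rfl⟩ : ∃ i' : Fin (m + 1), i = i'.castSucc :=
        ⟨i.castPred (Fin.ne_last_of_lt hlt), (Fin.castSucc_castPred _ _).symm⟩
      have hle : i' ≤ j := Fin.castSucc_lt_succ_iff.1 hlt
      have h1 := h i'.castSucc.castSucc
      rw [e1] at h1
      have e2 : X.δ i'.castSucc.castSucc (X.σ j.succ b) = X.σ j (X.δ i'.castSucc b) :=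
        ConcreteCategory.congr_hom
          (X.δ_comp_σ_of_le (i := i'.castSucc) (j := j) (Fin.castSucc_le_castSucc_iff.2 hle)) b
      rw [e2] at h1
      have e3 : X.σ i'.castSucc a = X.σ j.succ (X.σ i' (X.δ i'.castSucc b)) := by
        rw [h1]
        exact ConcreteCategory.congr_hom (X.σ_comp_σ hle) _
      rw [e3]
      have h2 := h j.succ.castSucc
      rw [e1, e3, e1] at h2
      rw [h2]

variable {C : Type u} [SmallCategory C] {J : GrothendieckTopology C}
  {S : SimplicialObject (Cᵒᵖ ⥤ Type u)} {W : C} (T : SSet.{u}) (T0 : T.Subcomplex)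
  (g0 : T0.toSSet ⟶ sec S W)

/-- a partial lift on the levels below `M` -/
structure PLift {V : C} (r : V ⟶ W) (M : ℕ) : Type u where
  g : ∀ k, k < M → (T _⦋k⦌ : Type u) → ((sec S V) _⦋k⦌ : Type u)
  hg0 : ∀ k hk t (ht : t ∈ T0.obj (op ⦋k⦌)), g k hk t = (res S r).app _ (g0.app _ ⟨t, ht⟩)
  nat : ∀ k l hk hl (φ : ⦋k⦌ ⟶ ⦋l⦌) t, g k hk (T.map φ.op t) = (sec S V).map φ.op (g l hl t)

variable {T T0 g0}

namespace PLift

variable {V : C} {r : V ⟶ W} {M : ℕ}

/-- restriction to a smaller object -/
def pullback (P : PLift T T0 g0 r M) {U : C} (h : U ⟶ V) : PLift T T0 g0 (h ≫ r) M where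
  g k hk t := (res S h).app _ (P.g k hk t)
  hg0 k hk t ht := by rw [P.hg0, res_comp]
  nat k l hk hl φ t := by rw [P.nat k l hk hl, NatTrans.naturality_apply]

lemma exists_succ (P : PLift T T0 g0 r M) (y : (T _⦋M⦌ : Type u) → ((sec S V) _⦋M⦌ : Type u))
    (h0 : ∀ t ht, y t = (res S r).app _ (g0.app _ ⟨t, ht⟩))
    (hd : ∀ t, t ∈ T.degenerate M → y t ∈ (sec S V).degenerate M)
    (hδ : ∀ k (e : M = k + 1) i t,
      (sec S V).δ i (e ▸ y t) = P.g k (e ▸ Nat.lt_succ_self k) (T.δ i (e ▸ t))) :
    ∃ Q : PLift T T0 g0 r (M + 1), ∀ k (hk : k < M), Q.g k (Nat.lt_succ_of_lt hk) = P.g k hk := by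
  let g' : ∀ k, k < M + 1 → (T _⦋k⦌ : Type u) → ((sec S V) _⦋k⦌ : Type u) := fun k hk =>
    if hk' : k < M then P.g k hk' else (show k = M by omega) ▸ y
  have hlt : ∀ k hk (hk' : k < M) t, g' k hk t = P.g k hk' t := fun k hk hk' t => by
    simp only [g', dif_pos hk']
  have heq : g' M (Nat.lt_succ_self M) = y := by simp only [g', dif_neg (lt_irrefl M)]
  have up : ∀ l (hl : l < M) (a : ⦋M⦌ ⟶ ⦋l⦌) s, y (T.map a.op s) = (sec S V).map a.op (P.g l hl s) := by
    intro l hl a s
    obtain ⟨m, rfl⟩ : ∃ m, M = m + 1 := ⟨M - 1, by omega⟩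
    refine eq_of_degenerate_of_faces (hd _ ⟨l, hl, a, s, rfl⟩) ⟨l, hl, a, _, rfl⟩ fun i => ?_
    rw [hδ m rfl i, SimplicialObject.δ, SimplicialObject.δ, ← Functor.map_comp_apply,
      ← Functor.map_comp_apply, ← op_comp, P.nat m l _ hl]
  refine ⟨⟨g', fun k hk t ht => ?_, fun k l hk hl φ t => ?_⟩, fun k hk => funext fun t => hlt k (Nat.lt_succ_of_lt hk) hk t⟩
  · by_cases hk' : k < M
    · rw [hlt k hk hk', P.hg0 k hk' t ht]
    · obtain rfl : k = M := by omega
      rw [heq, h0 t ht]
  · by_cases hl' : l < M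
    · rw [hlt l hl hl']
      by_cases hk' : k < M
      · rw [hlt k hk hk', P.nat k l hk' hl']
      · obtain rfl : M = k := by omega
        rw [heq, up l hl' φ t]
    · obtain rfl : M = l := by omega
      rw [heq]
      by_cases hs : Function.Surjective φ.toOrderHom
      · obtain rfl : M = k := by
          have := Fintype.card_le_of_surjective _ hs
          simp at this
          omega
        have : Epi φ := SimplexCategory.epi_iff_surjective.2 hs
        rw [SimplexCategory.eq_id_of_epi φ, heq]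
        exact (congrArg y (Functor.map_id_apply T _ t)).trans (Functor.map_id_apply (sec S V) _ _).symm
      · obtain ⟨m, rfl⟩ : ∃ m, M = m + 1 := by
          rcases M with - | m
          · exact absurd (fun y => ⟨0, Subsingleton.elim (α := Fin 1) _ _⟩) hs
          · exact ⟨m, rfl⟩
        obtain ⟨i, a, rfl⟩ := SimplexCategory.eq_comp_δ_of_not_surjective φ hs
        rw [op_comp, Functor.map_comp_apply, Functor.map_comp_apply]
        change g' k hk (T.map a.op (T.δ i t)) = (sec S V).map a.op ((sec S V).δ i (y t))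
        rw [hδ m rfl i t]
        by_cases hk' : k < m + 1
        · rw [hlt k hk hk', P.nat k m hk' (Nat.lt_succ_self m)]
        · obtain rfl : k = m + 1 := by omega
          rw [heq, up m (Nat.lt_succ_self m) a]

/-- degenerate simplices have canonical lifts -/
lemma exists_degenerate (P : PLift T T0 g0 r M) (t : (T _⦋M⦌ : Type u)) (ht : t ∈ T.degenerate M) :
    ∃ y : ((sec S V) _⦋M⦌ : Type u),
      (∀ h, y = (res S r).app _ (g0.app _ ⟨t, h⟩)) ∧ y ∈ (sec S V).degenerate M ∧
      ∀ k (e : M = k + 1) i,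
        (sec S V).δ i (e ▸ y) = P.g k (e ▸ Nat.lt_succ_self k) (T.δ i (e ▸ t)) := by
  rcases M with - | m
  · simp at ht
  rw [SSet.degenerate_eq_iUnion_range_σ, Set.mem_iUnion] at ht
  obtain ⟨j, t', rfl⟩ := ht
  refine ⟨(sec S V).σ j (P.g m (Nat.lt_succ_self m) t'), fun h => ?_, SSet.σ_mem_degenerate _ _ _, ?_⟩
  · have h' : t' ∈ T0.obj (op ⦋m⦌) := by
      have := T0.map (SimplexCategory.δ j.castSucc).op h
      have e1 : T.δ j.castSucc (T.σ j t') = t' := ConcreteCategory.congr_hom (T.δ_comp_σ_self (i := j)) t'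
      rw [← e1]
      exact this
    rw [P.hg0 m _ t' h']
    refine (NatTrans.naturality_apply (res S r) (SimplexCategory.σ j).op _).symm.trans (congrArg _ ?_)
    exact (NatTrans.naturality_apply g0 (SimplexCategory.σ j).op ⟨t', h'⟩).symm
  · intro k e i
    obtain rfl : m = k := by omega
    dsimp only
    rw [SimplicialObject.δ, SimplicialObject.σ, ← Functor.map_comp_apply, ← op_comp,
      ← P.nat m m (Nat.lt_succ_self m) (Nat.lt_succ_self m), op_comp, Functor.map_comp_apply]
    rfl

/-- extension beyond the dimension -/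
lemma exists_succ_of_dim (P : PLift T T0 g0 r M) (h : ∀ t : (T _⦋M⦌ : Type u), t ∈ T.degenerate M) :
    ∃ Q : PLift T T0 g0 r (M + 1), ∀ k (hk : k < M), Q.g k (Nat.lt_succ_of_lt hk) = P.g k hk := by
  choose y hy0 hyd hyδ using fun t => P.exists_degenerate t (h t)
  exact P.exists_succ y hy0 (fun t _ => hyd t) fun k e i t => hyδ t k e i

lemma ext_g {d : ℕ} (hd : ∀ k, d ≤ k → ∀ t : (T _⦋k⦌ : Type u), t ∈ T.degenerate k) {M M' : ℕ}
    (P : PLift T T0 g0 r M) (P' : PLift T T0 g0 r M')
    (h : ∀ k (hk : k < M) (hk' : k < M'), k < d → P.g k hk = P'.g k hk') :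
    ∀ k (hk : k < M) (hk' : k < M'), P.g k hk = P'.g k hk' := by
  intro k
  induction k using Nat.strong_induction_on with
  | _ k ih =>
    intro hk hk'
    by_cases hkd : k < d
    · exact h k hk hk' hkd
    funext t
    obtain ⟨m, hm, f, s, rfl⟩ := hd k (not_lt.1 hkd) t
    rw [P.nat k m hk (hm.trans hk), P'.nat k m hk' (hm.trans hk'), ih m hm]

end PLift

/-- local lifting compatible with degeneracies -/
theorem exists_lift_simplicial (hS : IsTrivFib J (toPt S)) (hT : ∀ k, Finite (T _⦋k⦌)) (d : ℕ)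
    [T.HasDimensionLT d] (g0 : T0.toSSet ⟶ sec S W) :
    Loc J W fun V r => ∃ g : T ⟶ sec S V, T0.ι ≫ g = g0 ≫ res S r := by
  have key : ∀ M, Loc J W fun V r => Nonempty (PLift T T0 g0 r M) := by
    intro M
    induction M with
    | zero => exact Loc.pure fun V r => ⟨⟨fun k hk => absurd hk (Nat.not_lt_zero k),
        fun k hk => absurd hk (Nat.not_lt_zero k), fun k l hk => absurd hk (Nat.not_lt_zero k)⟩⟩
    | succ M ih =>
      refine ih.bind fun V r ⟨P⟩ => ?_
      have step : ∀ t : (T _⦋M⦌ : Type u), Loc J V fun U h =>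
          ∃ y : ((sec S U) _⦋M⦌ : Type u),
            (∀ ht, y = (res S (h ≫ r)).app _ (g0.app _ ⟨t, ht⟩)) ∧
            (t ∈ T.degenerate M → y ∈ (sec S U).degenerate M) ∧
            ∀ k (e : M = k + 1) i, (sec S U).δ i (e ▸ y) =
              (P.pullback h).g k (e ▸ Nat.lt_succ_self k) (T.δ i (e ▸ t)) := by
        intro t
        by_cases hd : t ∈ T.degenerate M
        · refine Loc.pure fun U h => ?_
          obtain ⟨y, h1, h2, h3⟩ := (P.pullback h).exists_degenerate t hd
          exact ⟨y, h1, fun _ => h2, h3⟩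
        by_cases ht : t ∈ T0.obj (op ⦋M⦌)
        · refine Loc.pure fun U h => ⟨(res S (h ≫ r)).app _ (g0.app _ ⟨t, ht⟩), fun _ => rfl,
            fun h' => absurd h' hd, ?_⟩
          rintro k rfl i
          dsimp only
          rw [(P.pullback h).hg0 k (Nat.lt_succ_self k) (T.δ i t) (T0.map (SimplexCategory.δ i).op ht),
            ← SSet.δ_naturality_apply]
          exact congrArg _ (NatTrans.naturality_apply g0 (SimplexCategory.δ i).op ⟨t, ht⟩).symm
        rcases M with - | m
        · exact (hS.lift0 V PUnit.unit).mono fun U h ⟨y, _⟩ =>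
            ⟨y, fun h' => absurd h' ht, fun h' => absurd h' hd, fun k e => by omega⟩
        refine (hS.lift V m PUnit.unit (fun i => P.g m (Nat.lt_succ_self m) (T.δ i t)) ?_
          fun _ => rfl).mono fun U h ⟨y, _, hy⟩ =>
            ⟨y, fun h' => absurd h' ht, fun h' => absurd h' hd, fun k e i => by
              obtain rfl : m = k := by omega
              exact hy i⟩
        rcases m with - | m
        · exact coherent_zero _
        refine coherent_succ _ fun i j hij => ?_
        refine ((P.nat m (m + 1) (by omega) (by omega) (SimplexCategory.δ i) _).symm.trans ?_).trans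
          (P.nat m (m + 1) (by omega) (by omega) (SimplexCategory.δ j) _)
        exact congrArg _ (ConcreteCategory.congr_hom (T.δ_comp_δ hij) t)
      have := hT M
      refine (Loc.finite step).mono fun U h hU => ?_
      choose y hy0 hyd hyδ using hU
      obtain ⟨Q, -⟩ := (P.pullback h).exists_succ y hy0 hyd fun k e i t => hyδ t k e i
      exact ⟨Q⟩
  refine (key d).mono fun V r ⟨P⟩ => ?_
  have hd : ∀ k, d ≤ k → ∀ t : (T _⦋k⦌ : Type u), t ∈ T.degenerate k := fun k hk t => by
    rw [T.degenerate_eq_univ_of_hasDimensionLT d k hk]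
    trivial
  have ext : ∀ i, ∃ Q : PLift T T0 g0 r (d + i), ∀ k (hk : k < d),
      Q.g k (hk.trans_le (Nat.le_add_right d i)) = P.g k hk := by
    intro i
    induction i with
    | zero => exact ⟨P, fun k hk => rfl⟩
    | succ i ih =>
      obtain ⟨Q, hQ⟩ := ih
      obtain ⟨Q', hQ'⟩ := Q.exists_succ_of_dim (hd (d + i) (Nat.le_add_right d i))
      exact ⟨Q', fun k hk => (hQ' k _).trans (hQ k hk)⟩
  choose Q hQ using ext
  have agree : ∀ i j k (hk : k < d + i) (hk' : k < d + j), (Q i).g k hk = (Q j).g k hk' := fun i j =>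
    PLift.ext_g hd (Q i) (Q j) fun k _ _ hkd => (hQ i k hkd).trans (hQ j k hkd).symm
  refine ⟨{ app := fun k => ↾((Q (k.unop.len + 1)).g k.unop.len (by omega)), naturality := ?_ }, ?_⟩
  · intro k l φ
    ext t
    have h1 := (Q (k.unop.len + l.unop.len + 1)).nat l.unop.len k.unop.len (by omega) (by omega) φ.unop t
    rw [agree (k.unop.len + l.unop.len + 1) (l.unop.len + 1) l.unop.len (by omega) (by omega),
      agree (k.unop.len + l.unop.len + 1) (k.unop.len + 1) k.unop.len (by omega) (by omega)] at h1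
    exact h1
  · ext k ⟨t, ht⟩
    exact (Q (k.unop.len + 1)).hg0 k.unop.len _ t ht

end Groth.HyperLib
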