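import Groth.Agent.HTopHyper.Hyper.Existence
import Groth.Agent.HTopHyper.Hyper.SimplicialLift
import Mathlib.AlgebraicTopology.SimplicialSet.Homotopy

/-!
Two morphisms into a fillable simplicial semi-representable object become homotopic on a refinement.
-/

set_option autoImplicit false
set_option backward.isDefEq.respectTransparency false

universe u

open CategoryTheory CategoryTheory.Limits Opposite Simplicial MonoidalCategory

namespace Groth.HyperLib

variable {A : Type u} [SmallCategory A] {J : GrothendieckTopology A}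

/-- the map of standard simplices times the interval -/
noncomputable abbrev cylMap {m n : SimplexCategory} (θ : m ⟶ n) :
    (SSet.stdSimplex.{u}.obj m ⊗ Δ[1]) ⟶ (SSet.stdSimplex.{u}.obj n ⊗ Δ[1]) :=
  SSet.stdSimplex.map θ ▷ Δ[1]

lemma cylMap_id (n : SimplexCategory) : cylMap.{u} (𝟙 n) = 𝟙 _ := by
  simp [cylMap]

lemma cylMap_comp {l m n : SimplexCategory} (φ : l ⟶ m) (θ : m ⟶ n) :
    cylMap.{u} (φ ≫ θ) = cylMap φ ≫ cylMap θ := by
  simp [cylMap]

lemma stdMap_yonedaSymm {X : SSet.{u}} {m n : SimplexCategory} (φ : m ⟶ n) (x : X.obj (op n)) :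
    SSet.stdSimplex.map φ ≫ SSet.yonedaEquiv.symm x = SSet.yonedaEquiv.symm (X.map φ.op x) := by
  apply SSet.yonedaEquiv.injective
  rw [Equiv.apply_symm_apply]
  refine congrArg (fun f : m ⟶ n => X.map f.op x) ?_
  exact Category.id_comp φ

section PathLift

variable {T : SimplicialObject (Aᵒᵖ ⥤ Type u)}

/-- paths with prescribed endpoints and prescribed values on a closed set of faces extend locally -/
theorem exists_pathLift (hT : IsTrivFib J (toPt T)) {V : A} (n : SimplexCategory)
    (ya yb : ((sec T V).obj (op n) : Type u)) (N : ∀ m : SimplexCategory, (m ⟶ n) → Prop)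
    (hN : ∀ m m' (φ : m' ⟶ m) θ, N m θ → N m' (φ ≫ θ))
    (h : ∀ m θ, N m θ → ((SSet.stdSimplex.{u}.obj m ⊗ Δ[1]) ⟶ sec T V))
    (hh : ∀ m m' (φ : m' ⟶ m) θ hθ, cylMap φ ≫ h m θ hθ = h m' (φ ≫ θ) (hN m m' φ θ hθ))
    (h0 : ∀ m θ hθ, SSet.ι₀ ≫ h m θ hθ = SSet.yonedaEquiv.symm ((sec T V).map θ.op ya))
    (h1 : ∀ m θ hθ, SSet.ι₁ ≫ h m θ hθ = SSet.yonedaEquiv.symm ((sec T V).map θ.op yb)) :
    Loc J V fun U g => ∃ H : (SSet.stdSimplex.{u}.obj n ⊗ Δ[1]) ⟶ sec T U,
      SSet.ι₀ ≫ H = SSet.yonedaEquiv.symm ((res T g).app _ ya) ∧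
      SSet.ι₁ ≫ H = SSet.yonedaEquiv.symm ((res T g).app _ yb) ∧
      ∀ m θ hθ, cylMap θ ≫ H = h m θ hθ ≫ res T g := by
  obtain ⟨n⟩ := n
  let P := (Δ[n] : SSet.{u}) ⊗ Δ[1]
  let th : ∀ {l : SimplexCategoryᵒᵖ} (_ : (P.obj l : Type u)), (l.unop ⟶ ⦋n⦌) := fun t =>
    SSet.stdSimplex.objEquiv t.1
  let T0 : P.Subcomplex :=
    { obj := fun l => {t | N l.unop (th t) ∨ (∃ x, SSet.ι₀.app l x = t) ∨ ∃ x, SSet.ι₁.app l x = t}
      map := by
        rintro l l' φ t (ht | ⟨x, rfl⟩ | ⟨x, rfl⟩)
        · exact Or.inl (hN _ _ φ.unop _ ht)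
        · exact Or.inr (Or.inl ⟨_, NatTrans.naturality_apply (SSet.ι₀ (X := Δ[n])) φ x⟩)
        · exact Or.inr (Or.inr ⟨_, NatTrans.naturality_apply (SSet.ι₁ (X := Δ[n])) φ x⟩) }
  have hval : ∀ l (t : (P.obj l : Type u)), t ∈ T0.obj l → ∃ z : ((sec T V).obj l : Type u),
      (∀ ht : N l.unop (th t), z = (h _ _ ht).app l (SSet.stdSimplex.objEquiv.symm (𝟙 l.unop), t.2)) ∧
      (∀ x, SSet.ι₀.app l x = t → z = (SSet.yonedaEquiv.symm ya).app l x) ∧
      (∀ x, SSet.ι₁.app l x = t → z = (SSet.yonedaEquiv.symm yb).app l x) := by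
    intro l t ht
    have e0 : ∀ x (hθ : N l.unop (th t)), SSet.ι₀.app l x = t →
        (h _ _ hθ).app l (SSet.stdSimplex.objEquiv.symm (𝟙 l.unop), t.2) =
          (SSet.yonedaEquiv.symm ya).app l x := by
      rintro x hθ rfl
      have := ConcreteCategory.congr_hom (congr_app (h0 _ _ hθ) l)
        (SSet.stdSimplex.objEquiv.symm (𝟙 l.unop))
      refine this.trans ?_
      exact Functor.map_id_apply (sec T V) _ _
    have e1 : ∀ x (hθ : N l.unop (th t)), SSet.ι₁.app l x = t →
        (h _ _ hθ).app l (SSet.stdSimplex.objEquiv.symm (𝟙 l.unop), t.2) =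
          (SSet.yonedaEquiv.symm yb).app l x := by
      rintro x hθ rfl
      have := ConcreteCategory.congr_hom (congr_app (h1 _ _ hθ) l)
        (SSet.stdSimplex.objEquiv.symm (𝟙 l.unop))
      refine this.trans ?_
      exact Functor.map_id_apply (sec T V) _ _
    have ene : ∀ (x x' : (Δ[n] : SSet.{u}).obj l), SSet.ι₀.app l x ≠ SSet.ι₁.app l x' := by
      intro x x' e
      obtain ⟨⟨k⟩⟩ := l
      have h1 := congrArg (fun z => (Prod.snd z : (Δ[1] _⦋k⦌ : Type u))) e
      have h2 := congrArg (fun z : (Δ[1] _⦋k⦌ : Type u) => z (0 : Fin (k + 1))) h1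
      simp at h2
    by_cases hθ : N l.unop (th t)
    · exact ⟨_, fun _ => rfl, fun x hx => e0 x hθ hx, fun x hx => e1 x hθ hx⟩
    rcases ht with ht | ⟨x, hx⟩ | ⟨x, hx⟩
    · exact absurd ht hθ
    · refine ⟨(SSet.yonedaEquiv.symm ya).app l x, fun h' => absurd h' hθ, fun x' hx' => ?_,
        fun x' hx' => absurd (hx.trans hx'.symm) (ene x x')⟩
      rw [show x = x' from congrArg Prod.fst (hx.trans hx'.symm)]
    · refine ⟨(SSet.yonedaEquiv.symm yb).app l x, fun h' => absurd h' hθ,
        fun x' hx' => absurd (hx'.trans hx.symm) (ene x' x), fun x' hx' => ?_⟩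
      rw [show x = x' from congrArg Prod.fst (hx.trans hx'.symm)]
  choose z hzN hz0 hz1 using hval
  let g0 : T0.toSSet ⟶ sec T V :=
    { app := fun l => ↾fun t => z l t.1 t.2
      naturality := fun l l' φ => by
        ext ⟨t, ht⟩
        change z l' (P.map φ t) (T0.map φ ht) = (sec T V).map φ (z l t ht)
        rcases id ht with hθ | ⟨x, hx⟩ | ⟨x, hx⟩
        · rw [hzN l t ht hθ, hzN l' (P.map φ t) (T0.map φ ht) (hN _ _ φ.unop _ hθ),
            ← NatTrans.naturality_apply]
          have e := ConcreteCategory.congr_hom (congr_app (hh _ _ φ.unop _ hθ) l')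
            (show (SSet.stdSimplex.obj l'.unop ⊗ Δ[1]).obj l' from (SSet.stdSimplex.objEquiv.symm (𝟙 l'.unop), (P.map φ t).2))
          refine e.symm.trans (congrArg ((h _ _ hθ).app l') ?_)
          refine Prod.ext (SSet.stdSimplex.objEquiv.injective ?_) rfl
          change 𝟙 _ ≫ φ.unop = φ.unop ≫ 𝟙 _
          rw [Category.id_comp, Category.comp_id]
        · subst hx
          rw [hz0 l _ ht x rfl, hz0 l' _ _ ((Δ[n] : SSet.{u}).map φ x)
            (NatTrans.naturality_apply (SSet.ι₀ (X := Δ[n])) φ x), NatTrans.naturality_apply]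
        · subst hx
          rw [hz1 l _ ht x rfl, hz1 l' _ _ ((Δ[n] : SSet.{u}).map φ x)
            (NatTrans.naturality_apply (SSet.ι₁ (X := Δ[n])) φ x), NatTrans.naturality_apply] }
  have hfin : ∀ k, Finite (P _⦋k⦌ : Type u) := fun k => by
    have : ∀ m, Finite (Δ[m] _⦋k⦌ : Type u) := fun m =>
      Finite.of_equiv _ (SSet.stdSimplex.objEquiv (n := ⦋m⦌) (m := op ⦋k⦌)).symm
    exact inferInstanceAs (Finite ((Δ[n] _⦋k⦌ : Type u) × (Δ[1] _⦋k⦌ : Type u)))
  refine (exists_lift_simplicial hT hfin (n + 1 + 1) g0).mono fun U g ⟨H, hH⟩ => ⟨H, ?_, ?_, ?_⟩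
  · rw [← SSet.yonedaEquiv_symm_comp ya (res T g)]
    ext l x
    have hx : SSet.ι₀.app l x ∈ T0.obj l := Or.inr (Or.inl ⟨x, rfl⟩)
    exact (ConcreteCategory.congr_hom (congr_app hH l) ⟨_, hx⟩).trans
      (congrArg ((res T g).app l) (hz0 l _ hx x rfl))
  · rw [← SSet.yonedaEquiv_symm_comp yb (res T g)]
    ext l x
    have hx : SSet.ι₁.app l x ∈ T0.obj l := Or.inr (Or.inr ⟨x, rfl⟩)
    exact (ConcreteCategory.congr_hom (congr_app hH l) ⟨_, hx⟩).trans
      (congrArg ((res T g).app l) (hz1 l _ hx x rfl))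
  · intro m θ hθ
    ext l ⟨α, ε⟩
    have hm : (cylMap θ).app l (α, ε) ∈ T0.obj l := Or.inl (hN _ _ (SSet.stdSimplex.objEquiv α) _ hθ)
    refine (ConcreteCategory.congr_hom (congr_app hH l) ⟨_, hm⟩).trans (congrArg ((res T g).app l) ?_)
    refine (hzN l _ hm (hN _ _ (SSet.stdSimplex.objEquiv α) _ hθ)).trans ?_
    have e := ConcreteCategory.congr_hom (congr_app (hh _ _ (SSet.stdSimplex.objEquiv α) _ hθ) l)
      (show (SSet.stdSimplex.obj l.unop ⊗ Δ[1]).obj l from (SSet.stdSimplex.objEquiv.symm (𝟙 l.unop), ε))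
    refine e.symm.trans (congrArg ((h m θ hθ).app l) (Prod.ext ?_ rfl))
    refine SSet.stdSimplex.objEquiv.injective ?_
    exact Category.id_comp (SSet.stdSimplex.objEquiv α)

end PathLift

section PathE

variable {S T : SimplicialObject (Aᵒᵖ ⥤ Type u)} (a b : S ⟶ T)

/-- simplices with a cylinder joining their two images -/
noncomputable def pathE : SimplicialObject (Aᵒᵖ ⥤ Type u) where
  obj l :=
    { obj := fun c => {p : (S.obj l).obj c × ((SSet.stdSimplex.{u}.obj l.unop ⊗ Δ[1]) ⟶ sec T c.unop) //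
        SSet.ι₀ ≫ p.2 = SSet.yonedaEquiv.symm ((a.app l).app c p.1) ∧
        SSet.ι₁ ≫ p.2 = SSet.yonedaEquiv.symm ((b.app l).app c p.1)}
      map := fun {c c'} g => ↾fun p => ⟨((S.obj l).map g p.1.1, p.1.2 ≫ res T g.unop), by
        refine ⟨?_, ?_⟩
        · rw [← Category.assoc, p.2.1, SSet.yonedaEquiv_symm_comp]
          exact congrArg _ (NatTrans.naturality_apply (a.app l) g p.1.1).symm
        · rw [← Category.assoc, p.2.2, SSet.yonedaEquiv_symm_comp]
          exact congrArg _ (NatTrans.naturality_apply (b.app l) g p.1.1).symm⟩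
      map_id := fun c => by
        refine ConcreteCategory.hom_ext _ _ fun p => ?_
        refine Subtype.ext (Prod.ext (Functor.map_id_apply (S.obj l) c p.1.1) ?_)
        ext n x
        exact res_id T c.unop n _
      map_comp := fun {c c' c''} g g' => by
        refine ConcreteCategory.hom_ext _ _ fun p => ?_
        refine Subtype.ext (Prod.ext (Functor.map_comp_apply (S.obj l) g g' p.1.1) ?_)
        ext n x
        exact res_comp T g'.unop g.unop n _ }
  map {l l'} φ :=
    { app := fun c => ↾fun p => ⟨((S.map φ).app c p.1.1, cylMap φ.unop ≫ p.1.2), by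
        refine ⟨?_, ?_⟩
        · rw [SSet.ι₀_comp_assoc, p.2.1, stdMap_yonedaSymm]
          exact congrArg _ (NatTrans.naturality_apply (Functor.whiskerRight a ((evaluation Aᵒᵖ (Type u)).obj c)) φ p.1.1).symm
        · rw [SSet.ι₁_comp_assoc, p.2.2, stdMap_yonedaSymm]
          exact congrArg _ (NatTrans.naturality_apply (Functor.whiskerRight b ((evaluation Aᵒᵖ (Type u)).obj c)) φ p.1.1).symm⟩
      naturality := fun c c' g => by
        refine ConcreteCategory.hom_ext _ _ fun p => ?_
        refine Subtype.ext (Prod.ext ?_ ?_)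
        · exact NatTrans.naturality_apply (S.map φ) g p.1.1
        exact (Category.assoc _ _ _).symm }
  map_id l := by
    refine NatTrans.ext (funext fun c => ConcreteCategory.hom_ext _ _ fun p => ?_)
    refine Subtype.ext (Prod.ext (ConcreteCategory.congr_hom (congr_app (S.map_id l) c) p.1.1) ?_)
    change cylMap (𝟙 l.unop) ≫ p.1.2 = p.1.2
    rw [cylMap_id, Category.id_comp]
  map_comp φ ψ := by
    refine NatTrans.ext (funext fun c => ConcreteCategory.hom_ext _ _ fun p => ?_)
    refine Subtype.ext (Prod.ext (ConcreteCategory.congr_hom (congr_app (S.map_comp φ ψ) c) p.1.1) ?_)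
    change cylMap (ψ.unop ≫ φ.unop) ≫ p.1.2 = cylMap ψ.unop ≫ cylMap φ.unop ≫ p.1.2
    rw [cylMap_comp, Category.assoc]

/-- forget the cylinder -/
noncomputable def pathFst : pathE a b ⟶ S where
  app l := { app := fun c => ↾fun p => p.1.1 }

theorem isTrivFib_pathE (hS : IsTrivFib J (toPt S)) (hT : IsTrivFib J (toPt T)) :
    IsTrivFib J (toPt (pathE a b)) where
  lift0 W _ := (hS.lift0 W PUnit.unit).bind fun V g ⟨y, _⟩ =>
    (exists_pathLift hT ⦋0⦌ ((secMap a V).app _ y) ((secMap b V).app _ y) (fun _ _ => False)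
      (fun _ _ _ _ h => h) (fun _ _ h => h.elim) (fun _ _ _ _ h => h.elim) (fun _ _ h => h.elim)
      (fun _ _ h => h.elim)).mono fun U h ⟨H, h0, h1, _⟩ =>
        ⟨⟨((res S h).app _ y, H), h0.trans (congrArg _ (secMap_res a h _ y).symm),
          h1.trans (congrArg _ (secMap_res b h _ y).symm)⟩, rfl⟩
  lift W k ℓ x hx _ := by
    obtain ⟨fam, hfam⟩ := exists_fam_nonsurj x hx
    refine (hS.lift W k PUnit.unit (fun i => (x i).1.1)
      (fun l c d i j e => congrArg (fun p => p.1.1) (hx l c d i j e)) fun _ => rfl).bind fun V g ⟨y, _, hy⟩ => ?_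
    have hfy : ∀ m θ hθ, (res S g).app (op m) (fam m θ hθ).1.1 = (sec S V).map θ.op y := by
      intro m θ hθ
      obtain ⟨i, c, rfl⟩ := SimplexCategory.eq_comp_δ_of_not_surjective θ hθ
      rw [hfam _ _ hθ i c rfl, op_comp, Functor.map_comp_apply]
      refine Eq.trans ?_ (congrArg ((sec S V).map c.op) (hy i).symm)
      exact NatTrans.naturality_apply (res S g) c.op (x i).1.1
    have hNc : ∀ (m m' : SimplexCategory) (φ : m' ⟶ m) (θ : m ⟶ ⦋k + 1⦌),
        ¬ Function.Surjective θ.toOrderHom → ¬ Function.Surjective (φ ≫ θ).toOrderHom :=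
      fun m m' φ θ h hs => h fun y => by
        obtain ⟨z, hz⟩ := hs y
        exact ⟨φ.toOrderHom z, hz⟩
    refine (exists_pathLift hT ⦋k + 1⦌ ((secMap a V).app _ y) ((secMap b V).app _ y)
      (fun m θ => ¬ Function.Surjective θ.toOrderHom) hNc
      (fun m θ hθ => (fam m θ hθ).1.2 ≫ res T g) ?_ ?_ ?_).mono fun U h ⟨H, h0, h1, hH⟩ =>
        ⟨⟨((res S h).app _ y, H), h0.trans (congrArg _ (secMap_res a h _ y).symm),
          h1.trans (congrArg _ (secMap_res b h _ y).symm)⟩, rfl, fun i => ?_⟩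
    · intro m m' φ θ hθ
      rw [← Category.assoc]
      refine congrArg (· ≫ res T g) ?_
      obtain ⟨i, c, rfl⟩ := SimplexCategory.eq_comp_δ_of_not_surjective θ hθ
      have e : fam m' (φ ≫ c ≫ SimplexCategory.δ i) (hNc m m' φ _ hθ) =
          (sec (pathE a b) W).map φ.op (fam m (c ≫ SimplexCategory.δ i) hθ) := by
        rw [hfam _ _ hθ i c rfl, hfam _ _ _ i (φ ≫ c) (Category.assoc _ _ _).symm, op_comp,
          Functor.map_comp_apply]
      exact (congrArg (fun p => p.1.2) e).symm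
    · intro m θ hθ
      rw [← Category.assoc, (fam m θ hθ).2.1, SSet.yonedaEquiv_symm_comp]
      refine congrArg _ ((secMap_res a g _ _).symm.trans ?_)
      rw [hfy]
      exact NatTrans.naturality_apply (secMap a V) θ.op y
    · intro m θ hθ
      rw [← Category.assoc, (fam m θ hθ).2.2, SSet.yonedaEquiv_symm_comp]
      refine congrArg _ ((secMap_res b g _ _).symm.trans ?_)
      rw [hfy]
      exact NatTrans.naturality_apply (secMap b V) θ.op y
    · refine Subtype.ext (Prod.ext ?_ ?_)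
      · refine (SSet.δ_naturality_apply (res S h) i y).symm.trans ?_
        rw [hy, ← res_comp]
        rfl
      · have hθ : ¬ Function.Surjective (SimplexCategory.δ i).toOrderHom := fun hs => by
          obtain ⟨z, hz⟩ := hs i
          exact Fin.succAbove_ne _ _ hz
        refine (hH _ _ hθ).trans ?_
        rw [hfam _ _ hθ i (𝟙 _) (Category.id_comp _).symm]
        change (((sec (pathE a b) W).map (𝟙 (op ⦋k⦌)) (x i)).1.2 ≫ res T g) ≫ res T h = _
        rw [Functor.map_id_apply (sec (pathE a b) W) (X := op ⦋k⦌) (x i)]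
        ext n z
        exact (res_comp T h g n _).symm

end PathE

/-- restriction of points -/
def ptRes (K : SimplicialObject (FormalCoproduct.{u} A)) {V W : A} (v : V ⟶ W) :
    ptSS K W ⟶ ptSS K V :=
  Functor.whiskerLeft K (coyoneda.map ((FormalCoproduct.incl A).map v).op)

/-- morphisms on points -/
def ptMap {K L : SimplicialObject (FormalCoproduct.{u} A)} (f : K ⟶ L) (W : A) :
    ptSS K W ⟶ ptSS L W :=
  Functor.whiskerRight f (coyoneda.obj (op ((FormalCoproduct.incl A).obj W)))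

/-- homotopies on points natural in the object give homotopies -/
theorem nonempty_homotopy {M L : SimplicialObject (FormalCoproduct.{u} A)} (f g : M ⟶ L)
    (H : ∀ W, SSet.Homotopy (ptMap f W) (ptMap g W))
    (hH : ∀ {V W : A} (v : V ⟶ W), (H W).h ≫ ptRes L v = ptRes M v ▷ Δ[1] ≫ (H V).h) :
    Nonempty (SimplicialObject.Homotopy f g) := by
  let hh : ∀ (W : A) {n : ℕ} (i : Fin (n + 1)), Pt (M.obj (op ⦋n⦌)) W → Pt (L.obj (op ⦋n + 1⦌)) W :=
    fun W n i p => (H W).toSimplicialObjectHomotopy.h i p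
  have hres : ∀ {V W : A} (v : V ⟶ W) {n : ℕ} (i : Fin (n + 1)) (p : Pt (M.obj (op ⦋n⦌)) W),
      hh V i ((FormalCoproduct.incl A).map v ≫ p) = (FormalCoproduct.incl A).map v ≫ hh W i p := by
    intro V W v n i p
    let z := (SSet.prodStdSimplex.nonDegenerateEquiv₁.{u} i).1
    change (SSet.yonedaEquiv.symm ((ptRes M v).app (op ⦋n⦌) p) ▷ Δ[1] ≫ (H V).h).app _ z =
      (ptRes L v).app _ ((SSet.yonedaEquiv.symm p ▷ Δ[1] ≫ (H W).h).app _ z)
    rw [← SSet.yonedaEquiv_symm_comp, MonoidalCategory.comp_whiskerRight, Category.assoc, ← hH v]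
    rfl
  let h : ∀ {n : ℕ} (i : Fin (n + 1)), M.obj (op ⦋n⦌) ⟶ L.obj (op ⦋n + 1⦌) := fun i =>
    homOfPts fun D => hh _ i (Pt.mk' D (𝟙 _))
  have hpt : ∀ {n : ℕ} (i : Fin (n + 1)) {W : A} (p : Pt (M.obj (op ⦋n⦌)) W),
      p ≫ h i = hh W i p := by
    intro n i W p
    conv_lhs => rw [← p.eta]
    rw [mk'_homOfPts, ← hres, Pt.incl_map_mk', Category.comp_id, p.eta]
  have key := fun (W : A) => (H W).toSimplicialObjectHomotopy
  refine ⟨{ h := h, h_zero_comp_δ_zero := ?_, h_last_comp_δ_last := ?_,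
            h_succ_comp_δ_castSucc_of_lt := ?_, h_succ_comp_δ_castSucc_succ := ?_,
            h_castSucc_comp_δ_succ_of_lt := ?_, h_comp_σ_castSucc_of_le := ?_,
            h_comp_σ_succ_of_lt := ?_ }⟩
  · intro n
    refine hom_ext_pts fun D => ?_
    rw [← Category.assoc, hpt]
    exact ConcreteCategory.congr_hom ((H _).toSimplicialObjectHomotopy.h_zero_comp_δ_zero n) _
  · intro n
    refine hom_ext_pts fun D => ?_
    rw [← Category.assoc, hpt]
    exact ConcreteCategory.congr_hom ((H _).toSimplicialObjectHomotopy.h_last_comp_δ_last n) _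
  · intro n i j hij
    refine hom_ext_pts fun D => ?_
    rw [← Category.assoc, hpt, ← Category.assoc, hpt]
    exact ConcreteCategory.congr_hom
      ((H _).toSimplicialObjectHomotopy.h_succ_comp_δ_castSucc_of_lt i j hij) _
  · intro n j
    refine hom_ext_pts fun D => ?_
    rw [← Category.assoc, hpt, ← Category.assoc, hpt]
    exact ConcreteCategory.congr_hom
      ((H _).toSimplicialObjectHomotopy.h_succ_comp_δ_castSucc_succ j) _
  · intro n i j hij
    refine hom_ext_pts fun D => ?_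
    rw [← Category.assoc, hpt, ← Category.assoc, hpt]
    exact ConcreteCategory.congr_hom
      ((H _).toSimplicialObjectHomotopy.h_castSucc_comp_δ_succ_of_lt i j hij) _
  · intro n i j hij
    refine hom_ext_pts fun D => ?_
    rw [← Category.assoc, hpt, ← Category.assoc, hpt]
    exact ConcreteCategory.congr_hom
      ((H _).toSimplicialObjectHomotopy.h_comp_σ_castSucc_of_le i j hij) _
  · intro n i j hij
    refine hom_ext_pts fun D => ?_
    rw [← Category.assoc, hpt, ← Category.assoc, hpt]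
    exact ConcreteCategory.congr_hom
      ((H _).toSimplicialObjectHomotopy.h_comp_σ_succ_of_lt i j hij) _

lemma resHom_pt {E : SimplicialObject (Aᵒᵖ ⥤ Type u)} {P : A → Prop}
    {K : SimplicialObject (FormalCoproduct.{u} A)} (t : E ⟶ K ⋙ ptFun) {n : SimplexCategory} {W : A}
    (p : Pt ((resObj E P).obj (op n)) W) :
    p ≫ (resHom t).app (op n) = (t.app (op n)).app (op W) (resElem p) := by
  conv_lhs => rw [← p.eta]
  refine (mk'_homOfPts (L := (resObj E P).obj (op n)) _ _ _).trans ?_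
  exact (NatTrans.naturality_apply (t.app (op n)) p.hom.op _).symm

/-- two maps between fillable objects become homotopic on a fillable refinement -/
theorem exists_homotopy {K L : SimplicialObject (FormalCoproduct.{u} A)} (hK : IsFillable J K)
    (hL : IsFillable J L) (a b : K ⟶ L) :
    ∃ (M : SimplicialObject (FormalCoproduct.{u} A)) (c : M ⟶ K),
      IsFillable J M ∧ Nonempty (SimplicialObject.Homotopy (c ≫ a) (c ≫ b)) := by
  let a' := Functor.whiskerRight a ptFun
  let b' := Functor.whiskerRight b ptFun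
  let E := pathE a' b'
  let c := resHom (P := fun _ => True) (pathFst a' b')
  refine ⟨resObj E fun _ => True, c,
    isFillable_resObj (fun W => ?_) (isTrivFib_pathE a' b' hK.isTrivFib hL.isTrivFib), ?_⟩
  · convert J.top_mem W
    exact Sieve.ext fun V g => ⟨fun _ => trivial, fun _ => ⟨V, 𝟙 V, g, trivial, Category.id_comp g⟩⟩
  let el : ∀ {W : A} {n : SimplexCategoryᵒᵖ} (_ : ((ptSS (resObj E fun _ => True) W).obj n : Type u)),
      ((sec E W).obj n : Type u) := fun p => resElem p
  let HW : ∀ W, (ptSS (resObj E fun _ => True) W) ⊗ Δ[1] ⟶ ptSS L W := fun W =>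
    { app := fun n => ↾fun z => (el z.1).1.2.app n (SSet.stdSimplex.objEquiv.symm (𝟙 n.unop), z.2)
      naturality := fun n n' φ => by
        ext ⟨p, ε⟩
        change (el ((ptSS (resObj E fun _ => True) W).map φ p)).1.2.app n' _ = (ptSS L W).map φ _
        have e : el ((ptSS (resObj E fun _ => True) W).map φ p) = (sec E W).map φ (el p) :=
          resElem_map p φ.unop
        rw [e]
        refine Eq.trans ?_ (NatTrans.naturality_apply (el p).1.2 φ _)
        refine congrArg ((el p).1.2.app n') (Prod.ext (SSet.stdSimplex.objEquiv.injective ?_) rfl)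
        change 𝟙 _ ≫ φ.unop = φ.unop ≫ 𝟙 _
        rw [Category.id_comp, Category.comp_id] }
  have h0 : ∀ W, SSet.ι₀ ≫ HW W = ptMap (c ≫ a) W := fun W => by
    ext n p
    have e := ConcreteCategory.congr_hom (congr_app (el p).2.1 n)
      (SSet.stdSimplex.objEquiv.symm (𝟙 n.unop))
    refine e.trans ((Functor.map_id_apply (sec (L ⋙ ptFun) W) _ _).trans ?_)
    exact ((congrArg (· ≫ a.app n) (resHom_pt (pathFst a' b') p)).symm.trans (Category.assoc _ _ _))
  have h1 : ∀ W, SSet.ι₁ ≫ HW W = ptMap (c ≫ b) W := fun W => by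
    ext n p
    have e := ConcreteCategory.congr_hom (congr_app (el p).2.2 n)
      (SSet.stdSimplex.objEquiv.symm (𝟙 n.unop))
    refine e.trans ((Functor.map_id_apply (sec (L ⋙ ptFun) W) _ _).trans ?_)
    exact ((congrArg (· ≫ b.app n) (resHom_pt (pathFst a' b') p)).symm.trans (Category.assoc _ _ _))
  refine nonempty_homotopy _ _ (fun W =>
    { h := HW W
      h₀ := h0 W
      h₁ := h1 W
      rel := by ext k ⟨⟨x, hx⟩, y⟩; exact hx.elim }) fun {V W} v => ?_
  ext n ⟨p, ε⟩
  change (ptRes L v).app n ((el p).1.2.app n _) = (el ((ptRes (resObj E fun _ => True) v).app n p)).1.2.app n _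
  have e : el ((ptRes (resObj E fun _ => True) v).app n p) = (res E v).app n (el p) :=
    resElem_restrict v p
  rw [e]
  rfl

end Groth.HyperLib
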