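import Mathlib.AlgebraicTopology.SimplicialSet.Basic
import Mathlib.AlgebraicTopology.SimplicialSet.Subcomplex
import Mathlib.AlgebraicTopology.SimplicialSet.StdSimplex
import Mathlib.CategoryTheory.Sites.Grothendieck

/-!
Local lifting of finite simplicial sets against locally trivial fibrations of simplicial presheaves.
-/

set_option autoImplicit false
set_option backward.isDefEq.respectTransparency false

universe u

open CategoryTheory Opposite Simplicial

namespace Groth.HyperLib

variable {C : Type u} [SmallCategory C]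

/-- a property holds locally -/
def Loc (J : GrothendieckTopology C) (W : C) (P : ∀ ⦃V : C⦄, (V ⟶ W) → Prop) : Prop :=
  ∃ S ∈ J W, ∀ ⦃V : C⦄ (g : V ⟶ W), S.arrows g → P g

namespace Loc

variable {J : GrothendieckTopology C} {W : C}

lemma pure {P : ∀ ⦃V : C⦄, (V ⟶ W) → Prop} (h : ∀ ⦃V : C⦄ (g : V ⟶ W), P g) : Loc J W P :=
  ⟨⊤, J.top_mem W, fun _ g _ => h g⟩

lemma mono {P Q : ∀ ⦃V : C⦄, (V ⟶ W) → Prop} (h : Loc J W P) (hPQ : ∀ ⦃V : C⦄ (g : V ⟶ W), P g → Q g) :
    Loc J W Q := by
  obtain ⟨S, hS, hP⟩ := h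
  exact ⟨S, hS, fun V g hg => hPQ g (hP g hg)⟩

lemma bind {P Q : ∀ ⦃V : C⦄, (V ⟶ W) → Prop} (h : Loc J W P)
    (hQ : ∀ ⦃V : C⦄ (g : V ⟶ W), P g → Loc J V (fun ⦃U⦄ (k : U ⟶ V) => Q (k ≫ g))) :
    Loc J W Q := by
  obtain ⟨S, hS, hP⟩ := h
  choose R hR hRQ using fun (V : C) (g : V ⟶ W) (hg : S.arrows g) => hQ g (hP g hg)
  refine ⟨Sieve.bind S.arrows fun V g hg => R V g hg,
    J.bind_covering hS (fun V g hg => hR V g hg), ?_⟩
  rintro U _ ⟨V, k, g, hg, hk, rfl⟩
  exact hRQ V g hg k hk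

lemma finite {ι : Type*} [Finite ι] {P : ι → ∀ ⦃V : C⦄, (V ⟶ W) → Prop}
    (h : ∀ i, Loc J W (P i)) : Loc J W (fun ⦃_⦄ g => ∀ i, P i g) := by
  classical
  have := Fintype.ofFinite ι
  choose S hS hP using h
  have key : ∀ t : Finset ι, t.inf S ∈ J W := by
    intro t
    induction t using Finset.induction with
    | empty => simpa using J.top_mem W
    | insert a t _ ih => rw [Finset.inf_insert]; exact J.intersection_covering (hS a) ih
  refine ⟨Finset.univ.inf S, key _, fun V g hg i => hP i g ?_⟩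
  exact (Finset.inf_le (Finset.mem_univ i) : Finset.univ.inf S ≤ S i) _ hg

end Loc

/-- sections of a simplicial presheaf over an object -/
abbrev sec (K : SimplicialObject (Cᵒᵖ ⥤ Type u)) (W : C) : SSet.{u} :=
  K ⋙ (evaluation Cᵒᵖ (Type u)).obj (op W)

/-- restriction of sections -/
abbrev res (K : SimplicialObject (Cᵒᵖ ⥤ Type u)) {V W : C} (g : V ⟶ W) : sec K W ⟶ sec K V :=
  Functor.whiskerLeft K ((evaluation Cᵒᵖ (Type u)).map g.op)

/-- a morphism on sections -/
abbrev secMap {K L : SimplicialObject (Cᵒᵖ ⥤ Type u)} (v : K ⟶ L) (W : C) : sec K W ⟶ sec L W :=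
  Functor.whiskerRight v ((evaluation Cᵒᵖ (Type u)).obj (op W))

lemma res_comp (K : SimplicialObject (Cᵒᵖ ⥤ Type u)) {U V W : C} (h : U ⟶ V) (g : V ⟶ W)
    (n : SimplexCategoryᵒᵖ) (x : (sec K W).obj n) :
    (res K (h ≫ g)).app n x = (res K h).app n ((res K g).app n x) :=
  Functor.map_comp_apply (K.obj n) g.op h.op x

lemma res_id (K : SimplicialObject (Cᵒᵖ ⥤ Type u)) (W : C) (n : SimplexCategoryᵒᵖ)
    (x : (sec K W).obj n) : (res K (𝟙 W)).app n x = x :=
  Functor.map_id_apply (K.obj n) (X := op W) x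

lemma secMap_res {K L : SimplicialObject (Cᵒᵖ ⥤ Type u)} (v : K ⟶ L) {V W : C} (g : V ⟶ W)
    (n : SimplexCategoryᵒᵖ) (x : (sec K W).obj n) :
    (secMap v V).app n ((res K g).app n x) = (res L g).app n ((secMap v W).app n x) :=
  NatTrans.naturality_apply (v.app n) g.op x

/-- compatible boundary data -/
def Coherent {X : SSet.{u}} {k : ℕ} (x : Fin (k + 2) → (X _⦋k⦌ : Type u)) : Prop :=
  ∀ (l : SimplexCategory) (a b : l ⟶ ⦋k⦌) (i j : Fin (k + 2)),
    a ≫ SimplexCategory.δ i = b ≫ SimplexCategory.δ j → X.map a.op (x i) = X.map b.op (x j)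

lemma δ_toOrderHom_apply {n : ℕ} (i : Fin (n + 2)) (x : Fin (n + 1)) :
    (SimplexCategory.δ i).toOrderHom x = i.succAbove x := rfl

lemma coherent_zero {X : SSet.{u}} (x : Fin (0 + 2) → (X _⦋0⦌ : Type u)) : Coherent x := by
  intro l a b i j e
  have hij : i = j := by
    have h := congrArg (fun f => f.toOrderHom (0 : Fin (l.len + 1))) e
    simp only [SimplexCategory.comp_toOrderHom, OrderHom.comp_coe, Function.comp_apply] at h
    erw [δ_toOrderHom_apply, δ_toOrderHom_apply] at h
    generalize a.toOrderHom 0 = p at h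
    generalize b.toOrderHom 0 = q at h
    fin_cases i <;> fin_cases j <;> fin_cases p <;> fin_cases q <;> simp_all
  subst hij
  rw [cancel_mono (SimplexCategory.δ i)] at e
  rw [e]

lemma coherent_succ {X : SSet.{u}} {k : ℕ} (x : Fin (k + 1 + 2) → (X _⦋k + 1⦌ : Type u))
    (h : ∀ i j : Fin (k + 2), i ≤ j → X.δ i (x j.succ) = X.δ j (x i.castSucc)) : Coherent x := by
  have key : ∀ (l : SimplexCategory) (a b : l ⟶ ⦋k + 1⦌) (i j : Fin (k + 1 + 2)), i < j →
      a ≫ SimplexCategory.δ i = b ≫ SimplexCategory.δ j → X.map a.op (x i) = X.map b.op (x j) := by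
    intro l a b i j hij e
    obtain ⟨j, rfl⟩ := Fin.eq_succ_of_ne_zero (Fin.ne_zero_of_lt hij)
    obtain ⟨i, rfl⟩ : ∃ i' : Fin (k + 2), i = i'.castSucc :=
      ⟨i.castPred (Fin.ne_last_of_lt hij), (Fin.castSucc_castPred _ _).symm⟩
    have hle : i ≤ j := Fin.castSucc_lt_succ_iff.1 hij
    obtain ⟨ψ, rfl⟩ : ∃ ψ : l ⟶ ⦋k⦌, b = ψ ≫ SimplexCategory.δ i := by
      refine SimplexCategory.eq_comp_δ_of_not_surjective' b i fun z hz => ?_
      have h1 := congrArg (fun f => f.toOrderHom z) e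
      simp only [SimplexCategory.comp_toOrderHom, OrderHom.comp_coe, Function.comp_apply] at h1
      erw [δ_toOrderHom_apply, δ_toOrderHom_apply, hz,
        Fin.succAbove_of_castSucc_lt _ _ hij] at h1
      exact Fin.succAbove_ne _ _ h1
    have ha : a = ψ ≫ SimplexCategory.δ j := by
      rw [← cancel_mono (SimplexCategory.δ i.castSucc), e, Category.assoc, Category.assoc,
        SimplexCategory.δ_comp_δ hle]
    subst ha
    simp only [op_comp, Functor.map_comp_apply]
    exact congrArg _ (h i j hle).symm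
  intro l a b i j e
  rcases lt_trichotomy i j with hij | rfl | hij
  · exact key l a b i j hij e
  · rw [cancel_mono (SimplexCategory.δ i)] at e
    rw [e]
  · exact (key l b a j i hij e.symm).symm

/-- boundary data of a simplex -/
lemma coherent_faces {X : SSet.{u}} {k : ℕ} (y : (X _⦋k + 1⦌ : Type u)) :
    Coherent fun i => X.δ i y := by
  intro l a b i j e
  change X.map a.op (X.map (SimplexCategory.δ i).op y) = X.map b.op (X.map (SimplexCategory.δ j).op y)
  rw [← Functor.map_comp_apply, ← Functor.map_comp_apply, ← op_comp, ← op_comp, e]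

/-- compatible boundary data extend to all simplices of lower dimension -/
theorem exists_fam {X : SSet.{u}} {k : ℕ} (x : Fin (k + 2) → (X _⦋k⦌ : Type u)) (hx : Coherent x) :
    ∃ fam : ∀ (l : SimplexCategory) (_ : l.len ≤ k) (_ : l ⟶ ⦋k + 1⦌), (X.obj (op l) : Type u),
      (∀ (l l' : SimplexCategory) (hl : l.len ≤ k) (hl' : l'.len ≤ k) (φ : l' ⟶ l) (θ : l ⟶ ⦋k + 1⦌),
        X.map φ.op (fam l hl θ) = fam l' hl' (φ ≫ θ)) ∧
      ∀ i, fam ⦋k⦌ le_rfl (SimplexCategory.δ i) = x i := by
  have hns : ∀ (l : SimplexCategory) (_ : l.len ≤ k) (θ : l ⟶ ⦋k + 1⦌),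
      ∃ (i : Fin (k + 2)) (a : l ⟶ ⦋k⦌), θ = a ≫ SimplexCategory.δ i := by
    intro l hl θ
    refine SimplexCategory.eq_comp_δ_of_not_surjective θ fun hs => ?_
    have := Fintype.card_le_of_surjective _ hs
    simp at this
    omega
  choose i a ha using hns
  refine ⟨fun l hl θ => X.map (a l hl θ).op (x (i l hl θ)), fun l l' hl hl' φ θ => ?_, fun j => ?_⟩
  · rw [← Functor.map_comp_apply, ← op_comp]
    exact hx _ _ _ _ _ (by rw [Category.assoc, ← ha, ← ha])
  · refine (hx _ _ (𝟙 _) _ j (by rw [← ha, Category.id_comp])).trans ?_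
    exact Functor.map_id_apply X (X := op ⦋k⦌) _

variable (J : GrothendieckTopology C)

/-- locally trivial fibrations -/
structure IsTrivFib {K L : SimplicialObject (Cᵒᵖ ⥤ Type u)} (v : K ⟶ L) : Prop where
  lift0 : ∀ (W : C) (ℓ : ((sec L W) _⦋0⦌ : Type u)),
    Loc J W fun V g => ∃ y, (secMap v V).app (op ⦋0⦌) y = (res L g).app _ ℓ
  lift : ∀ (W : C) (k : ℕ) (ℓ : ((sec L W) _⦋k + 1⦌ : Type u))
    (x : Fin (k + 2) → ((sec K W) _⦋k⦌ : Type u)), Coherent x →
    (∀ i, (secMap v W).app _ (x i) = (sec L W).δ i ℓ) →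
    Loc J W fun V g => ∃ y, (secMap v V).app (op ⦋k + 1⦌) y = (res L g).app _ ℓ ∧
      ∀ i, (sec K V).δ i y = (res K g).app _ (x i)

variable {J}

/-- lifting of finite simplicial sets, relative to a closed subset -/
theorem IsTrivFib.exists_lift {K L : SimplicialObject (Cᵒᵖ ⥤ Type u)} {v : K ⟶ L}
    (hv : IsTrivFib J v) {W : C} (T : SSet.{u}) (hT : ∀ k, Finite (T _⦋k⦌))
    (f : T ⟶ sec L W) (T0 : ∀ k, Set (T _⦋k⦌ : Type u))
    (hT0 : ∀ k i (t : (T _⦋k + 1⦌ : Type u)), t ∈ T0 (k + 1) → T.δ i t ∈ T0 k)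
    (g0 : ∀ k, ∀ t ∈ T0 k, ((sec K W) _⦋k⦌ : Type u))
    (hg0v : ∀ k t ht, (secMap v W).app _ (g0 k t ht) = f.app _ t)
    (hg0δ : ∀ k i t (ht : t ∈ T0 (k + 1)),
      g0 k (T.δ i t) (hT0 k i t ht) = (sec K W).δ i (g0 (k + 1) t ht))
    (M : ℕ) :
    Loc J W fun V r => ∃ g : ∀ k, k < M → (T _⦋k⦌ : Type u) → ((sec K V) _⦋k⦌ : Type u),
      (∀ k hk t, (secMap v V).app _ (g k hk t) = (res L r).app _ (f.app _ t)) ∧
      (∀ k hk t ht, g k hk t = (res K r).app _ (g0 k t ht)) ∧
      ∀ k (hk : k + 1 < M) i t,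
        g k (Nat.lt_of_succ_lt hk) (T.δ i t) = (sec K V).δ i (g (k + 1) hk t) := by
  induction M with
  | zero => exact Loc.pure fun V r => ⟨fun k hk => absurd hk (Nat.not_lt_zero k),
      fun k hk => absurd hk (Nat.not_lt_zero k), fun k hk => absurd hk (Nat.not_lt_zero k),
      fun k hk => absurd hk (Nat.not_lt_zero _)⟩
  | succ M ih =>
    refine ih.bind fun V r hr => ?_
    obtain ⟨g, hgv, hg0, hgδ⟩ := hr
    have step : ∀ t : (T _⦋M⦌ : Type u), Loc J V fun U h =>
        ∃ y : ((sec K U) _⦋M⦌ : Type u),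
          (secMap v U).app _ y = (res L h).app _ ((res L r).app _ (f.app _ t)) ∧
          (∀ ht, y = (res K h).app _ ((res K r).app _ (g0 M t ht))) ∧
          ∀ k (e : M = k + 1) i, (sec K U).δ i (e ▸ y) =
            (res K h).app _ (g k (e ▸ Nat.lt_succ_self k) (T.δ i (e ▸ t))) := by
      intro t
      by_cases ht : t ∈ T0 M
      · refine Loc.pure fun U h => ⟨(res K h).app _ ((res K r).app _ (g0 M t ht)), ?_,
          fun _ => rfl, ?_⟩
        · rw [secMap_res, secMap_res, hg0v]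
        · rintro k rfl i
          dsimp only
          rw [hg0 k (Nat.lt_succ_self k) (T.δ i t) (hT0 k i t ht), hg0δ k i t ht,
            ← SSet.δ_naturality_apply, ← SSet.δ_naturality_apply]
      · rcases M with - | m
        · exact (hv.lift0 V _).mono fun U h ⟨y, hy⟩ =>
            ⟨y, hy, fun h' => absurd h' ht, fun k e => by omega⟩
        · refine (hv.lift V m ((res L r).app _ (f.app _ t))
            (fun i => g m (Nat.lt_succ_self m) (T.δ i t)) ?_ ?_).mono fun U h ⟨y, hy, hy'⟩ =>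
              ⟨y, hy, fun h' => absurd h' ht, fun k e i => by
                obtain rfl : m = k := by omega
                exact hy' i⟩
          · rcases m with - | m
            · exact coherent_zero _
            · refine coherent_succ _ fun i j hij => ?_
              rw [← hgδ m (Nat.lt_succ_self (m + 1)) i, ← hgδ m (Nat.lt_succ_self (m + 1)) j]
              exact congrArg _ (ConcreteCategory.congr_hom (T.δ_comp_δ hij) t)
          · intro i
            rw [hgv, ← SSet.δ_naturality_apply, ← SSet.δ_naturality_apply]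
    have := hT M
    refine (Loc.finite step).mono fun U h hU => ?_
    choose y hyv hy0 hyδ using hU
    let g' : ∀ k, k < M + 1 → (T _⦋k⦌ : Type u) → ((sec K U) _⦋k⦌ : Type u) := fun k hk =>
      if hk' : k < M then fun t => (res K h).app _ (g k hk' t)
      else (show k = M by omega) ▸ y
    have hlt : ∀ k hk (hk' : k < M) t, g' k hk t = (res K h).app _ (g k hk' t) := fun k hk hk' t => by
      simp only [g', dif_pos hk']
    have heq : g' M (Nat.lt_succ_self M) = y := by
      simp only [g', dif_neg (lt_irrefl M)]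
    refine ⟨g', fun k hk t => ?_, fun k hk t ht => ?_, fun k hk i t => ?_⟩
    · by_cases hk' : k < M
      · rw [hlt k hk hk', secMap_res, hgv, res_comp]
      · obtain rfl : k = M := by omega
        rw [heq, hyv, res_comp]
    · by_cases hk' : k < M
      · rw [hlt k hk hk', hg0 k hk' t ht, res_comp]
      · obtain rfl : k = M := by omega
        rw [heq, hy0 t ht, res_comp]
    · rw [hlt k (by omega) (by omega)]
      by_cases hk' : k + 1 < M
      · rw [hlt (k + 1) hk hk', hgδ k hk', SSet.δ_naturality_apply]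
      · obtain rfl : M = k + 1 := by omega
        rw [heq]
        exact (hyδ t k rfl i).symm

end Groth.HyperLib
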