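import Groth.Agent.HTopHyper.Hyper.TrivFibHypercovering

/-!
Every locally trivial fibration over the point receives a semi-representable one with components in
a given covering class.
-/

set_option autoImplicit false
set_option backward.isDefEq.respectTransparency false

universe u

open CategoryTheory CategoryTheory.Limits Opposite Simplicial

namespace Groth.HyperLib

variable {A : Type u} [SmallCategory A]

/-- a decorated diagram on the simplices of a standard simplex -/
structure RDiag (E : SimplicialObject (Aᵒᵖ ⥤ Type u)) (P : A → Prop) (n : SimplexCategory) : Type u where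
  obj : ∀ l : SimplexCategory, (l ⟶ n) → A
  mem : ∀ l θ, P (obj l θ)
  mor : ∀ {l l' : SimplexCategory} (φ : l' ⟶ l) (θ : l ⟶ n) (θ' : l' ⟶ n),
    φ ≫ θ = θ' → (obj l θ ⟶ obj l' θ')
  mor_id : ∀ {l : SimplexCategory} (θ : l ⟶ n) (h), mor (𝟙 l) θ θ h = 𝟙 _
  mor_comp : ∀ {l l' l'' : SimplexCategory} (φ : l' ⟶ l) (ψ : l'' ⟶ l') (θ θ' θ'') (h h' h''),
    mor φ θ θ' h ≫ mor ψ θ' θ'' h' = mor (ψ ≫ φ) θ θ'' h''
  el : ∀ (l : SimplexCategory) (θ : l ⟶ n), ((sec E (obj l θ)).obj (op l) : Type u)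
  el_map : ∀ {l l' : SimplexCategory} (φ : l' ⟶ l) (θ : l ⟶ n) (θ' : l' ⟶ n) (h : φ ≫ θ = θ'),
    (sec E (obj l θ)).map φ.op (el l θ) = (res E (mor φ θ θ' h)).app (op l') (el l' θ')

namespace RDiag

variable {E : SimplicialObject (Aᵒᵖ ⥤ Type u)} {P : A → Prop} {n m : SimplexCategory}

lemma mor_eq (D : RDiag E P n) {l : SimplexCategory} (θ θ' : l ⟶ n) (e : θ = θ') :
    D.mor (𝟙 l) θ θ' (by rw [Category.id_comp, e]) = eqToHom (by rw [e]) := by
  subst e
  exact D.mor_id θ _

lemma mor_congr (D : RDiag E P n) {l l' : SimplexCategory} {φ φ' : l' ⟶ l} (e : φ = φ') (θ : l ⟶ n)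
    (θ' : l' ⟶ n) (h : φ ≫ θ = θ') : D.mor φ θ θ' h = D.mor φ' θ θ' (e ▸ h) := by
  subst e
  rfl

lemma ext' {D D' : RDiag E P n} (h : ∀ l θ, D.obj l θ = D'.obj l θ)
    (hm : ∀ {l l'} (φ : l' ⟶ l) θ θ' (e : φ ≫ θ = θ'),
      D.mor φ θ θ' e ≫ eqToHom (h l' θ') = eqToHom (h l θ) ≫ D'.mor φ θ θ' e)
    (he : ∀ l θ, (res E (eqToHom (h l θ))).app (op l) (D'.el l θ) = D.el l θ) : D = D' := by
  obtain ⟨o, p, mo, _, _, e, _⟩ := D
  obtain ⟨o', p', mo', _, _, e', _⟩ := D'
  obtain rfl : o = o' := funext fun l => funext fun θ => h l θ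
  obtain rfl : @mo = @mo' := by
    funext l l' φ θ θ' e
    simpa using hm φ θ θ' e
  obtain rfl : e = e' := funext fun l => funext fun θ => by
    simpa [res_id] using (he l θ).symm
  rfl

/-- restriction along an operator -/
@[simps]
def restrict (D : RDiag E P n) (ψ : m ⟶ n) : RDiag E P m where
  obj l θ := D.obj l (θ ≫ ψ)
  mem l θ := D.mem l _
  mor φ θ θ' h := D.mor φ (θ ≫ ψ) (θ' ≫ ψ) (by rw [← Category.assoc, h])
  mor_id θ h := D.mor_id _ _
  mor_comp φ χ θ θ' θ'' h h' h'' := D.mor_comp _ _ _ _ _ _ _ _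
  el l θ := D.el l (θ ≫ ψ)
  el_map φ θ θ' h := D.el_map φ _ _ _

/-- the top object -/
abbrev top (D : RDiag E P n) : A := D.obj n (𝟙 n)

/-- the map from the top object to the top object of a restriction -/
abbrev topMap (D : RDiag E P n) (ψ : m ⟶ n) : D.top ⟶ (D.restrict ψ).top :=
  D.mor ψ (𝟙 n) (𝟙 m ≫ ψ) (by simp)

lemma restrict_id (D : RDiag E P n) : D.restrict (𝟙 n) = D := by
  refine ext' (fun l θ => by simp) (fun {l l'} φ θ θ' e => ?_) (fun l θ => ?_)
  · simp only [restrict_mor, restrict_obj]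
    rw [← D.mor_eq (θ' ≫ 𝟙 n) θ' (by simp), ← D.mor_eq (θ ≫ 𝟙 n) θ (by simp)]
    erw [D.mor_comp _ _ _ _ _ _ _ (by simp [e]), D.mor_comp _ _ _ _ _ _ _ (by simp [e])]
    exact D.mor_congr (by simp) _ _ _
  · simp only [restrict_obj, restrict_el]
    rw [← D.mor_eq (θ ≫ 𝟙 n) θ (by simp)]
    erw [← D.el_map (𝟙 l) (θ ≫ 𝟙 n) θ (by simp)]
    exact Functor.map_id_apply (sec E _) (X := op l) _

lemma restrict_comp {k : SimplexCategory} (D : RDiag E P n) (ψ : m ⟶ n) (χ : k ⟶ m) :
    D.restrict (χ ≫ ψ) = (D.restrict ψ).restrict χ := by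
  refine ext' (fun l θ => by simp) (fun {l l'} φ θ θ' e => ?_) (fun l θ => ?_)
  · simp only [restrict_mor, restrict_obj]
    rw [← D.mor_eq (θ' ≫ χ ≫ ψ) ((θ' ≫ χ) ≫ ψ) (by simp),
      ← D.mor_eq (θ ≫ χ ≫ ψ) ((θ ≫ χ) ≫ ψ) (by simp)]
    erw [D.mor_comp _ _ _ _ _ _ _ (by simp [reassoc_of% e]),
      D.mor_comp _ _ _ _ _ _ _ (by simp [reassoc_of% e])]
    exact D.mor_congr (by simp) _ _ _
  · simp only [restrict_obj, restrict_el]
    rw [← D.mor_eq (θ ≫ χ ≫ ψ) ((θ ≫ χ) ≫ ψ) (by simp)]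
    erw [← D.el_map (𝟙 l) (θ ≫ χ ≫ ψ) ((θ ≫ χ) ≫ ψ) (by simp)]
    exact Functor.map_id_apply (sec E _) (X := op l) _

end RDiag

variable (E : SimplicialObject (Aᵒᵖ ⥤ Type u)) (P : A → Prop)

/-- the universal semi-representable simplicial object over `E` with components in `P` -/
def resObj : SimplicialObject (FormalCoproduct.{u} A) where
  obj n := ⟨RDiag E P n.unop, fun D => D.top⟩
  map ψ := ⟨fun D => D.restrict ψ.unop, fun D => D.topMap ψ.unop⟩
  map_id n := FormalCoproduct.hom_ext (funext fun D => D.restrict_id) fun D => by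
    change D.mor _ _ _ _ ≫ eqToHom _ = 𝟙 _
    erw [← D.mor_eq (𝟙 n.unop ≫ 𝟙 n.unop) (𝟙 n.unop) (by simp),
      D.mor_comp _ _ _ _ _ _ _ (by simp), D.mor_congr (show 𝟙 n.unop ≫ 𝟙 n.unop = 𝟙 n.unop by simp),
      D.mor_id]
  map_comp {n m k} f g := FormalCoproduct.hom_ext (funext fun D => D.restrict_comp f.unop g.unop)
    fun D => by
      change D.mor _ _ _ _ ≫ eqToHom _ = D.mor _ _ _ _ ≫ D.mor _ _ _ _
      erw [← D.mor_eq (𝟙 k.unop ≫ g.unop ≫ f.unop) ((𝟙 k.unop ≫ g.unop) ≫ f.unop) (by simp),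
        D.mor_comp _ _ _ _ _ _ _ (by simp), D.mor_comp _ _ _ _ _ _ _ (by simp)]
      exact D.mor_congr (by simp) _ _ _

variable {E P}

/-- the element of `E` of a point -/
def resElem {n : SimplexCategory} {W : A} (p : Pt ((resObj E P).obj (op n)) W) :
    ((sec E W).obj (op n) : Type u) :=
  (res E p.hom).app (op n) (p.idx.el n (𝟙 n))

lemma resElem_map {n m : SimplexCategory} {W : A} (p : Pt ((resObj E P).obj (op n)) W) (ψ : m ⟶ n) :
    resElem (p ≫ (resObj E P).map ψ.op) = (sec E W).map ψ.op (resElem p) := by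
  obtain ⟨f, φ⟩ := p
  change (res E (φ PUnit.unit ≫ (f PUnit.unit).topMap ψ)).app (op m) _ = _
  rw [res_comp]
  change (res E (φ PUnit.unit)).app (op m) ((res E ((f PUnit.unit).topMap ψ)).app (op m)
    ((f PUnit.unit).el m (𝟙 m ≫ ψ))) = _
  erw [← (f PUnit.unit).el_map ψ (𝟙 n) (𝟙 m ≫ ψ) (by simp)]
  erw [NatTrans.naturality_apply]
  rfl

lemma resElem_restrict {n : SimplexCategory} {V W : A} (v : V ⟶ W)
    (p : Pt ((resObj E P).obj (op n)) W) :
    resElem ((FormalCoproduct.incl A).map v ≫ p) = (res E v).app (op n) (resElem p) := by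
  conv_lhs => rw [← p.eta, Pt.incl_map_mk']
  exact res_comp E v p.hom _ _

/-- compatible boundary data extend to all simplices that are not surjective -/
theorem exists_fam_nonsurj {X : SSet.{u}} {k : ℕ} (x : Fin (k + 2) → (X _⦋k⦌ : Type u))
    (hx : Coherent x) :
    ∃ fam : ∀ (l : SimplexCategory) (θ : l ⟶ ⦋k + 1⦌), ¬ Function.Surjective θ.toOrderHom →
        (X.obj (op l) : Type u),
      ∀ l θ h i (a : l ⟶ ⦋k⦌), θ = a ≫ SimplexCategory.δ i → fam l θ h = X.map a.op (x i) := by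
  choose i a ha using fun (l : SimplexCategory) (θ : l ⟶ ⦋k + 1⦌)
    (h : ¬ Function.Surjective θ.toOrderHom) => SimplexCategory.eq_comp_δ_of_not_surjective θ h
  exact ⟨fun l θ h => X.map (a l θ h).op (x (i l θ h)),
    fun l θ h j b hb => hx l _ b _ j ((ha l θ h).symm.trans hb)⟩

namespace Glue

variable {k : ℕ} {V : A} (hV : P V) (e : ((sec E V) _⦋k + 1⦌ : Type u))

/-- object of a possibly missing point -/
abbrev gobj {l : SimplexCategory} : Option (Pt ((resObj E P).obj (op l)) V) → A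
  | none => V
  | some p => p.idx.top

/-- the arrow from the cone point -/
abbrev ghom {l : SimplexCategory} : ∀ o : Option (Pt ((resObj E P).obj (op l)) V), V ⟶ gobj o
  | none => 𝟙 V
  | some p => p.hom

/-- the element -/
def gel {l : SimplexCategory} (θ : l ⟶ ⦋k + 1⦌) :
    ∀ o : Option (Pt ((resObj E P).obj (op l)) V), ((sec E (gobj o)).obj (op l) : Type u)
  | none => (sec E V).map θ.op e
  | some p => p.idx.el l (𝟙 l)

/-- compatibility of possibly missing points -/
def Rel {l l' : SimplexCategory} (φ : l' ⟶ l) :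
    Option (Pt ((resObj E P).obj (op l)) V) → Option (Pt ((resObj E P).obj (op l')) V) → Prop
  | none, _ => True
  | some _, none => False
  | some p, some q => p ≫ (resObj E P).map φ.op = q

lemma top_eq {l l' : SimplexCategory} {φ : l' ⟶ l} {p : Pt ((resObj E P).obj (op l)) V}
    {q : Pt ((resObj E P).obj (op l')) V} (h : p ≫ (resObj E P).map φ.op = q) :
    (p.idx.restrict φ).top = q.idx.top := by subst h; rfl

/-- the connecting maps -/
def gmor {l l' : SimplexCategory} (φ : l' ⟶ l) :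
    ∀ (o : Option (Pt ((resObj E P).obj (op l)) V)) (o' : Option (Pt ((resObj E P).obj (op l')) V)),
      Rel φ o o' → (gobj o ⟶ gobj o')
  | none, o', _ => ghom o'
  | some p, some q, h => p.idx.topMap φ ≫ eqToHom (top_eq h)

lemma ghom_gmor {l l' : SimplexCategory} (φ : l' ⟶ l) :
    ∀ o o' (h : Rel (V := V) (E := E) (P := P) φ o o'), ghom o ≫ gmor φ o o' h = ghom o'
  | none, o', _ => Category.id_comp _
  | some p, some q, h => by
    subst h
    simp only [gmor, ghom, eqToHom_refl, Category.comp_id]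
    rfl

lemma gmor_id {l : SimplexCategory} :
    ∀ o h, gmor (V := V) (E := E) (P := P) (𝟙 l) o o h = 𝟙 _
  | none, _ => rfl
  | some p, _ => by
    simp only [gmor]
    rw [← p.idx.mor_eq (𝟙 l ≫ 𝟙 l) (𝟙 l) (by simp)]
    erw [p.idx.mor_comp _ _ _ _ _ _ _ (by simp)]
    rw [p.idx.mor_congr (show 𝟙 l ≫ 𝟙 l = 𝟙 l by simp), p.idx.mor_id]

lemma gmor_comp {l l' l'' : SimplexCategory} (φ : l' ⟶ l) (ψ : l'' ⟶ l') :
    ∀ o o' o'' (h : Rel (V := V) (E := E) (P := P) φ o o') h' (h'' : Rel (ψ ≫ φ) o o''),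
      gmor φ o o' h ≫ gmor ψ o' o'' h' = gmor (ψ ≫ φ) o o'' h''
  | none, o', o'', h, h', h'' => ghom_gmor ψ o' o'' h'
  | some p, some q, some r, h, h', h'' => by
    subst h h'
    simp only [gmor, eqToHom_refl, Category.comp_id]
    erw [p.idx.mor_comp _ _ _ _ _ _ _ (by simp)]
    rfl

/-- compatibility with the top element -/
def Ok {l : SimplexCategory} (θ : l ⟶ ⦋k + 1⦌) : Option (Pt ((resObj E P).obj (op l)) V) → Prop
  | none => True
  | some p => resElem p = (sec E V).map θ.op e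

lemma gel_map {l l' : SimplexCategory} (φ : l' ⟶ l) (θ : l ⟶ ⦋k + 1⦌) :
    ∀ o o', Ok e θ o → Ok e (φ ≫ θ) o' → ∀ h : Rel (V := V) (E := E) (P := P) φ o o',
      (sec E (gobj o)).map φ.op (gel e θ o) = (res E (gmor φ o o' h)).app (op l') (gel e (φ ≫ θ) o')
  | none, none, _, _, _ => by
    simp only [gel, gmor, ghom, res_id, op_comp, Functor.map_comp_apply]
  | none, some q, _, hq, _ => by
    simp only [gel, gmor]
    rw [← Functor.map_comp_apply, ← op_comp]
    exact hq.symm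
  | some p, some q, _, _, h => by
    subst h
    simp only [gel, gmor, eqToHom_refl, Category.comp_id]
    exact p.idx.el_map φ (𝟙 l) (𝟙 l' ≫ φ) (by simp)

lemma obj_eq {l l' : SimplexCategory} (a : l' ⟶ l) (p : Pt ((resObj E P).obj (op l)) V) {o : Option _}
    (h : o = some (p ≫ (resObj E P).map a.op)) : gobj o = p.idx.obj l' (𝟙 l' ≫ a) := by subst h; rfl

lemma mor_eq {l l' l'' : SimplexCategory} (p : Pt ((resObj E P).obj (op l)) V) (a : l' ⟶ l)
    (a' : l'' ⟶ l) (φ : l'' ⟶ l') (ha : φ ≫ a = a') (o : Option _) (o' : Option _)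
    (ho : o = some (p ≫ (resObj E P).map a.op)) (ho' : o' = some (p ≫ (resObj E P).map a'.op))
    (h : Rel φ o o') :
    gmor φ o o' h ≫ eqToHom (obj_eq a' p ho') =
      eqToHom (obj_eq a p ho) ≫ p.idx.mor φ (𝟙 l' ≫ a) (𝟙 l'' ≫ a') (by simp [ha]) := by
  subst ho ho'
  simp only [gmor, eqToHom_refl, Category.comp_id, Category.id_comp]
  erw [← p.idx.mor_eq ((𝟙 l'' ≫ φ) ≫ a) (𝟙 l'' ≫ a') (by simp [ha]),
    p.idx.mor_comp _ _ _ _ _ _ _ (by simp [ha])]
  exact p.idx.mor_congr (by simp) _ _ _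

lemma el_eq {l l' : SimplexCategory} (a : l' ⟶ l) (p : Pt ((resObj E P).obj (op l)) V) (θ : l' ⟶ ⦋k + 1⦌)
    (o : Option _) (ho : o = some (p ≫ (resObj E P).map a.op)) :
    (res E (eqToHom (obj_eq a p ho))).app (op l') (p.idx.el l' (𝟙 l' ≫ a)) = gel e θ o := by
  subst ho
  rw [eqToHom_refl]
  exact res_id E _ _ _

end Glue

open Glue in
/-- fillers exist at any object of the class below a filler in `E` -/
theorem exists_resObj_fill {k : ℕ} {V : A} (hV : P V)
    (x : Fin (k + 2) → ((ptSS (resObj E P) V) _⦋k⦌ : Type u)) (hx : Coherent x)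
    (e : ((sec E V) _⦋k + 1⦌ : Type u)) (he : ∀ i, (sec E V).δ i e = resElem (x i)) :
    ∃ b : Pt ((resObj E P).obj (op ⦋k + 1⦌)) V, (∀ i, b ≫ (resObj E P).δ i = x i) ∧ resElem b = e := by
  classical
  obtain ⟨fam, hfam⟩ := exists_fam_nonsurj x hx
  let G : ∀ (l : SimplexCategory) (θ : l ⟶ ⦋k + 1⦌), Option (Pt ((resObj E P).obj (op l)) V) :=
    fun l θ => if h : Function.Surjective θ.toOrderHom then none else some (fam l θ h)
  have hG : ∀ l θ h, G l θ = some (fam l θ h) := fun l θ h => dif_neg h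
  have hGn : ∀ l θ, Function.Surjective θ.toOrderHom → G l θ = none := fun l θ h => dif_pos h
  have hRel : ∀ {l l'} (φ : l' ⟶ l) θ θ', φ ≫ θ = θ' → Rel φ (G l θ) (G l' θ') := by
    rintro l l' φ θ _ rfl
    by_cases h : Function.Surjective θ.toOrderHom
    · rw [hGn l θ h]
      trivial
    · have h' : ¬ Function.Surjective (φ ≫ θ).toOrderHom := fun hs => h fun y => by
        obtain ⟨z, hz⟩ := hs y
        exact ⟨φ.toOrderHom z, hz⟩
      rw [hG l θ h, hG l' _ h']
      obtain ⟨i, a, ha⟩ := SimplexCategory.eq_comp_δ_of_not_surjective θ h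
      change fam l θ h ≫ _ = fam l' _ h'
      rw [hfam l θ h i a ha, hfam l' (φ ≫ θ) h' i (φ ≫ a) (by rw [ha, Category.assoc])]
      exact (Functor.map_comp_apply (ptSS (resObj E P) V) a.op φ.op (x i)).symm
  have hOk : ∀ l θ, Ok e θ (G l θ) := by
    intro l θ
    by_cases h : Function.Surjective θ.toOrderHom
    · rw [hGn l θ h]
      trivial
    · rw [hG l θ h]
      obtain ⟨i, a, ha⟩ := SimplexCategory.eq_comp_δ_of_not_surjective θ h
      change resElem (fam l θ h) = _
      rw [hfam l θ h i a ha, ha, op_comp, Functor.map_comp_apply]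
      exact (resElem_map (x i) a).trans (congrArg _ (he i).symm)
  let D : RDiag E P ⦋k + 1⦌ :=
    { obj := fun l θ => gobj (G l θ)
      mem := fun l θ => by
        cases G l θ with
        | none => exact hV
        | some p => exact p.idx.mem _ _
      mor := fun φ θ θ' h => gmor φ _ _ (hRel φ θ θ' h)
      mor_id := fun θ h => gmor_id _ _
      mor_comp := fun φ ψ θ θ' θ'' h h' h'' => gmor_comp φ ψ _ _ _ _ _ _
      el := fun l θ => gel e θ (G l θ)
      el_map := fun φ θ θ' h => by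
        subst h
        exact gel_map e φ θ _ _ (hOk _ _) (hOk _ _) _ }
  refine ⟨Pt.mk' D (ghom (G ⦋k + 1⦌ (𝟙 _))), fun i => ?_, ?_⟩
  · rw [SimplicialObject.δ, Pt.mk'_comp]
    conv_rhs => rw [← Pt.eta (x i)]
    rw [Pt.mk'_eq_iff]
    have hns : ∀ (l : SimplexCategory) (a : l ⟶ ⦋k⦌),
        G l (a ≫ SimplexCategory.δ i) = some (x i ≫ (resObj E P).map a.op) := fun l a => by
      have h : ¬ Function.Surjective (a ≫ SimplexCategory.δ i).toOrderHom := fun hs => by
        obtain ⟨z, hz⟩ := hs i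
        exact Fin.succAbove_ne _ _ hz
      rw [hG _ _ h]
      exact congrArg some (hfam _ _ h i a rfl)
    have hobj : ∀ l (a : l ⟶ ⦋k⦌), (D.restrict (SimplexCategory.δ i)).obj l a = (Pt.idx (x i)).obj l a :=
      fun l a => (obj_eq a (x i) (hns l a)).trans (congrArg _ (Category.id_comp a))
    have hind : D.restrict (SimplexCategory.δ i) = (Pt.idx (x i)) := by
      refine RDiag.ext' hobj (fun {l l'} φ a a' ha => ?_) (fun l a => ?_)
      · have h1 := mor_eq (x i) a a' φ ha _ _ (hns l a) (hns l' a')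
          (hRel φ (a ≫ SimplexCategory.δ i) (a' ≫ SimplexCategory.δ i) (by rw [← Category.assoc, ha]))
        change gmor φ (G l (a ≫ SimplexCategory.δ i)) (G l' (a' ≫ SimplexCategory.δ i)) _ ≫ _ = _
        rw [← eqToHom_trans (obj_eq a' (x i) (hns l' a')) (congrArg _ (Category.id_comp a')),
          ← Category.assoc, h1, Category.assoc,
          ← eqToHom_trans (obj_eq a (x i) (hns l a)) (congrArg _ (Category.id_comp a)), Category.assoc]
        rw [← (Pt.idx (x i)).mor_eq (𝟙 l' ≫ a') a' (by simp), ← (Pt.idx (x i)).mor_eq (𝟙 l ≫ a) a (by simp)]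
        erw [(Pt.idx (x i)).mor_comp _ _ _ _ _ _ _ (by simp [ha]), (Pt.idx (x i)).mor_comp _ _ _ _ _ _ _ (by simp [ha])]
        exact congrArg _ ((Pt.idx (x i)).mor_congr (by simp) _ _ _)
      · change _ = gel e (a ≫ SimplexCategory.δ i) (G l (a ≫ SimplexCategory.δ i))
        rw [← el_eq e a (x i) _ _ (hns l a),
          ← eqToHom_trans (obj_eq a (x i) (hns l a)) (congrArg _ (Category.id_comp a)), res_comp]
        congr 1
        rw [← (Pt.idx (x i)).mor_eq (𝟙 l ≫ a) a (by simp), ← (Pt.idx (x i)).el_map _ _ _ (by simp)]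
        exact Functor.map_id_apply (sec E _) (X := op l) _
    refine ⟨hind, ?_⟩
    change (ghom (G _ (𝟙 _)) ≫ gmor (SimplexCategory.δ i) _ (G _ (𝟙 _ ≫ SimplexCategory.δ i)) _) ≫
      eqToHom _ = _
    rw [ghom_gmor]
    have key : ∀ (p q : Pt ((resObj E P).obj (op ⦋k⦌)) V) (o : Option _), o = some q → q = p →
        ∀ hh : gobj o = p.idx.top, ghom o ≫ eqToHom hh = p.hom := by
      rintro p q _ rfl rfl hh
      simp
    exact key _ _ _ (hns _ (𝟙 _)) (Functor.map_id_apply (ptSS (resObj E P) V) (X := op ⦋k⦌) (x i)) _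
  · have h0 : ∀ o : Option (Pt ((resObj E P).obj (op ⦋k + 1⦌)) V), Ok e (𝟙 _) o →
        (res E (ghom o)).app (op ⦋k + 1⦌) (gel e (𝟙 _) o) = e := by
      rintro (_ | p) h
      · simp only [gel, ghom, res_id]
        exact Functor.map_id_apply (sec E _) (X := op ⦋k + 1⦌) _
      · exact h.trans (Functor.map_id_apply (sec E _) (X := op ⦋k + 1⦌) _)
    exact h0 _ (hOk _ _)

/-- the vertices of the universal object -/
theorem exists_resObj_point {V : A} (hV : P V) (e : ((sec E V) _⦋0⦌ : Type u)) :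
    ∃ b : Pt ((resObj E P).obj (op ⦋0⦌)) V, resElem b = e := by
  let D : RDiag E P ⦋0⦌ :=
    { obj := fun _ _ => V
      mem := fun _ _ => hV
      mor := fun _ _ _ _ => 𝟙 V
      mor_id := fun _ _ => rfl
      mor_comp := fun _ _ _ _ _ _ _ _ => Category.id_comp _
      el := fun l θ => (sec E V).map θ.op e
      el_map := fun φ θ θ' h => by
        subst h
        rw [res_id, op_comp, Functor.map_comp_apply] }
  refine ⟨Pt.mk' D (𝟙 V), ?_⟩
  exact (res_id E _ _ _).trans (Functor.map_id_apply (sec E _) (X := op ⦋0⦌) _)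

variable {J : GrothendieckTopology A}

/-- every object is covered by objects of the class -/
def Covers (J : GrothendieckTopology A) (P : A → Prop) : Prop :=
  ∀ W : A, (Sieve.generate fun V (_ : V ⟶ W) => P V) ∈ J W

lemma Covers.loc {P : A → Prop} (hP : Covers J P) (W : A) :
    Loc J W fun V g => ∃ (U : A) (k : V ⟶ U) (h : U ⟶ W), P U ∧ k ≫ h = g := by
  refine ⟨_, hP W, fun V g hg => ?_⟩
  obtain ⟨U, k, h, hU, hk⟩ := hg
  exact ⟨U, k, h, hU, hk⟩

/-- local fillers in the universal object -/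
theorem loc_resObj_fill (hP : Covers J P) (hE : IsTrivFib J (toPt E))
    (k : ℕ) (W : A) (x : Fin (k + 2) → ((ptSS (resObj E P) W) _⦋k⦌ : Type u)) (hx : Coherent x) :
    Loc J W fun V g => ∃ b : Pt ((resObj E P).obj (op ⦋k + 1⦌)) V,
      ∀ i, b ≫ (resObj E P).δ i = (FormalCoproduct.incl A).map g ≫ x i := by
  have hc : Coherent (X := sec E W) fun i => resElem (x i) := by
    intro l a b i j h
    change (sec E W).map a.op (resElem (x i)) = (sec E W).map b.op (resElem (x j))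
    rw [← resElem_map, ← resElem_map]
    exact congrArg resElem (hx l a b i j h)
  refine (hE.lift W k PUnit.unit _ hc fun _ => rfl).bind fun V g ⟨e, _, he⟩ => ?_
  refine (hP.loc V).mono fun U' h' ⟨U, κ, h, hU, hκ⟩ => ?_
  obtain ⟨b, hb, -⟩ := exists_resObj_fill hU (fun i => (FormalCoproduct.incl A).map (h ≫ g) ≫ x i)
    (fun l a b i j e' => by
      change (_ ≫ x i) ≫ _ = (_ ≫ x j) ≫ _
      rw [Category.assoc, Category.assoc]
      exact congrArg _ (hx l a b i j e'))
    ((res E h).app _ e) (fun i => by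
      rw [resElem_restrict, res_comp, ← SSet.δ_naturality_apply, he])
  refine ⟨(FormalCoproduct.incl A).map κ ≫ b, fun i => ?_⟩
  rw [Category.assoc, hb, ← Category.assoc, ← Functor.map_comp, ← Category.assoc, hκ]

theorem ptSieve_resObj_mem (hP : Covers J P) (hE : IsTrivFib J (toPt E))
    (W : A) : ptSieve ((resObj E P).obj (op ⦋0⦌)) W ∈ J W := by
  obtain ⟨S, hS, hS'⟩ := (hE.lift0 W PUnit.unit).bind (Q := fun V _ => Nonempty (Pt ((resObj E P).obj (op ⦋0⦌)) V))
    fun V g ⟨e, _⟩ => (hP.loc V).mono fun U' h' ⟨U, κ, h, hU, _⟩ =>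
      let ⟨b, _⟩ := exists_resObj_point hU ((res E h).app _ e)
      ⟨(FormalCoproduct.incl A).map κ ≫ b⟩
  exact J.superset_covering (fun V g hg => hS' g hg) hS

end Groth.HyperLib
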