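import Groth.Prelude.Def_Hyper

/-!
Coverings of semi-representable objects as local surjectivity on points.
-/

set_option autoImplicit false
set_option backward.isDefEq.respectTransparency false

universe u

open CategoryTheory CategoryTheory.Limits Opposite

namespace Groth.HyperLib

variable {C : Type u} [SmallCategory C]

/-- points of a semi-representable object -/
abbrev Pt (K : FormalCoproduct.{u} C) (W : C) : Type u := (FormalCoproduct.incl C).obj W ⟶ K

/-- the point given by a component and a morphism into it -/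
abbrev Pt.mk' {K : FormalCoproduct.{u} C} {W : C} (i : K.I) (a : W ⟶ K.obj i) : Pt K W :=
  FormalCoproduct.Hom.fromIncl i a

/-- the index of a point -/
abbrev Pt.idx {K : FormalCoproduct.{u} C} {W : C} (p : Pt K W) : K.I := p.f PUnit.unit

/-- the morphism of a point -/
abbrev Pt.hom {K : FormalCoproduct.{u} C} {W : C} (p : Pt K W) : W ⟶ K.obj p.idx := p.φ PUnit.unit

lemma Pt.eta {K : FormalCoproduct.{u} C} {W : C} (p : Pt K W) : Pt.mk' p.idx p.hom = p :=
  p.fromIncl_asSigma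

lemma Pt.mk'_eq_iff {K : FormalCoproduct.{u} C} {W : C} {i j : K.I} {a : W ⟶ K.obj i}
    {b : W ⟶ K.obj j} :
    Pt.mk' i a = Pt.mk' j b ↔ ∃ e : i = j, a ≫ eqToHom (congrArg K.obj e) = b := by
  constructor
  · intro h
    obtain ⟨h₁, h₂⟩ := (FormalCoproduct.hom_ext_iff _ _).1 h
    exact ⟨congrFun h₁ PUnit.unit, h₂ PUnit.unit⟩
  · rintro ⟨rfl, e⟩
    rw [← e, eqToHom_refl, Category.comp_id]

lemma Pt.mk'_comp {K L : FormalCoproduct.{u} C} {W : C} (i : K.I) (a : W ⟶ K.obj i) (f : K ⟶ L) :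
    Pt.mk' i a ≫ f = Pt.mk' (f.f i) (a ≫ f.φ i) :=
  FormalCoproduct.hom_ext rfl fun _ => by simp; rfl

lemma Pt.incl_map_mk' {K : FormalCoproduct.{u} C} {V W : C} (v : V ⟶ W) (i : K.I) (a : W ⟶ K.obj i) :
    (FormalCoproduct.incl C).map v ≫ Pt.mk' i a = Pt.mk' i (v ≫ a) :=
  FormalCoproduct.hom_ext rfl fun _ => by simp

variable (J : GrothendieckTopology C)

/-- arrows after which a point lifts -/
def liftSieve {K L : FormalCoproduct.{u} C} (f : K ⟶ L) {W : C} (x : Pt L W) : Sieve W where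
  arrows V v := ∃ b : Pt K V, b ≫ f = (FormalCoproduct.incl C).map v ≫ x
  downward_closed := by
    rintro V V' v ⟨b, hb⟩ v'
    exact ⟨(FormalCoproduct.incl C).map v' ≫ b, by
      rw [Category.assoc, hb, Functor.map_comp, Category.assoc]⟩

/-- local surjectivity on points -/
def IsLocSurj {K L : FormalCoproduct.{u} C} (f : K ⟶ L) : Prop :=
  ∀ (W : C) (x : Pt L W), liftSieve f x ∈ J W

theorem isSRCovering_iff {K L : FormalCoproduct.{u} C} (f : K ⟶ L) :
    Hyper.IsSRCovering J f ↔ IsLocSurj J f := by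
  constructor
  · intro h W x
    refine J.superset_covering ?_ (J.pullback_stable x.hom (h x.idx))
    intro V v hv
    obtain ⟨Y, a, _, ⟨⟨i, hi⟩⟩, he⟩ := hv
    refine ⟨Pt.mk' i a, ?_⟩
    conv_rhs => rw [← x.eta]
    rw [Pt.mk'_comp, Pt.incl_map_mk', Pt.mk'_eq_iff]
    exact ⟨hi, (Category.assoc _ _ _).trans he⟩
  · intro h j
    refine J.superset_covering ?_ (h (L.obj j) (Pt.mk' j (𝟙 _)))
    rintro V v ⟨b, hb⟩
    rw [← b.eta, Pt.mk'_comp, Pt.incl_map_mk', Pt.mk'_eq_iff] at hb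
    obtain ⟨e, he⟩ := hb
    refine ⟨_, b.hom, _, Presieve.ofArrows.mk (⟨b.idx, e⟩ : {i : K.I // f.f i = j}), ?_⟩
    rw [Category.comp_id, Category.assoc] at he
    exact he

lemma IsLocSurj.of_section {K L : FormalCoproduct.{u} C} (f : K ⟶ L) (s : L ⟶ K) (hs : s ≫ f = 𝟙 L) :
    IsLocSurj J f := fun W x => by
  convert J.top_mem W
  refine Sieve.ext fun V v => ⟨fun _ => trivial, fun _ =>
    ⟨(FormalCoproduct.incl C).map v ≫ x ≫ s, by rw [Category.assoc, Category.assoc, hs, Category.comp_id]⟩⟩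

variable {J}

lemma IsLocSurj.comp {K L M : FormalCoproduct.{u} C} {f : K ⟶ L} {g : L ⟶ M} (hf : IsLocSurj J f)
    (hg : IsLocSurj J g) : IsLocSurj J (f ≫ g) := by
  intro W x
  refine J.transitive (hg W x) _ ?_
  rintro V v ⟨b, hb⟩
  refine J.superset_covering ?_ (hf V b)
  rintro V' v' ⟨c, hc⟩
  refine ⟨c, ?_⟩
  rw [← Category.assoc, hc, Category.assoc, hb, Functor.map_comp, Category.assoc]

lemma IsLocSurj.of_comp {K L M : FormalCoproduct.{u} C} {f : K ⟶ L} {g : L ⟶ M}
    (h : IsLocSurj J (f ≫ g)) : IsLocSurj J g := fun W x =>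
  J.superset_covering (fun V v hv => by
    obtain ⟨b, hb⟩ := hv
    exact ⟨b ≫ f, by rw [Category.assoc]; exact hb⟩) (h W x)

lemma IsLocSurj.of_isPullback {K L L' P : FormalCoproduct.{u} C} {f : K ⟶ L} {g : L' ⟶ L}
    {p₁ : P ⟶ L'} {p₂ : P ⟶ K} (h : IsPullback p₁ p₂ g f) (hf : IsLocSurj J f) :
    IsLocSurj J p₁ := by
  intro W x
  refine J.superset_covering ?_ (hf W (x ≫ g))
  rintro V v ⟨b, hb⟩
  exact ⟨h.lift ((FormalCoproduct.incl C).map v ≫ x) b (by rw [Category.assoc]; exact hb.symm),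
    h.lift_fst _ _ _⟩

variable (J)

/-- the element of the coproduct of representables of a point -/
noncomputable def ptElem (K : FormalCoproduct.{u} C) (W : C) (p : Pt K W) :
    (FormalCoproduct.yoneda.obj K).obj (op W) :=
  (Sigma.ι (fun i => yoneda.obj (K.obj i)) p.idx).app (op W) p.hom

lemma ptElem_bijective (K : FormalCoproduct.{u} C) (W : C) : Function.Bijective (ptElem K W) := by
  let e := (PreservesCoproduct.iso ((evaluation Cᵒᵖ (Type u)).obj (op W))
      (fun i => yoneda.obj (K.obj i))) ≪≫ Types.coproductIso.{u} (fun i => W ⟶ K.obj i)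
  have he : ∀ (i : K.I) (a : W ⟶ K.obj i),
      e.inv ⟨i, a⟩ = (Sigma.ι (fun i => yoneda.obj (K.obj i)) i).app (op W) a := by
    intro i a
    have h1 := ConcreteCategory.congr_hom
      (Types.coproductIso_mk_comp_inv.{u} (fun i => W ⟶ K.obj i) i) a
    have h2 := ConcreteCategory.congr_hom
      (ι_comp_sigmaComparison ((evaluation Cᵒᵖ (Type u)).obj (op W))
        (fun i => yoneda.obj (K.obj i)) i) a
    exact (congrArg _ h1).trans h2
  constructor
  · intro p q h
    rw [← p.eta, ← q.eta]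
    have : e.inv ⟨p.idx, p.hom⟩ = e.inv ⟨q.idx, q.hom⟩ := (he _ _).trans (h.trans (he _ _).symm)
    have h' : (⟨p.idx, p.hom⟩ : Σ i, W ⟶ K.obj i) = ⟨q.idx, q.hom⟩ := e.toEquiv.symm.injective this
    exact congrArg (fun z : Σ i, W ⟶ K.obj i => Pt.mk' z.1 z.2) h'
  · intro z
    obtain ⟨⟨i, a⟩, rfl⟩ := e.toEquiv.symm.surjective z
    exact ⟨Pt.mk' i a, (he i a).symm⟩

lemma ptElem_map {K L : FormalCoproduct.{u} C} (f : K ⟶ L) (W : C) (p : Pt K W) :
    (FormalCoproduct.yoneda.map f).app (op W) (ptElem K W p) = ptElem L W (p ≫ f) := by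
  have h : Sigma.ι (fun i => yoneda.obj (K.obj i)) p.idx ≫ FormalCoproduct.yoneda.map f =
      yoneda.map (f.φ p.idx) ≫ Sigma.ι (fun i => yoneda.obj (L.obj i)) (f.f p.idx) :=
    Sigma.ι_desc _ _
  exact ConcreteCategory.congr_hom (congr_app h (op W)) p.hom

lemma ptElem_restrict (K : FormalCoproduct.{u} C) {V W : C} (v : V ⟶ W) (p : Pt K W) :
    (FormalCoproduct.yoneda.obj K).map v.op (ptElem K W p) =
      ptElem K V ((FormalCoproduct.incl C).map v ≫ p) :=
  (ConcreteCategory.congr_hom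
    ((Sigma.ι (fun i => yoneda.obj (K.obj i)) p.idx).naturality v.op) p.hom).symm

theorem isLocallySurjective_yoneda_iff {K L : FormalCoproduct.{u} C} (f : K ⟶ L) :
    Presheaf.IsLocallySurjective J (FormalCoproduct.yoneda.map f) ↔ IsLocSurj J f := by
  have key : ∀ (W : C) (x : Pt L W),
      Presheaf.imageSieve (FormalCoproduct.yoneda.map f) (ptElem L W x) = liftSieve f x := by
    intro W x
    refine Sieve.ext fun V v => ⟨?_, ?_⟩
    · rintro ⟨t, ht⟩
      obtain ⟨b, rfl⟩ := (ptElem_bijective K V).2 t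
      refine ⟨b, (ptElem_bijective L V).1 ?_⟩
      rw [← ptElem_map, ← ptElem_restrict]
      exact ht
    · rintro ⟨b, hb⟩
      exact ⟨ptElem K V b, by rw [ptElem_map, hb, ← ptElem_restrict]⟩
  refine ⟨fun h W x => key W x ▸ h.imageSieve_mem _, fun h => ⟨fun {W} s => ?_⟩⟩
  obtain ⟨x, rfl⟩ := (ptElem_bijective L W).2 s
  exact key W x ▸ h W x

/-- arrows after which a semi-representable object has a point -/
def ptSieve (K : FormalCoproduct.{u} C) (W : C) : Sieve W where
  arrows V _ := Nonempty (Pt K V)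
  downward_closed := fun ⟨b⟩ v => ⟨(FormalCoproduct.incl C).map v ≫ b⟩

theorem isLocallySurjective_terminal_iff (K : FormalCoproduct.{u} C) :
    Presheaf.IsLocallySurjective J (terminal.from (FormalCoproduct.yoneda.obj K)) ↔
      ∀ W, ptSieve K W ∈ J W := by
  have hs : ∀ W : C, Subsingleton ((⊤_ (Cᵒᵖ ⥤ Type u)).obj (op W)) := fun W =>
    Types.isTerminalEquivUnique _ (IsTerminal.isTerminalObj
      ((evaluation Cᵒᵖ (Type u)).obj (op W)) _ terminalIsTerminal) |>.instSubsingleton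
  have key : ∀ (W : C) (s : (⊤_ (Cᵒᵖ ⥤ Type u)).obj (op W)),
      Presheaf.imageSieve (terminal.from (FormalCoproduct.yoneda.obj K)) s = ptSieve K W := by
    intro W s
    refine Sieve.ext fun V v => ⟨fun ⟨t, _⟩ => ⟨((ptElem_bijective K V).2 t).choose⟩, ?_⟩
    rintro ⟨b⟩
    exact ⟨ptElem K V b, (hs V).elim _ _⟩
  refine ⟨fun h W => ?_, fun h => ⟨fun {W} s => key W s ▸ h W⟩⟩
  let u := Types.isTerminalEquivUnique _ (IsTerminal.isTerminalObj
      ((evaluation Cᵒᵖ (Type u)).obj (op W)) _ terminalIsTerminal)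
  exact key W u.default ▸ h.imageSieve_mem _

/-- arrows after which a pair of points lifts -/
def pairSieve {K L : FormalCoproduct.{u} C} (f g : K ⟶ L) {W : C} (x y : Pt L W) : Sieve W where
  arrows V v := ∃ b : Pt K V, b ≫ f = (FormalCoproduct.incl C).map v ≫ x ∧
    b ≫ g = (FormalCoproduct.incl C).map v ≫ y
  downward_closed := by
    rintro V V' v ⟨b, hb, hb'⟩ v'
    exact ⟨(FormalCoproduct.incl C).map v' ≫ b,
      by rw [Category.assoc, hb, Functor.map_comp, Category.assoc],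
      by rw [Category.assoc, hb', Functor.map_comp, Category.assoc]⟩

theorem isLocallySurjective_prod_iff {K L : FormalCoproduct.{u} C} (f g : K ⟶ L) :
    Presheaf.IsLocallySurjective J
        (prod.lift (FormalCoproduct.yoneda.map f) (FormalCoproduct.yoneda.map g)) ↔
      ∀ (W : C) (x y : Pt L W), pairSieve f g x y ∈ J W := by
  let Y := FormalCoproduct.yoneda.obj L
  have hP : ∀ W : C, IsLimit (BinaryFan.mk
      ((prod.fst : Y ⨯ Y ⟶ Y).app (op W)) ((prod.snd : Y ⨯ Y ⟶ Y).app (op W))) := fun W =>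
    mapIsLimitOfPreservesOfIsLimit ((evaluation Cᵒᵖ (Type u)).obj (op W)) _ _ (prodIsProd Y Y)
  have hext : ∀ (W : C) (s t : (Y ⨯ Y).obj (op W)),
      (prod.fst : Y ⨯ Y ⟶ Y).app (op W) s = (prod.fst : Y ⨯ Y ⟶ Y).app (op W) t →
      (prod.snd : Y ⨯ Y ⟶ Y).app (op W) s = (prod.snd : Y ⨯ Y ⟶ Y).app (op W) t → s = t := by
    intro W s t h1 h2
    apply (Types.isLimitEquivSections (hP W)).injective
    refine Subtype.ext (funext fun ⟨j⟩ => ?_)
    cases j
    · exact h1
    · exact h2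
  have hex : ∀ (W : C) (x y : Pt L W), ∃ s : (Y ⨯ Y).obj (op W),
      (prod.fst : Y ⨯ Y ⟶ Y).app (op W) s = ptElem L W x ∧
        (prod.snd : Y ⨯ Y ⟶ Y).app (op W) s = ptElem L W y := by
    intro W x y
    refine ⟨(hP W).lift (BinaryFan.mk (↾fun _ : PUnit.{u + 1} => ptElem L W x)
      (↾fun _ : PUnit.{u + 1} => ptElem L W y)) PUnit.unit, ?_, ?_⟩
    · exact ConcreteCategory.congr_hom ((hP W).fac (BinaryFan.mk (↾fun _ : PUnit.{u + 1} => ptElem L W x)
        (↾fun _ : PUnit.{u + 1} => ptElem L W y)) ⟨WalkingPair.left⟩) PUnit.unit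
    · exact ConcreteCategory.congr_hom ((hP W).fac (BinaryFan.mk (↾fun _ : PUnit.{u + 1} => ptElem L W x)
        (↾fun _ : PUnit.{u + 1} => ptElem L W y)) ⟨WalkingPair.right⟩) PUnit.unit
  have hf := prod.lift_fst (FormalCoproduct.yoneda.map f) (FormalCoproduct.yoneda.map g)
  have hg := prod.lift_snd (FormalCoproduct.yoneda.map f) (FormalCoproduct.yoneda.map g)
  have key : ∀ (W : C) (s : (Y ⨯ Y).obj (op W)) (x y : Pt L W),
      (prod.fst : Y ⨯ Y ⟶ Y).app (op W) s = ptElem L W x →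
      (prod.snd : Y ⨯ Y ⟶ Y).app (op W) s = ptElem L W y →
      Presheaf.imageSieve (prod.lift (FormalCoproduct.yoneda.map f) (FormalCoproduct.yoneda.map g)) s =
        pairSieve f g x y := by
    intro W s x y h1 h2
    refine Sieve.ext fun V v => ⟨?_, ?_⟩
    · rintro ⟨t, ht⟩
      obtain ⟨b, rfl⟩ := (ptElem_bijective K V).2 t
      refine ⟨b, (ptElem_bijective L V).1 ?_, (ptElem_bijective L V).1 ?_⟩
      · rw [← ptElem_map, ← ptElem_restrict, ← h1, ← NatTrans.naturality_apply, ← ht]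
        exact (ConcreteCategory.congr_hom (congr_app hf (op V)) _).symm
      · rw [← ptElem_map, ← ptElem_restrict, ← h2, ← NatTrans.naturality_apply, ← ht]
        exact (ConcreteCategory.congr_hom (congr_app hg (op V)) _).symm
    · rintro ⟨b, hb, hb'⟩
      refine ⟨ptElem K V b, hext V _ _ ?_ ?_⟩
      · refine (ConcreteCategory.congr_hom (congr_app hf (op V)) _).trans ?_
        rw [ptElem_map, hb, ← ptElem_restrict, ← h1, ← NatTrans.naturality_apply]
      · refine (ConcreteCategory.congr_hom (congr_app hg (op V)) _).trans ?_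
        rw [ptElem_map, hb', ← ptElem_restrict, ← h2, ← NatTrans.naturality_apply]
  refine ⟨fun h W x y => ?_, fun h => ⟨fun {W} s => ?_⟩⟩
  · obtain ⟨s, h1, h2⟩ := hex W x y
    exact key W s x y h1 h2 ▸ h.imageSieve_mem s
  · obtain ⟨x, hx⟩ := (ptElem_bijective L W).2 ((prod.fst : Y ⨯ Y ⟶ Y).app (op W) s)
    obtain ⟨y, hy⟩ := (ptElem_bijective L W).2 ((prod.snd : Y ⨯ Y ⟶ Y).app (op W) s)
    exact key W s x y hx.symm hy.symm ▸ h W x y

end Groth.HyperLib
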