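import Groth.Agent.HTopHyper.Hyper.LocLift
import Mathlib.Algebra.Category.Grp.Adjunctions
import Mathlib.Algebra.FreeAbelianGroup.Finsupp
import Mathlib.AlgebraicTopology.AlternatingFaceMapComplex
import Mathlib.AlgebraicTopology.SimplicialObject.ChainHomotopy
import Mathlib.AlgebraicTopology.SimplicialSet.Homotopy

/-!
Chains of a locally trivial fibration of simplicial presheaves.
-/

set_option autoImplicit false
set_option backward.isDefEq.respectTransparency false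

universe u

open CategoryTheory Opposite Simplicial MonoidalCategory AlgebraicTopology

namespace Groth.HyperLib

/-- chains -/
abbrev Chn (X : SSet.{u}) (n : ℕ) : Type u := FreeAbelianGroup (X _⦋n⦌ : Type u)

/-- boundary -/
noncomputable def bd (X : SSet.{u}) (n : ℕ) : Chn X (n + 1) →+ Chn X n :=
  ∑ i : Fin (n + 2), (-1 : ℤ) ^ (i : ℕ) • FreeAbelianGroup.map (X.δ i)

lemma bd_apply (X : SSet.{u}) (n : ℕ) (c : Chn X (n + 1)) :
    bd X n c = ∑ i : Fin (n + 2), (-1 : ℤ) ^ (i : ℕ) • FreeAbelianGroup.map (X.δ i) c := by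
  simp [bd, AddMonoidHom.finsetSum_apply]

/-- cycles -/
def IsCyc (X : SSet.{u}) : ∀ {m : ℕ}, Chn X m → Prop
  | 0, _ => True
  | n + 1, c => bd X n c = 0

lemma fmap_comp {α β γ : Type u} (g : β → γ) (f : α → β) (x : FreeAbelianGroup α) :
    FreeAbelianGroup.map g (FreeAbelianGroup.map f x) = FreeAbelianGroup.map (g ∘ f) x :=
  (FreeAbelianGroup.map_comp_apply x).symm

/-- levelwise maps commuting with faces commute with boundaries -/
lemma map_bd {X Y : SSet.{u}} {n : ℕ} (a : (X _⦋n + 1⦌ : Type u) → (Y _⦋n + 1⦌ : Type u))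
    (b : (X _⦋n⦌ : Type u) → (Y _⦋n⦌ : Type u)) (h : ∀ i t, b (X.δ i t) = Y.δ i (a t))
    (c : Chn X (n + 1)) :
    FreeAbelianGroup.map b (bd X n c) = bd Y n (FreeAbelianGroup.map a c) := by
  rw [bd_apply, bd_apply, map_sum]
  refine Finset.sum_congr rfl fun i _ => ?_
  rw [map_zsmul, fmap_comp, fmap_comp]
  exact congrArg (fun f => (-1 : ℤ) ^ (i : ℕ) • FreeAbelianGroup.map f c) (funext (h i))

lemma map_bd_app {X Y : SSet.{u}} (f : X ⟶ Y) {n : ℕ} (c : Chn X (n + 1)) :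
    FreeAbelianGroup.map (f.app (op ⦋n⦌)) (bd X n c) =
      bd Y n (FreeAbelianGroup.map (f.app (op ⦋n + 1⦌)) c) :=
  map_bd _ _ (fun i t => SSet.δ_naturality_apply f i t) c

lemma map_map_app {X Y Z : SSet.{u}} (f : X ⟶ Y) (g : Y ⟶ Z) {n : ℕ} (c : Chn X n) :
    FreeAbelianGroup.map (g.app (op ⦋n⦌)) (FreeAbelianGroup.map (f.app (op ⦋n⦌)) c) =
      FreeAbelianGroup.map ((f ≫ g).app (op ⦋n⦌)) c :=
  fmap_comp _ _ c

lemma map_injective {α β : Type u} {f : α → β} (hf : Function.Injective f) :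
    Function.Injective (FreeAbelianGroup.map f) := by
  cases isEmpty_or_nonempty α
  · intro x y _
    exact Subsingleton.elim x y
  · refine Function.LeftInverse.injective (g := FreeAbelianGroup.map (Function.invFun f)) fun x => ?_
    rw [fmap_comp, Function.invFun_comp hf, FreeAbelianGroup.map_id_apply]

/-- finite support -/
lemma exists_finite_support {α : Type u} (c : FreeAbelianGroup α) :
    ∃ G : Set α, G.Finite ∧ ∀ {β : Type u} (f : β → α), G ⊆ Set.range f →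
      ∃ c', FreeAbelianGroup.map f c' = c := by
  induction c using FreeAbelianGroup.induction_on with
  | zero => exact ⟨∅, Set.finite_empty, fun _ _ => ⟨0, map_zero _⟩⟩
  | of a =>
    refine ⟨{a}, Set.finite_singleton a, fun f hf => ?_⟩
    obtain ⟨b, hb⟩ := hf rfl
    exact ⟨FreeAbelianGroup.of b, by rw [FreeAbelianGroup.map_of_apply, hb]⟩
  | neg a h =>
    obtain ⟨G, hG, hc⟩ := h
    exact ⟨G, hG, fun f hf => let ⟨c', h'⟩ := hc f hf; ⟨-c', by rw [map_neg, h']⟩⟩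
  | add a b ha hb =>
    obtain ⟨G, hG, hc⟩ := ha
    obtain ⟨G', hG', hc'⟩ := hb
    refine ⟨G ∪ G', hG.union hG', fun f hf => ?_⟩
    obtain ⟨a', rfl⟩ := hc f (Set.subset_union_left.trans hf)
    obtain ⟨b', rfl⟩ := hc' f (Set.subset_union_right.trans hf)
    exact ⟨a' + b', map_add _ _ _⟩

instance finite_simplexHom (a b : SimplexCategory) : Finite (a ⟶ b) :=
  Finite.of_injective (fun f => (f.toOrderHom : Fin (a.len + 1) → Fin (b.len + 1)))
    fun f g h => SimplexCategory.Hom.ext _ _ (OrderHom.ext _ _ h)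

/-- the simplicial subset generated by a set of simplices -/
def genSub (X : SSet.{u}) (G : Set (Σ n : ℕ, (X _⦋n⦌ : Type u))) : X.Subcomplex where
  obj k := {y | ∃ z ∈ G, ∃ α : k.unop ⟶ ⦋z.1⦌, X.map α.op z.2 = y}
  map := by
    rintro k k' φ y ⟨z, hz, α, rfl⟩
    refine ⟨z, hz, φ.unop ≫ α, ?_⟩
    rw [op_comp, Functor.map_comp_apply]
    rfl

lemma mem_genSub {X : SSet.{u}} {G : Set (Σ n : ℕ, (X _⦋n⦌ : Type u))} {n : ℕ}
    {x : (X _⦋n⦌ : Type u)} (hx : (⟨n, x⟩ : Σ n : ℕ, (X _⦋n⦌ : Type u)) ∈ G) :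
    x ∈ (genSub X G).obj (op ⦋n⦌) :=
  ⟨⟨n, x⟩, hx, 𝟙 _, Functor.map_id_apply X (X := op ⦋n⦌) x⟩

lemma finite_genSub {X : SSet.{u}} {G : Set (Σ n : ℕ, (X _⦋n⦌ : Type u))} (hG : G.Finite) (k : ℕ) :
    Finite ((genSub X G).toSSet _⦋k⦌) := by
  have : Finite G := hG.to_subtype
  exact Finite.of_surjective
    (fun p : (Σ z : G, (⦋k⦌ ⟶ ⦋z.1.1⦌)) =>
      (⟨X.map p.2.op p.1.1.2, p.1.1, p.1.2, p.2, rfl⟩ : (genSub X G).toSSet _⦋k⦌))
    fun ⟨y, z, hz, α, h⟩ => ⟨⟨⟨z, hz⟩, α⟩, Subtype.ext h⟩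

/-- the prism -/
theorem exists_bd_eq (S : SSet.{u}) {m : ℕ} (c : Chn S m) (hc : IsCyc S c) :
    ∃ b : Chn (S ⊗ Δ[1]) (m + 1),
      FreeAbelianGroup.map ((SSet.ι₀ (X := S)).app (op ⦋m⦌)) c =
        bd _ m b + FreeAbelianGroup.map ((SSet.ι₁ (X := S)).app (op ⦋m⦌)) c := by
  let H : SSet.Homotopy (SSet.ι₀ (X := S)) SSet.ι₁ :=
    { h := 𝟙 _
      h₀ := Category.comp_id _
      h₁ := Category.comp_id _
      rel := by ext k ⟨⟨x, hx⟩, y⟩ <;> exact hx.elim }
  let Hc := SimplicialObject.Homotopy.toChainHomotopy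
    (H.toSimplicialObjectHomotopy.whiskerRight AddCommGrpCat.free.{u})
  have hbd : ∀ (Y : SSet.{u}) (n : ℕ) (z : Chn Y (n + 1)),
      ((alternatingFaceMapComplex _).obj
        (((SimplicialObject.whiskering _ _).obj AddCommGrpCat.free.{u}).obj Y)).d (n + 1) n z =
        bd Y n z := by
    intro Y n z
    rw [alternatingFaceMapComplex_obj_d]
    rw [bd_apply]
    let evz : (AddCommGrpCat.free.{u}.obj (Y _⦋n + 1⦌) ⟶ AddCommGrpCat.free.{u}.obj (Y _⦋n⦌)) →+ Chn Y n :=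
      AddMonoidHom.mk' (fun f => f z) fun _ _ => rfl
    change evz _ = _
    rw [AlternatingFaceMapComplex.objD, map_sum]
    exact Finset.sum_congr rfl fun i _ => map_zsmul evz _ _
  refine ⟨Hc.hom m (m + 1) c, ?_⟩
  have h := ConcreteCategory.congr_hom (Hc.comm m) c
  rw [prevD_eq _ (show (ComplexShape.down ℕ).Rel (m + 1) m from rfl)] at h
  rcases m with - | m
  · rw [Homotopy.dNext_zero_chainComplex, zero_add] at h
    refine h.trans ?_
    rw [← hbd]
    rfl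
  · rw [dNext_eq _ (show (ComplexShape.down ℕ).Rel (m + 1) m from rfl)] at h
    refine h.trans ?_
    rw [← hbd]
    change Hc.hom m (m + 1) (_ : _) + _ + _ = _
    have h0 : ((alternatingFaceMapComplex _).obj
      (((SimplicialObject.whiskering _ _).obj AddCommGrpCat.free.{u}).obj S)).d (m + 1) m c = 0 :=
        (hbd S m c).trans hc
    erw [h0, map_zero, zero_add]
    rfl

variable {C : Type u} [SmallCategory C] {J : GrothendieckTopology C}
  {K L : SimplicialObject (Cᵒᵖ ⥤ Type u)} {v : K ⟶ L}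

lemma ι₀_ne_ι₁ (S : SSet.{u}) {k : ℕ} (a b : (S _⦋k⦌ : Type u)) :
    (SSet.ι₀ (X := S)).app (op ⦋k⦌) a ≠ (SSet.ι₁ (X := S)).app (op ⦋k⦌) b := by
  intro h
  have h1 := congrArg (fun z => (Prod.snd z : (Δ[1] _⦋k⦌ : Type u))) h
  have h2 := congrArg (fun z : (Δ[1] _⦋k⦌ : Type u) => z (0 : Fin (k + 1))) h1
  simp at h2

/-- relative homology of a locally trivial fibration vanishes locally -/
theorem IsTrivFib.exists_chain_bd_eq (hv : IsTrivFib J v) {W : C} {m : ℕ} (c : Chn (sec K W) m)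
    (hc : IsCyc _ c) (e : Chn (sec L W) (m + 1))
    (he : FreeAbelianGroup.map ((secMap v W).app (op ⦋m⦌)) c = bd _ m e) :
    Loc J W fun V r => ∃ a : Chn (sec K V) (m + 1),
      bd _ m a = FreeAbelianGroup.map ((res K r).app (op ⦋m⦌)) c := by
  obtain ⟨GK, hGKf, hGK⟩ := exists_finite_support c
  obtain ⟨GL, hGLf, hGL⟩ := exists_finite_support e
  let GS : Set (Σ n : ℕ, ((sec K W) _⦋n⦌ : Type u)) := (fun x => ⟨m, x⟩) '' GK
  let GT : Set (Σ n : ℕ, ((sec L W) _⦋n⦌ : Type u)) :=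
    (fun z => ⟨z.1, (secMap v W).app _ z.2⟩) '' GS ∪ (fun x => ⟨m + 1, x⟩) '' GL
  have hGSf : GS.Finite := hGKf.image _
  have hGTf : GT.Finite := (hGSf.image _).union (hGLf.image _)
  let S := genSub (sec K W) GS
  let T := genSub (sec L W) GT
  have hmap : ∀ k y, y ∈ S.obj k → (secMap v W).app k y ∈ T.obj k := by
    rintro k y ⟨z, hz, α, rfl⟩
    exact ⟨⟨z.1, (secMap v W).app _ z.2⟩, Or.inl ⟨z, hz, rfl⟩, α,
      (NatTrans.naturality_apply (secMap v W) α.op z.2).symm⟩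
  let w : S.toSSet ⟶ T.toSSet := Subfunctor.lift (S.ι ≫ secMap v W) (by
    rintro k _ ⟨⟨y, hy⟩, rfl⟩
    exact hmap k y hy)
  have hw : w ≫ T.ι = S.ι ≫ secMap v W := rfl
  obtain ⟨c', hc'⟩ := hGK (S.ι.app (op ⦋m⦌)) fun x hx =>
    ⟨⟨x, mem_genSub (Set.mem_image_of_mem _ hx)⟩, rfl⟩
  obtain ⟨e', he'⟩ := hGL (T.ι.app (op ⦋m + 1⦌)) fun x hx =>
    ⟨⟨x, mem_genSub (Or.inr (Set.mem_image_of_mem _ hx))⟩, rfl⟩
  have hSinj : ∀ k, Function.Injective (S.ι.app (op ⦋k⦌)) := fun _ => Subtype.val_injective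
  have hTinj : ∀ k, Function.Injective (T.ι.app (op ⦋k⦌)) := fun _ => Subtype.val_injective
  have hc'cyc : IsCyc S.toSSet c' := by
    rcases m with - | m
    · trivial
    · exact map_injective (hSinj m) (by
        rw [map_bd_app, hc', map_zero]
        exact hc)
  have hwc : FreeAbelianGroup.map (w.app (op ⦋m⦌)) c' = bd _ m e' := by
    apply map_injective (hTinj m)
    rw [map_map_app, hw, ← map_map_app, hc', he, map_bd_app, he']
  obtain ⟨b, hb⟩ := exists_bd_eq S.toSSet c' hc'cyc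
  -- a section on the target
  refine (hv.exists_lift T.toSSet (finite_genSub hGTf) T.ι (fun _ => ∅)
    (fun _ _ _ h => h.elim) (fun _ _ h => h.elim) (fun _ _ h => h.elim) (fun _ _ _ h => h.elim)
    (m + 2)).bind fun V r hs => ?_
  obtain ⟨s, hsv, -, hsδ⟩ := hs
  -- lifting the prism
  let fv : S.toSSet ⊗ Δ[1] ⟶ sec L V :=
    CartesianMonoidalCategory.fst _ _ ≫ S.ι ≫ secMap v W ≫ res L r
  let T0 : ∀ k, Set ((S.toSSet ⊗ Δ[1]) _⦋k⦌ : Type u) := fun k =>
    {t | ∃ x, (SSet.ι₀.app (op ⦋k⦌) x = t) ∨ (k < m + 2 ∧ SSet.ι₁.app (op ⦋k⦌) x = t)}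
  have hT0 : ∀ k i (t : ((S.toSSet ⊗ Δ[1]) _⦋k + 1⦌ : Type u)), t ∈ T0 (k + 1) →
      (S.toSSet ⊗ Δ[1]).δ i t ∈ T0 k := by
    rintro k i t ⟨x, rfl | ⟨hk, rfl⟩⟩
    · exact ⟨S.toSSet.δ i x, Or.inl (SSet.δ_naturality_apply _ i x)⟩
    · exact ⟨S.toSSet.δ i x, Or.inr ⟨by omega, SSet.δ_naturality_apply _ i x⟩⟩
  have hg : ∀ k (t : ((S.toSSet ⊗ Δ[1]) _⦋k⦌ : Type u)), t ∈ T0 k →
      ∃ y : ((sec K V) _⦋k⦌ : Type u),
        (∀ x, SSet.ι₀.app (op ⦋k⦌) x = t → y = (res K r).app _ (S.ι.app _ x)) ∧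
        (∀ (hk : k < m + 2) x, SSet.ι₁.app (op ⦋k⦌) x = t → y = s k hk (w.app _ x)) := by
    rintro k t ⟨x, rfl | ⟨hk, rfl⟩⟩
    · refine ⟨(res K r).app _ (S.ι.app _ x), fun x' hx' => ?_, fun _ x' hx' => ?_⟩
      · rw [show x = x' from (congrArg Prod.fst hx').symm]
      · exact absurd hx'.symm (ι₀_ne_ι₁ _ _ _)
    · refine ⟨s k hk (w.app _ x), fun x' hx' => absurd hx' (ι₀_ne_ι₁ _ _ _), fun _ x' hx' => ?_⟩
      rw [show x = x' from (congrArg Prod.fst hx').symm]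
  choose g0 hg0a hg0b using hg
  refine (hv.exists_lift (S.toSSet ⊗ Δ[1]) ?_ fv T0 hT0 g0 ?_ ?_ (m + 2)).mono fun U h hg => ?_
  · intro k
    have := finite_genSub hGSf k
    have : Finite (Δ[1] _⦋k⦌ : Type u) := Finite.of_equiv _ SSet.stdSimplex.objEquiv.symm
    exact inferInstanceAs (Finite ((S.toSSet _⦋k⦌ : Type u) × (Δ[1] _⦋k⦌ : Type u)))
  · rintro k t ht
    obtain ⟨x, rfl | ⟨hk, rfl⟩⟩ := id ht
    · rw [hg0a k _ ht x rfl, secMap_res]
      rfl
    · rw [hg0b k _ ht hk x rfl, hsv]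
      rfl
  · rintro k i t ht
    obtain ⟨x, rfl | ⟨hk, rfl⟩⟩ := id ht
    · rw [hg0a k _ _ (S.toSSet.δ i x) (SSet.δ_naturality_apply SSet.ι₀ i x), hg0a _ _ ht x rfl,
        ← SSet.δ_naturality_apply, ← SSet.δ_naturality_apply]
    · rw [hg0b k _ _ (by omega) (S.toSSet.δ i x) (SSet.δ_naturality_apply SSet.ι₁ i x),
        hg0b _ _ ht hk x rfl, ← hsδ k hk i]
      congr 1
      exact SSet.δ_naturality_apply _ i x
  obtain ⟨g, -, hg0, hgδ⟩ := hg
  refine ⟨FreeAbelianGroup.map (g (m + 1) (by omega)) b +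
    FreeAbelianGroup.map (fun t => (res K h).app _ (s (m + 1) (by omega) t)) e', ?_⟩
  rw [map_add, ← map_bd _ (g m (by omega)) (hgδ m (by omega)),
    ← map_bd (fun t => (res K h).app _ (s (m + 1) (by omega) t))
      (fun t => (res K h).app _ (s m (by omega) t))
      (fun i t => by rw [hsδ m (by omega) i t, SSet.δ_naturality_apply]), ← hwc, fmap_comp]
  rw [← hc', map_map_app]
  have e0 := congrArg (FreeAbelianGroup.map (g m (by omega))) hb
  rw [map_add, fmap_comp, fmap_comp] at e0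
  convert e0.symm using 2
  · refine congrArg (fun f => FreeAbelianGroup.map f c') (funext fun x => ?_)
    exact ((hg0 m (by omega) _ ⟨x, Or.inr ⟨by omega, rfl⟩⟩).trans
      (congrArg _ (hg0b m _ ⟨x, Or.inr ⟨by omega, rfl⟩⟩ (by omega) x rfl))).symm
  · refine congrArg FreeAbelianGroup.map (funext fun x => ?_)
    refine Eq.symm ((hg0 m (by omega) _ ⟨x, Or.inl rfl⟩).trans ?_)
    rw [hg0a m _ ⟨x, Or.inl rfl⟩ x rfl, ← res_comp]
    rfl

/-- cycles lift locally -/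
theorem IsTrivFib.exists_cycle_lift (hv : IsTrivFib J v) {W : C} {m : ℕ} (e : Chn (sec L W) m)
    (he : IsCyc _ e) :
    Loc J W fun V r => ∃ a : Chn (sec K V) m, IsCyc _ a ∧
      FreeAbelianGroup.map ((secMap v V).app (op ⦋m⦌)) a =
        FreeAbelianGroup.map ((res L r).app (op ⦋m⦌)) e := by
  obtain ⟨GL, hGLf, hGL⟩ := exists_finite_support e
  let GT : Set (Σ n : ℕ, ((sec L W) _⦋n⦌ : Type u)) := (fun x => ⟨m, x⟩) '' GL
  have hGTf : GT.Finite := hGLf.image _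
  let T := genSub (sec L W) GT
  obtain ⟨e', he'⟩ := hGL (T.ι.app (op ⦋m⦌)) fun x hx =>
    ⟨⟨x, mem_genSub (Set.mem_image_of_mem _ hx)⟩, rfl⟩
  refine (hv.exists_lift T.toSSet (finite_genSub hGTf) T.ι (fun _ => ∅)
    (fun _ _ _ h => h.elim) (fun _ _ h => h.elim) (fun _ _ h => h.elim) (fun _ _ _ h => h.elim)
    (m + 1)).mono fun V r hs => ?_
  obtain ⟨s, hsv, -, hsδ⟩ := hs
  refine ⟨FreeAbelianGroup.map (s m (by omega)) e', ?_, ?_⟩
  · rcases m with - | m
    · trivial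
    · change bd _ m _ = 0
      have h0 : bd T.toSSet m e' = 0 :=
        map_injective (f := T.ι.app (op ⦋m⦌)) Subtype.val_injective (by
          rw [map_bd_app, he', map_zero]
          exact he)
      rw [← map_bd _ (s m (by omega)) (hsδ m (by omega)), h0, map_zero]
  · rw [fmap_comp, ← he', fmap_comp]
    refine congrArg (fun f => FreeAbelianGroup.map f e') (funext fun x => ?_)
    exact hsv m _ x

end Groth.HyperLib
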