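import Groth.Agent.HTopHyper.Hyper.TrivFibQis
import Groth.Agent.HTopHyper.Hyper.Cosk
import Mathlib.CategoryTheory.Limits.FunctorCategory.Basic
import Mathlib.CategoryTheory.Sites.LeftExact

/-!
A morphism of coskeletal simplicial presheaves that is bijective below `n` and locally surjective at
`n` is a locally trivial fibration.
-/

set_option autoImplicit false
set_option backward.isDefEq.respectTransparency false

universe v u

open CategoryTheory CategoryTheory.Limits Opposite Simplicial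

namespace Groth.HyperLib

/-- simplices are determined by compatible families of simplices of dimension at most `n` -/
def IsCoskType (n : ℕ) (X : SSet.{u}) : Prop :=
  ∀ (m : SimplexCategory)
    (fam : ∀ (l : SimplexCategory) (_ : l.len ≤ n) (_ : l ⟶ m), (X.obj (op l) : Type u)),
    (∀ (l l' : SimplexCategory) (hl : l.len ≤ n) (hl' : l'.len ≤ n) (φ : l' ⟶ l) (θ : l ⟶ m),
      X.map φ.op (fam l hl θ) = fam l' hl' (φ ≫ θ)) →
    ∃! y : (X.obj (op m) : Type u), ∀ l hl θ, X.map θ.op y = fam l hl θ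

/-- a coskeletal simplicial object seen through a corepresentable functor -/
theorem isCoskType_of_isIso_unit {E : Type*} [Category.{u} E] [HasFiniteLimits E] {n : ℕ}
    [∀ (F : (SimplexCategory.Truncated n)ᵒᵖ ⥤ E),
      (SimplexCategory.Truncated.inclusion n).op.HasRightKanExtension F]
    (X : SimplicialObject E) (hX : IsIso ((SimplicialObject.coskAdj n).unit.app X))
    (G : E ⥤ Type u) (R : E) (e : ∀ A, (R ⟶ A) ≃ (G.obj A : Type u))
    (he : ∀ {A B : E} (a : R ⟶ A) (f : A ⟶ B), e B (a ≫ f) = G.map f (e A a)) :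
    IsCoskType n (X ⋙ G) := by
  intro m fam hfam
  let u := ((SimplicialObject.coskAdj n).unit.app X).app (op m)
  obtain ⟨a, ha, hau⟩ := existsUnique_lift X m (fun l hl θ => (e _).symm (fam l hl θ))
    (fun l l' hl hl' φ θ => (e _).injective (by
      rw [he, Equiv.apply_symm_apply, Equiv.apply_symm_apply]
      exact hfam l l' hl hl' φ θ))
  refine ⟨e _ (a ≫ inv u), fun l hl θ => ?_, fun y hy => ?_⟩
  · refine (he _ _).symm.trans ((Equiv.eq_symm_apply _).1 ?_)
    rw [← ha l hl θ, ← unit_leg X hl θ, Category.assoc, IsIso.inv_hom_id_assoc]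
  · refine (Equiv.symm_apply_eq _).1 ?_
    rw [IsIso.eq_comp_inv]
    refine hau _ fun l hl θ => (e _).injective ?_
    rw [Category.assoc, unit_leg, he]
    erw [Equiv.apply_symm_apply, Equiv.apply_symm_apply]
    exact hy l hl θ

variable {C : Type u} [SmallCategory C] {J : GrothendieckTopology C}
  {K L : SimplicialObject (Cᵒᵖ ⥤ Type u)} {v : K ⟶ L}

theorem isTrivFib_of_coskeletal (n : ℕ)
    (h1 : ∀ p : ℕ, p < n → ∀ W, Function.Bijective ((secMap v W).app (op ⦋p⦌)))
    (h2 : Presheaf.IsLocallySurjective J (v.app (op ⦋n⦌)))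
    (hK : ∀ W, IsCoskType n (sec K W)) (hL : ∀ W, IsCoskType n (sec L W)) : IsTrivFib J v where
  lift0 W ℓ := by
    rcases Nat.eq_zero_or_pos n with rfl | hn
    · exact ⟨_, h2.imageSieve_mem ℓ, fun V g ⟨y, hy⟩ => ⟨y, hy⟩⟩
    · exact Loc.pure fun V g => (h1 0 hn V).2 _
  lift W k ℓ x hx hxv := by
    have hinj : k < n → ∀ (V : C) (g : V ⟶ W) (y : ((sec K V) _⦋k + 1⦌ : Type u)),
        (secMap v V).app _ y = (res L g).app _ ℓ → ∀ i, (sec K V).δ i y = (res K g).app _ (x i) := by
      intro hk V g y hy i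
      refine (h1 k hk V).1 ?_
      rw [SSet.δ_naturality_apply, hy, secMap_res, hxv, ← SSet.δ_naturality_apply]
    rcases lt_trichotomy (k + 1) n with hk | hk | hk
    · refine Loc.pure fun V g => ?_
      obtain ⟨y, hy⟩ := (h1 (k + 1) hk V).2 ((res L g).app _ ℓ)
      exact ⟨y, hy, hinj (by omega) V g y hy⟩
    · subst hk
      exact ⟨_, h2.imageSieve_mem ℓ, fun V g ⟨y, hy⟩ => ⟨y, hy, hinj (by omega) V g y hy⟩⟩
    · have hnk : n ≤ k := by omega
      obtain ⟨fam, hfam, hfx⟩ := exists_fam x hx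
      obtain ⟨y, hy, -⟩ := hK W ⦋k + 1⦌ (fun l hl θ => fam l (hl.trans hnk) θ)
        (fun l l' hl hl' φ θ => hfam l l' _ _ φ θ)
      have hyδ : ∀ i, (sec K W).δ i y = x i := by
        intro i
        obtain ⟨z, -, hz⟩ := hK W ⦋k⦌ (fun l hl θ => fam l (hl.trans hnk) (θ ≫ SimplexCategory.δ i))
          (fun l l' hl hl' φ θ => by rw [hfam l l' _ (hl'.trans hnk), Category.assoc])
        rw [hz ((sec K W).δ i y) fun l hl θ => ?_, hz (x i) fun l hl θ => ?_]
        · rw [← hfx i, hfam]
        · rw [← hy l hl, SimplicialObject.δ, ← Functor.map_comp_apply, ← op_comp]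
      have hyv : (secMap v W).app _ y = ℓ := by
        obtain ⟨z, -, hz⟩ := hL W ⦋k + 1⦌ (fun l hl θ => (sec L W).map θ.op ℓ)
          (fun l l' hl hl' φ θ => by rw [op_comp, Functor.map_comp_apply])
        rw [hz ((secMap v W).app _ y) fun l hl θ => ?_, hz ℓ fun l hl θ => rfl]
        rw [← NatTrans.naturality_apply, hy l hl]
        obtain ⟨i, a, rfl⟩ := SimplexCategory.eq_comp_δ_of_not_surjective θ fun hs => by
          have := Fintype.card_le_of_surjective _ hs
          simp at this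
          omega
        rw [← hfam ⦋k⦌ l le_rfl (hl.trans hnk) a, hfx, NatTrans.naturality_apply, hxv, op_comp,
          Functor.map_comp_apply]
        rfl
      refine Loc.pure fun V g => ⟨(res K g).app _ y, ?_, fun i => ?_⟩
      · rw [secMap_res, hyv]
      · rw [← SSet.δ_naturality_apply, hyδ]

end Groth.HyperLib

namespace Groth.HyperLib

variable {C : Type u} [SmallCategory C] {J : GrothendieckTopology C}

/-- a locally trivial fibration is locally surjective in every degree -/
theorem IsTrivFib.isLocallySurjective_app {K L : SimplicialObject (Cᵒᵖ ⥤ Type u)} {v : K ⟶ L}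
    (hv : IsTrivFib J v) (p : ℕ) : Presheaf.IsLocallySurjective J (v.app (op ⦋p⦌)) := by
  constructor
  intro W ℓ
  let G : Set (Σ n : ℕ, ((sec L W) _⦋n⦌ : Type u)) := {⟨p, ℓ⟩}
  let T := genSub (sec L W) G
  obtain ⟨R, hR, hR'⟩ := hv.exists_lift T.toSSet (finite_genSub (Set.finite_singleton _)) T.ι
    (fun _ => ∅) (fun _ _ _ h => h.elim) (fun _ _ h => h.elim) (fun _ _ h => h.elim)
    (fun _ _ _ h => h.elim) (p + 1)
  refine J.superset_covering (fun V g hg => ?_) hR
  obtain ⟨s, hsv, -⟩ := hR' g hg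
  exact ⟨s p (by omega) ⟨ℓ, mem_genSub rfl⟩, hsv p (by omega) ⟨ℓ, mem_genSub rfl⟩⟩

/-- bijectivity on sections of an isomorphism -/
theorem bijective_secMap {K L : SimplicialObject (Cᵒᵖ ⥤ Type u)} (v : K ⟶ L) {p : ℕ}
    (h : IsIso (v.app (op ⦋p⦌))) (W : C) :
    Function.Bijective ((secMap v W).app (op ⦋p⦌)) :=
  (isIso_iff_bijective _).1 (inferInstanceAs (IsIso ((v.app (op ⦋p⦌)).app (op W))))

theorem isCoskType_presheaf {n : ℕ}
    [∀ (F : (SimplexCategory.Truncated n)ᵒᵖ ⥤ (Cᵒᵖ ⥤ Type u)),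
      (SimplexCategory.Truncated.inclusion n).op.HasRightKanExtension F]
    (X : SimplicialObject (Cᵒᵖ ⥤ Type u)) (hX : IsIso ((SimplicialObject.coskAdj n).unit.app X))
    (W : C) : IsCoskType n (sec X W) :=
  isCoskType_of_isIso_unit X hX ((evaluation Cᵒᵖ (Type u)).obj (op W)) (yoneda.obj W)
    (fun _ => yonedaEquiv) fun a f => yonedaEquiv_comp a f

theorem isCoskType_sheaf {n : ℕ}
    [∀ (F : (SimplexCategory.Truncated n)ᵒᵖ ⥤ Sheaf J (Type u)),
      (SimplexCategory.Truncated.inclusion n).op.HasRightKanExtension F]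
    (X : SimplicialObject (Sheaf J (Type u))) (hX : IsIso ((SimplicialObject.coskAdj n).unit.app X))
    (W : C) : IsCoskType n (sec (X ⋙ sheafToPresheaf J (Type u)) W) :=
  isCoskType_of_isIso_unit X hX (sheafToPresheaf J (Type u) ⋙ (evaluation Cᵒᵖ (Type u)).obj (op W))
    ((presheafToSheaf J (Type u)).obj (yoneda.obj W))
    (fun A => ((sheafificationAdjunction J (Type u)).homEquiv _ A).trans yonedaEquiv)
    fun a f => (congrArg yonedaEquiv ((sheafificationAdjunction J (Type u)).homEquiv_naturality_right a f)).trans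
      (yonedaEquiv_comp _ _)

end Groth.HyperLib
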