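import Groth.Agent.HTopHyper.Hyper.TrivFibQis
import Groth.Agent.HTopHyper.Hyper.Basic
import Mathlib.AlgebraicTopology.ExtraDegeneracy
import Mathlib.Algebra.Category.Grp.ZModuleEquivalence
import Mathlib.CategoryTheory.Sites.ConstantSheaf

/-!
Hypercoverings are locally trivial fibrations over the point; their free complexes resolve `ℤ`.
-/

set_option autoImplicit false
set_option backward.isDefEq.respectTransparency false

universe u

open CategoryTheory CategoryTheory.Limits Opposite Simplicial AlgebraicTopology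

namespace Groth.HyperLib

variable {C : Type u} [SmallCategory C] (J : GrothendieckTopology C)

/-- the one point presheaf -/
abbrev ptPresheaf : Cᵒᵖ ⥤ Type u := (Functor.const _).obj PUnit.{u + 1}

/-- the map to the point -/
def toPt (P : SimplicialObject (Cᵒᵖ ⥤ Type u)) :
    P ⟶ (SimplicialObject.const _).obj (ptPresheaf (C := C)) where
  app _ := { app := fun _ => ↾fun _ => PUnit.unit }

/-- simplices of points of a simplicial semi-representable object -/
abbrev ptSS (K : SimplicialObject (FormalCoproduct.{u} C)) (W : C) : SSet.{u} :=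
  K ⋙ coyoneda.obj (op ((FormalCoproduct.incl C).obj W))

/-- constant family tensored with a simplex -/
def tensPt (W : C) (m : SimplexCategory) : SimplicialObject (FormalCoproduct.{u} C) where
  obj k := ⟨ULift.{u} (k.unop ⟶ m), fun _ => W⟩
  map φ := ⟨fun a => ⟨φ.unop ≫ a.down⟩, fun _ => 𝟙 W⟩
  map_id k := FormalCoproduct.hom_ext (funext fun a => ULift.ext _ _ (Category.id_comp _))
    fun _ => by simp
  map_comp φ ψ := FormalCoproduct.hom_ext (funext fun a => ULift.ext _ _ (Category.assoc _ _ _))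
    fun _ => by simp

variable {J}

section Cosk

variable (K : SimplicialObject (FormalCoproduct.{u} C)) (n : ℕ)
  [∀ (F : (SimplexCategory.Truncated n)ᵒᵖ ⥤ FormalCoproduct.{u} C),
    (SimplexCategory.Truncated.inclusion n).op.HasRightKanExtension F]

/-- points of the coskeleton from compatible families -/
theorem exists_pt_cosk (W : C) (m : SimplexCategory)
    (fam : ∀ (l : SimplexCategory) (_ : l.len ≤ n) (_ : l ⟶ m), Pt (K.obj (op l)) W)
    (hfam : ∀ (l l' : SimplexCategory) (hl : l.len ≤ n) (hl' : l'.len ≤ n) (φ : l' ⟶ l) (θ : l ⟶ m),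
      fam l hl θ ≫ K.map φ.op = fam l' hl' (φ ≫ θ)) :
    ∃ q : Pt (((SimplicialObject.truncation n ⋙ SimplicialObject.Truncated.cosk n).obj K).obj (op m)) W,
      ∀ l hl θ, q ≫ leg K hl θ = fam l hl θ := by
  let Y := tensPt W m
  let t : (SimplicialObject.truncation n).obj Y ⟶ (SimplicialObject.truncation n).obj K :=
    { app := fun k => ⟨fun a => (fam k.unop.obj k.unop.property a.down).idx,
        fun a => (fam k.unop.obj k.unop.property a.down).hom⟩
      naturality := fun k k' φ => by
        have key : ∀ a, ∃ e : (fam k'.unop.obj k'.unop.property (φ.unop.hom ≫ a)).idx =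
            (K.map φ.unop.hom.op).f (fam k.unop.obj k.unop.property a).idx,
            (fam k'.unop.obj k'.unop.property (φ.unop.hom ≫ a)).hom ≫ eqToHom (congrArg _ e) =
              (fam k.unop.obj k.unop.property a).hom ≫ (K.map φ.unop.hom.op).φ _ := by
          intro a
          rw [← Pt.mk'_eq_iff, Pt.eta, ← Pt.mk'_comp, Pt.eta]
          exact (hfam k.unop.obj k'.unop.obj k.unop.property k'.unop.property φ.unop.hom a).symm
        refine FormalCoproduct.hom_ext (funext fun a => (key a.down).choose) fun a => ?_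
        refine Eq.trans ?_ (key a.down).choose_spec
        exact congrArg (· ≫ _) (Category.id_comp _) }
  let u := (SimplicialObject.coskAdj n).homEquiv _ _ t
  let p : Pt (Y.obj (op m)) W := Pt.mk' ⟨𝟙 m⟩ (𝟙 W)
  refine ⟨p ≫ u.app (op m), fun l hl θ => ?_⟩
  have h1 : u.app (op m) ≫ leg K hl θ = Y.map θ.op ≫ t.app (op ⟨l, hl⟩) := by
    have h2 := congr_app (((SimplicialObject.coskAdj n).homEquiv _ _).symm_apply_apply t) (op ⟨l, hl⟩)
    rw [Adjunction.homEquiv_counit] at h2
    rw [leg, ← Category.assoc]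
    erw [← u.naturality θ.op]
    rw [Category.assoc]
    exact congrArg _ h2
  rw [Category.assoc, h1, Pt.mk'_comp]
  conv_rhs => rw [← (fam l hl θ).eta]
  rw [Pt.mk'_eq_iff]
  have e : (θ ≫ 𝟙 m) = θ := Category.comp_id θ
  refine ⟨congrArg (fun a => (fam l hl a).idx) e, ?_⟩
  obtain ⟨e', he'⟩ := Pt.mk'_eq_iff.1
    ((fam l hl _).eta.trans ((congrArg (fam l hl) e).trans (fam l hl θ).eta.symm))
  rw [← he']
  simp [Y, tensPt]
  rfl

/-- lifting of boundaries from a covering comparison map -/
theorem loc_fill_of_isLocSurj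
    (h : IsLocSurj J (((SimplicialObject.coskAdj n).unit.app K).app (op ⦋n + 1⦌)))
    (W : C) (x : Fin (n + 2) → ((ptSS K W) _⦋n⦌ : Type u)) (hx : Coherent x) :
    Loc J W fun V g => ∃ b : Pt (K.obj (op ⦋n + 1⦌)) V,
      ∀ i, b ≫ K.δ i = (FormalCoproduct.incl C).map g ≫ x i := by
  obtain ⟨fam, hfam, hfx⟩ := exists_fam x hx
  obtain ⟨q, hq⟩ := exists_pt_cosk K n W ⦋n + 1⦌ fam hfam
  refine ⟨_, h W q, fun V g hg => ?_⟩
  obtain ⟨b, hb⟩ := hg
  refine ⟨b, fun i => ?_⟩
  rw [← hfx i, ← hq, ← Category.assoc, ← hb, Category.assoc]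
  congr 1
  exact (unit_leg K le_rfl (SimplexCategory.δ i)).symm

end Cosk

/-- the criterion for being a locally trivial fibration over the point -/
theorem isTrivFib_toPt (K : SimplicialObject (FormalCoproduct.{u} C))
    (h0 : ∀ W, ptSieve (K.obj (op ⦋0⦌)) W ∈ J W)
    (h : ∀ (k : ℕ) (W : C) (x : Fin (k + 2) → ((ptSS K W) _⦋k⦌ : Type u)), Coherent x →
      Loc J W fun V g => ∃ b : Pt (K.obj (op ⦋k + 1⦌)) V,
        ∀ i, b ≫ K.δ i = (FormalCoproduct.incl C).map g ≫ x i) :
    IsTrivFib J (toPt (K ⋙ FormalCoproduct.yoneda)) where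
  lift0 W ℓ := ⟨_, h0 W, fun V g ⟨b⟩ => ⟨ptElem _ V b, rfl⟩⟩
  lift W k ℓ x hx _ := by
    choose y hy using fun i => (ptElem_bijective (K.obj (op ⦋k⦌)) W).2 (x i)
    have hy' : Coherent (X := ptSS K W) y := by
      intro l a b i j e
      refine (ptElem_bijective _ W).1 ?_
      have := hx l a b i j e
      rw [← hy i, ← hy j] at this
      refine Eq.trans ?_ (this.trans ?_)
      · exact (ptElem_map _ W _).symm
      · exact ptElem_map _ W _
    refine (h k W y hy').mono fun V g ⟨b, hb⟩ => ⟨ptElem _ V b, rfl, fun i => ?_⟩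
    refine (ptElem_map (K.δ i) V b).trans ?_
    rw [hb, ← ptElem_restrict, hy]
    rfl

theorem isTrivFib_site (K : SimplicialObject (FormalCoproduct.{u} C))
    [∀ (n : ℕ) (F : (SimplexCategory.Truncated n)ᵒᵖ ⥤ FormalCoproduct.{u} C),
      (SimplexCategory.Truncated.inclusion n).op.HasRightKanExtension F]
    (hK : Hyper.IsHypercoveringSite J K) :
    IsTrivFib J (toPt (K ⋙ FormalCoproduct.yoneda)) := by
  refine isTrivFib_toPt K ((isLocallySurjective_terminal_iff J _).1 hK.1) fun k W x hx => ?_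
  rcases k with - | k
  · refine ⟨_, (isLocallySurjective_prod_iff J (K.δ (1 : Fin 2)) (K.δ (0 : Fin 2))).1 hK.2.1 W (x 1) (x 0),
      fun V g ⟨b, h1, h0⟩ => ⟨b, fun i => ?_⟩⟩
    fin_cases i
    · exact h0
    · exact h1
  · exact loc_fill_of_isLocSurj K (k + 1)
      ((isLocallySurjective_yoneda_iff J _).1 (hK.2.2 (k + 1) (by omega))) W x hx

theorem isTrivFib_over {X : C} (K : SimplicialObject (FormalCoproduct.{u} (Over X)))
    [∀ (n : ℕ) (F : (SimplexCategory.Truncated n)ᵒᵖ ⥤ FormalCoproduct.{u} (Over X)),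
      (SimplexCategory.Truncated.inclusion n).op.HasRightKanExtension F]
    (hK : Hyper.IsHypercovering J X K) :
    IsTrivFib (J.over X) (toPt (K ⋙ FormalCoproduct.yoneda)) :=
  isTrivFib_toPt K (ptSieve_mem_over J _ hK.1) fun k W x hx =>
    loc_fill_of_isLocSurj K k ((isSRCovering_iff _ _).1 (hK.2 k)) W x hx

variable (J)

/-- `ℤ` as the sheafified free presheaf on the point -/
noncomputable def constSheafPointIso :
    (presheafToSheaf J AddCommGrpCat.{u}).obj
      ((Functor.const Cᵒᵖ).obj (AddCommGrpCat.free.{u}.obj PUnit.{u + 1})) ≅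
    (constantSheaf J AddCommGrpCat.{u}).obj (AddCommGrpCat.of (ULift.{u} ℤ)) :=
  (constantSheaf J AddCommGrpCat.{u}).mapIso
    (((FreeAbelianGroup.uniqueEquiv PUnit.{u + 1}).trans AddEquiv.ulift.symm).toAddCommGrpIso)

variable {J}

theorem freeChainCx_of_isTrivFib (K : SimplicialObject (FormalCoproduct.{u} C))
    (hv : IsTrivFib J (toPt (K ⋙ FormalCoproduct.yoneda))) :
    (∀ n, IsZero ((Hyper.freeChainCx J K).homology (n + 1))) ∧
      Nonempty ((Hyper.freeChainCx J K).homology 0 ≅
        (presheafToSheaf J AddCommGrpCat.{u}).obj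
          ((Functor.const Cᵒᵖ).obj (AddCommGrpCat.free.{u}.obj PUnit.{u + 1}))) := by
  let G := (Functor.whiskeringRight Cᵒᵖ (Type u) AddCommGrpCat.{u}).obj AddCommGrpCat.free.{u} ⋙
    presheafToSheaf J AddCommGrpCat.{u}
  let ed := (SimplicialObject.Augmented.ExtraDegeneracy.const (ptPresheaf (C := C))).map G
  let A : ChainComplex (Sheaf J AddCommGrpCat.{u}) ℕ := (alternatingFaceMapComplex _).obj
    ((SimplicialObject.const _).obj (ptPresheaf (C := C)) ⋙ G)
  let f : Hyper.freeChainCx J K ⟶ A :=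
    (alternatingFaceMapComplex _).map (Functor.whiskerRight (toPt (K ⋙ FormalCoproduct.yoneda)) G)
  let g : A ⟶ (ChainComplex.single₀ _).obj (G.obj ptPresheaf) := ed.homotopyEquiv.hom
  have hf : QuasiIso f := hv.quasiIso
  have hg : QuasiIso g := inferInstanceAs (QuasiIso ed.homotopyEquiv.hom)
  have hfg : QuasiIso (f ≫ g) := quasiIso_comp f g
  have e : ∀ n, (Hyper.freeChainCx J K).homology n ≅
      ((ChainComplex.single₀ _).obj (G.obj ptPresheaf)).homology n := fun n => by
    have : QuasiIsoAt (f ≫ g) n := hfg.quasiIsoAt n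
    exact isoOfQuasiIsoAt (f ≫ g) n
  refine ⟨fun n => ?_, ⟨e 0 ≪≫ HomologicalComplex.singleObjHomologySelfIso (ComplexShape.down ℕ) 0 (G.obj ptPresheaf) ≪≫
    (presheafToSheaf J AddCommGrpCat.{u}).mapIso (Functor.constComp Cᵒᵖ PUnit.{u + 1} AddCommGrpCat.free.{u})⟩⟩
  exact ((HomologicalComplex.exactAt_iff_isZero_homology _ _).1
    (ChainComplex.exactAt_succ_single_obj _ _)).of_iso (e (n + 1))

end Groth.HyperLib
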