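import Groth.Agent.HTopHyper.Hyper.TrivFibChains
import Mathlib.Algebra.Category.Grp.Abelian
import Mathlib.Algebra.Category.Grp.FilteredColimits
import Mathlib.Algebra.Homology.QuasiIso
import Mathlib.Algebra.Homology.ShortComplex.Ab
import Mathlib.CategoryTheory.Abelian.FunctorCategory
import Mathlib.CategoryTheory.Limits.Shapes.FiniteLimits
import Mathlib.CategoryTheory.Sites.Abelian
import Mathlib.CategoryTheory.Sites.LocallyBijective
import Mathlib.CategoryTheory.Sites.Localization
import Groth.Prelude.Def_SiteColimFix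

/-!
A locally trivial fibration induces a quasi-isomorphism of free abelian sheaf complexes.
-/

set_option autoImplicit false
set_option backward.isDefEq.respectTransparency false

universe u

open CategoryTheory CategoryTheory.Limits Opposite Simplicial AlgebraicTopology

namespace Groth.HyperLib

variable {C : Type u} [SmallCategory C] (J : GrothendieckTopology C)

/-- the free abelian presheaf complex -/
noncomputable abbrev freePCx :
    SimplicialObject (Cᵒᵖ ⥤ Type u) ⥤ ChainComplex (Cᵒᵖ ⥤ AddCommGrpCat.{u}) ℕ :=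
  (SimplicialObject.whiskering _ _).obj
    ((Functor.whiskeringRight Cᵒᵖ _ _).obj AddCommGrpCat.free.{u}) ⋙ alternatingFaceMapComplex _

lemma freePCx_d_app (K : SimplicialObject (Cᵒᵖ ⥤ Type u)) (n : ℕ) (W : C)
    (c : Chn (sec K W) (n + 1)) :
    ((freePCx.obj K).d (n + 1) n).app (op W) c = bd (sec K W) n c := by
  let evz : (((freePCx.obj K).X (n + 1)) ⟶ ((freePCx.obj K).X n)) →+ Chn (sec K W) n :=
    AddMonoidHom.mk' (fun f => f.app (op W) c) fun _ _ => rfl
  change evz _ = _
  rw [bd_apply]
  dsimp only [Functor.comp_obj]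
  rw [alternatingFaceMapComplex_obj_d, AlternatingFaceMapComplex.objD, map_sum]
  exact Finset.sum_congr rfl fun i _ => map_zsmul evz _ _

lemma freePCx_dFrom_eq_zero_iff (K : SimplicialObject (Cᵒᵖ ⥤ Type u)) (m : ℕ) (W : C)
    (c : Chn (sec K W) m) :
    ((freePCx.obj K).sc m).g.app (op W) c = 0 ↔ IsCyc (sec K W) c := by
  cases m with
  | zero =>
    simp only [HomologicalComplex.shortComplexFunctor_obj_g,
      (freePCx.obj K).shape 0 ((ComplexShape.down ℕ).next 0) (by simp)]
    exact ⟨fun _ => trivial, fun _ => rfl⟩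
  | succ m =>
    change ((freePCx.obj K).d (m + 1) _).app (op W) c = 0 ↔ _
    rw [ChainComplex.next_nat_succ]
    exact iff_of_eq (congrArg (· = 0) (freePCx_d_app K m W c))

lemma freePCx_dTo_app (K : SimplicialObject (Cᵒᵖ ⥤ Type u)) (m : ℕ) (W : C) (y : Chn (sec K W) m) :
    (∃ x, ((freePCx.obj K).sc m).f.app (op W) x = y) ↔ ∃ x, bd (sec K W) m x = y := by
  change (∃ x, ((freePCx.obj K).d _ m).app (op W) x = y) ↔ _
  rw [ChainComplex.prev]
  exact ⟨fun ⟨x, hx⟩ => ⟨x, (freePCx_d_app K m W x).symm.trans hx⟩,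
    fun ⟨x, hx⟩ => ⟨x, (freePCx_d_app K m W x).trans hx⟩⟩

section Elements

variable (S : ShortComplex (Cᵒᵖ ⥤ AddCommGrpCat.{u})) (c : Cᵒᵖ)

lemma iCycles_app_injective : Function.Injective (S.iCycles.app c) :=
  (AddCommGrpCat.mono_iff_injective _).1 inferInstance

lemma exists_cycle (x : S.X₂.obj c) (hx : S.g.app c x = 0) : ∃ z, S.iCycles.app c z = x := by
  have h : (ShortComplex.mk S.iCycles S.g S.iCycles_g).Exact :=
    ShortComplex.exact_of_f_is_kernel _ S.cyclesIsKernel
  exact (ShortComplex.ab_exact_iff _).1 (h.map ((evaluation Cᵒᵖ AddCommGrpCat.{u}).obj c)) x hx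

lemma iCycles_g_app (z : S.cycles.obj c) : S.g.app c (S.iCycles.app c z) = 0 :=
  ConcreteCategory.congr_hom (congr_app S.iCycles_g c) z

lemma homologyπ_app_surjective : Function.Surjective (S.homologyπ.app c) :=
  (AddCommGrpCat.epi_iff_surjective _).1 inferInstance

lemma homologyπ_app_eq_zero_iff (z : S.cycles.obj c) :
    S.homologyπ.app c z = 0 ↔ ∃ x, S.f.app c x = S.iCycles.app c z := by
  have h : (ShortComplex.mk S.toCycles S.homologyπ S.toCycles_comp_homologyπ).Exact :=
    ShortComplex.exact_of_g_is_cokernel _ S.homologyIsCokernel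
  constructor
  · intro hz
    obtain ⟨x, hx⟩ :=
      (ShortComplex.ab_exact_iff _).1 (h.map ((evaluation Cᵒᵖ AddCommGrpCat.{u}).obj c)) z hz
    exact ⟨x, (ConcreteCategory.congr_hom (congr_app S.toCycles_i c) x).symm.trans
      (congrArg (S.iCycles.app c) hx)⟩
  · rintro ⟨x, hx⟩
    have hz : S.toCycles.app c x = z := iCycles_app_injective S c
      ((ConcreteCategory.congr_hom (congr_app S.toCycles_i c) x).trans hx)
    rw [← hz]
    exact ConcreteCategory.congr_hom (congr_app S.toCycles_comp_homologyπ c) x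

end Elements

variable {J} {K L : SimplicialObject (Cᵒᵖ ⥤ Type u)} {v : K ⟶ L}

theorem IsTrivFib.isLocallyBijective_homologyMap (hv : IsTrivFib J v) (m : ℕ) :
    Presheaf.IsLocallyInjective J (HomologicalComplex.homologyMap (freePCx.map v) m) ∧
      Presheaf.IsLocallySurjective J (HomologicalComplex.homologyMap (freePCx.map v) m) := by
  let S := (freePCx.obj K).sc m
  let T := (freePCx.obj L).sc m
  let φ : S ⟶ T := (HomologicalComplex.shortComplexFunctor _ _ m).map (freePCx.map v)
  change Presheaf.IsLocallyInjective J (ShortComplex.homologyMap φ) ∧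
    Presheaf.IsLocallySurjective J (ShortComplex.homologyMap φ)
  have hπ : ∀ (W : Cᵒᵖ) (z : S.cycles.obj W),
      (ShortComplex.homologyMap φ).app W (S.homologyπ.app W z) =
        T.homologyπ.app W ((ShortComplex.cyclesMap φ).app W z) := fun W z =>
    ConcreteCategory.congr_hom (congr_app (ShortComplex.homologyπ_naturality φ) W) z
  have hi : ∀ (W : Cᵒᵖ) (z : S.cycles.obj W),
      T.iCycles.app W ((ShortComplex.cyclesMap φ).app W z) =
        φ.τ₂.app W (S.iCycles.app W z) := fun W z =>
    ConcreteCategory.congr_hom (congr_app (ShortComplex.cyclesMap_i φ) W) z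
  constructor
  · constructor
    intro W x y hxy
    suffices key : ∀ w : S.homology.obj W, (ShortComplex.homologyMap φ).app W w = 0 →
        Loc J W.unop (fun V g => S.homology.map g.op w = 0) by
      obtain ⟨R, hR, hR'⟩ := key (x - y) (by rw [map_sub, hxy, sub_self])
      refine J.superset_covering (fun V g hg => ?_) hR
      have := hR' g hg
      dsimp only at this
      rw [map_sub, sub_eq_zero] at this
      exact this
    intro w hw
    obtain ⟨z, rfl⟩ := homologyπ_app_surjective S W w
    rw [hπ] at hw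
    obtain ⟨e, he⟩ := (freePCx_dTo_app L m W.unop _).1 ((homologyπ_app_eq_zero_iff T W _).1 hw)
    rw [hi] at he
    refine (hv.exists_chain_bd_eq (S.iCycles.app W z)
      ((freePCx_dFrom_eq_zero_iff K m W.unop _).1 (iCycles_g_app S W z)) e he.symm).mono
      fun V g ⟨a, ha⟩ => ?_
    erw [← NatTrans.naturality_apply]
    refine (homologyπ_app_eq_zero_iff S _ _).2 ((freePCx_dTo_app K m V _).2 ⟨a, ha.trans ?_⟩)
    exact (NatTrans.naturality_apply S.iCycles g.op z).symm
  · constructor
    intro W t
    obtain ⟨z, rfl⟩ := homologyπ_app_surjective T (op W) t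
    obtain ⟨R, hR, hR'⟩ := hv.exists_cycle_lift (T.iCycles.app (op W) z)
      ((freePCx_dFrom_eq_zero_iff L m W _).1 (iCycles_g_app T _ z))
    refine J.superset_covering (fun V g hg => ?_) hR
    obtain ⟨a, ha, ha'⟩ := hR' g hg
    obtain ⟨z', rfl⟩ := exists_cycle S (op V) a ((freePCx_dFrom_eq_zero_iff K m V a).2 ha)
    refine ⟨S.homologyπ.app (op V) z', ?_⟩
    refine (hπ _ _).trans ?_
    erw [← NatTrans.naturality_apply]
    refine congrArg _ (iCycles_app_injective T _ ?_)
    rw [hi]
    exact ha'.trans (NatTrans.naturality_apply T.iCycles g.op z).symm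

/-- a locally trivial fibration gives a quasi-isomorphism of free abelian sheaf complexes -/
theorem IsTrivFib.quasiIso (hv : IsTrivFib J v) :
    QuasiIso ((alternatingFaceMapComplex (Sheaf J AddCommGrpCat.{u})).map
      (Functor.whiskerRight v ((Functor.whiskeringRight Cᵒᵖ (Type u) AddCommGrpCat.{u}).obj
        AddCommGrpCat.free.{u} ⋙ presheafToSheaf J AddCommGrpCat.{u}))) := by
  let F := presheafToSheaf J AddCommGrpCat.{u}
  have h1 : ∀ m, IsIso (HomologicalComplex.homologyMap
      ((F.mapHomologicalComplex _).map (freePCx.map v)) m) := by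
    intro m
    let φ := (HomologicalComplex.shortComplexFunctor _ _ m).map (freePCx.map v)
    have : IsIso (F.map (ShortComplex.homologyMap φ)) := by
      have hh := hv.isLocallyBijective_homologyMap m
      have : Presheaf.IsLocallyInjective J (ShortComplex.homologyMap φ) := hh.1
      have : Presheaf.IsLocallySurjective J (ShortComplex.homologyMap φ) := hh.2
      exact (J.W_iff _).1 (J.W_of_isLocallyBijective _)
    have e := ShortComplex.mapHomologyIso_hom_naturality φ F
    have : IsIso (ShortComplex.homologyMap (F.mapShortComplex.map φ)) := by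
      rw [(Iso.eq_comp_inv _).2 e]
      infer_instance
    exact this
  have h2 : QuasiIso ((F.mapHomologicalComplex _).map (freePCx.map v)) :=
    ⟨fun m => (quasiIsoAt_iff_isIso_homologyMap _ m).2 (h1 m)⟩
  let w := Functor.whiskerRight v
    ((Functor.whiskeringRight Cᵒᵖ (Type u) AddCommGrpCat.{u}).obj AddCommGrpCat.free.{u})
  have e := congr_arrow F w
  exact (quasiIso_iff_of_arrow_mk_iso _ _ (eqToIso e)).1 h2
where
  congr_arrow (F : (Cᵒᵖ ⥤ AddCommGrpCat.{u}) ⥤ Sheaf J AddCommGrpCat.{u}) [F.Additive]
      {A B : SimplicialObject (Cᵒᵖ ⥤ AddCommGrpCat.{u})} (w : A ⟶ B) :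
      Arrow.mk ((F.mapHomologicalComplex _).map ((alternatingFaceMapComplex _).map w)) =
        Arrow.mk ((alternatingFaceMapComplex _).map
          (((SimplicialObject.whiskering _ _).obj F).map w)) :=
    congrArg (fun G : SimplicialObject (Cᵒᵖ ⥤ AddCommGrpCat.{u}) ⥤
      ChainComplex (Sheaf J AddCommGrpCat.{u}) ℕ => Arrow.mk (G.map w)) (map_alternatingFaceMapComplex F)

end Groth.HyperLib
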